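import Cfsg.Agent.Lib.PGroup.Critical
import Cfsg.Agent.Lib.LocalEvenSix.FixSmall
import Mathlib.GroupTheory.SemidirectProduct

/-!
# A characteristic subgroup of small exponent detecting coprime automorphisms

Every finite `p`-group has a characteristic subgroup all of whose elements have order dividing `p`
(dividing `4` for `p = 2`) on which no non-trivial automorphism of order prime to `p` is trivial.
-/

namespace CfsgLib.FusionNormal

open scoped commutatorElement

/-- `x^p = 1`, or `p = 2` and `x^4 = 1`. -/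
def IsSmall {G : Type*} [Group G] (p : ℕ) (x : G) : Prop := x ^ p = 1 ∨ (p = 2 ∧ x ^ 4 = 1)

theorem IsSmall.map {G H : Type*} [Group G] [Group H] {p : ℕ} {x : G} (h : IsSmall p x) (f : G →* H) :
    IsSmall p (f x) := by
  rcases h with h | ⟨h2, h⟩
  · exact Or.inl (by rw [← map_pow, h, map_one])
  · exact Or.inr ⟨h2, by rw [← map_pow, h, map_one]⟩

theorem isSmall_coe_iff {G : Type*} [Group G] {p : ℕ} {H : Subgroup G} {x : H} :
    IsSmall p (x : G) ↔ IsSmall p x := by
  simp only [IsSmall, ← Subgroup.coe_pow, OneMemClass.coe_eq_one]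

theorem fix_of_step {X : Type*} [Group X] {p : ℕ} [Fact p.Prime] (hX : IsPGroup p X) (b : MulAut X)
    (hb : (orderOf b).Coprime p) {x : X} (hy : b (x⁻¹ * b x) = x⁻¹ * b x) : b x = x := by
  set y := x⁻¹ * b x with hydef
  have hxy : b x = x * y := by rw [hydef, mul_inv_cancel_left]
  have hpow : ∀ m : ℕ, (b ^ m) x = x * y ^ m := by
    intro m
    induction m with
    | zero => simp
    | succ m ih => rw [pow_succ', MulAut.mul_apply, ih, map_mul, map_pow, hy, hxy, pow_succ', mul_assoc]
  have h1 := hpow (orderOf b)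
  rw [pow_orderOf_eq_one, MulAut.one_apply, eq_comm, mul_eq_left] at h1
  obtain ⟨k, hk⟩ := hX y
  have h2 : y = 1 := orderOf_eq_one_iff.mp (Nat.eq_one_of_dvd_coprimes (Nat.Coprime.pow_right k hb)
    (orderOf_dvd_of_pow_eq_one h1) (orderOf_dvd_of_pow_eq_one hk))
  rw [hxy, h2, mul_one]

variable {p : ℕ} [Fact p.Prime]

/-- An automorphism of order prime to `p` fixing the small elements of an invariant `p`-subgroup
fixes this subgroup. -/
theorem fix_of_fix_small {X : Type*} [Group X] [Finite X] (b : MulAut X)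
    (hb : (orderOf b).Coprime p) (H : Subgroup X) (hH : IsPGroup p H) (hinv : ∀ x ∈ H, b x ∈ H)
    (hfix : ∀ x ∈ H, IsSmall p x → b x = x) : ∀ x ∈ H, b x = x := by
  have : Finite (MulAut X) := Finite.of_injective (fun f : MulAut X => (f : X → X)) DFunLike.coe_injective
  let G := X ⋊[MonoidHom.id (MulAut X)] MulAut X
  have : Finite G := Finite.of_equiv _ SemidirectProduct.equivProd.symm
  let a : G := SemidirectProduct.inr b
  have key : ∀ x : X, a * SemidirectProduct.inl x * a⁻¹ = SemidirectProduct.inl (b x) := fun x => by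
    rw [← map_inv]; exact (SemidirectProduct.inl_aut b x).symm
  have hcomm : ∀ x : X, a * SemidirectProduct.inl x = SemidirectProduct.inl x * a ↔ b x = x := fun x => by
    rw [← mul_inv_eq_iff_eq_mul, key, SemidirectProduct.inl_inj]
  intro x hx
  refine (hcomm x).mp (CfsgLib.LocalEvenSix.fixes_of_fixes_small a ?_ _ (H.map SemidirectProduct.inl) rfl
    (hH.map _) ?_ ?_ _ ⟨x, hx, rfl⟩)
  · rw [orderOf_injective _ SemidirectProduct.inr_injective]; exact hb
  · rintro _ ⟨y, hy, rfl⟩
    exact ⟨b y, hinv y hy, (key y).symm⟩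
  · rintro _ ⟨y, hy, rfl⟩ hyp
    refine (hcomm y).mpr (hfix y hy ?_)
    simpa [← map_pow, IsSmall, map_eq_one_iff _ SemidirectProduct.inl_injective] using hyp

/-- A characteristic subgroup of small exponent on which coprime automorphisms act faithfully. -/
theorem exists_small_char {P : Type*} [Group P] [Finite P] (hP : IsPGroup p P) :
    ∃ W : Subgroup P, W.Characteristic ∧ (∀ x ∈ W, IsSmall p x) ∧
      ∀ b : MulAut P, (orderOf b).Coprime p → (∀ x ∈ W, b x = x) → b = 1 := by
  obtain ⟨H, hH, hCH, hcomm, hpow⟩ := CfsgLib.PGroup.exists_critical hP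
  set e : ℕ := if p = 2 then 4 else p with he
  have hchar : ∀ (φ : P ≃* P) (x : P), x ∈ H → φ x ∈ H := fun φ x hx =>
    (Subgroup.characteristic_iff_le_comap.mp hH φ) hx
  have hcen : ∀ y x : H, ⁅y, x⁆ ∈ Subgroup.center H ∧ ⁅y, x⁆ ^ p = 1 := by
    intro y x
    have h1 : ⁅y, x⁆ ∈ Subgroup.center H := Subgroup.mem_center_iff.mpr fun g =>
      Subtype.ext ((hcomm y x x.2).2 g g.2)
    refine ⟨h1, ?_⟩
    rw [← CfsgLib.PGroup.commutatorElement_pow_right_of_central h1, commutatorElement_eq_one_iff_mul_comm]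
    exact Subtype.ext ((hpow x x.2).2 y y.2)
  have hmul : ∀ x y : H, x ^ e = 1 → y ^ e = 1 → (x * y) ^ e = 1 := by
    intro x y hx hy
    rw [CfsgLib.PGroup.mul_pow_of_central (hcen y x).1, hx, hy, one_mul, one_mul]
    by_cases h2 : p = 2
    · have h3 : e.choose 2 = p * 3 := by
        simp only [he, h2, if_true]; rfl
      rw [h3, pow_mul, (hcen y x).2, one_pow]
    · obtain ⟨q, hq⟩ := (Fact.out : p.Prime).dvd_choose_self two_ne_zero
        (lt_of_le_of_ne (Fact.out : p.Prime).two_le (Ne.symm h2))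
      have h3 : e = p := by simp [he, h2]
      rw [h3, hq, pow_mul, (hcen y x).2, one_pow]
  let W : Subgroup P :=
    { carrier := {x | x ∈ H ∧ x ^ e = 1}
      one_mem' := ⟨H.one_mem, one_pow _⟩
      mul_mem' := fun {x y} hx hy => ⟨H.mul_mem hx.1 hy.1, congrArg Subtype.val
        (hmul ⟨x, hx.1⟩ ⟨y, hy.1⟩ (Subtype.ext hx.2) (Subtype.ext hy.2))⟩
      inv_mem' := fun {x} hx => ⟨H.inv_mem hx.1, by rw [inv_pow, hx.2, inv_one]⟩ }
  refine ⟨W, ?_, ?_, fun b hb hW => ?_⟩
  · rw [Subgroup.characteristic_iff_le_comap]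
    exact fun φ x hx => ⟨hchar φ x hx.1, show φ x ^ e = 1 by rw [← map_pow, hx.2, map_one]⟩
  · intro x hx
    have := hx.2
    by_cases h2 : p = 2
    · exact Or.inr ⟨h2, by simpa [he, h2] using this⟩
    · exact Or.inl (by simpa [he, h2] using this)
  · have hfixH : ∀ x ∈ H, b x = x := by
      refine fix_of_fix_small b hb H (hP.to_subgroup H) (hchar b) fun x hx hs => hW x ⟨hx, ?_⟩
      rcases hs with hs | ⟨h2, hs⟩
      · by_cases h2 : p = 2
        · subst h2
          rw [show e = 2 * 2 by simp [he], pow_mul, hs, one_pow]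
        · simpa [he, h2] using hs
      · simpa [he, h2] using hs
    refine MulEquiv.ext fun x => ?_
    refine fix_of_step hP b hb (hfixH _ (hCH ?_))
    intro h hh
    have hn : H.Normal := inferInstance
    have h3 := hfixH _ (hn.conj_mem h hh x)
    rw [map_mul, map_mul, map_inv, hfixH h hh] at h3
    show h * (x⁻¹ * b x) = x⁻¹ * b x * h
    calc h * (x⁻¹ * b x) = x⁻¹ * (x * h * x⁻¹) * b x := by group
      _ = x⁻¹ * (b x * h * (b x)⁻¹) * b x := by rw [h3]
      _ = x⁻¹ * b x * h := by group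

end CfsgLib.FusionNormal
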