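import Cfsg.Agent.Lib.FusionNormal.Maps
import Cfsg.Agent.Lib.Fusion.Normal

/-!
# Inner fusion systems as subsystems; transport inside invariant subsystems
-/

namespace CfsgLib.FusionNormal

open Cfsg Cfsg.FusionSystem CfsgLib.Fusion

variable {Ω : Type*} [Group Ω] {S : Subgroup Ω} {F : FusionSystem S} {Q : Subgroup Ω}

theorem mapFn_inner {P : Subgroup Ω} {f : Ω → Ω} :
    MapFn (innerFusionSystem S) P f ↔ P ≤ S ∧ ∃ g ∈ S, ∀ x ∈ P, f x = g * x * g⁻¹ := by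
  constructor
  · rintro ⟨φ, ⟨hP, g, hg, he⟩, hφ⟩
    exact ⟨hP, g, hg, fun x hx => (hφ ⟨x, hx⟩).symm.trans (he ⟨x, hx⟩)⟩
  · rintro ⟨hP, g, hg, he⟩
    exact ⟨conjHom P g, (innerFusionSystem S).conj_mem hP hg, fun x => (he x x.2).symm⟩

theorem autGroup_inner_self : (innerFusionSystem S).autGroup S = Inn S := by
  refine le_antisymm (fun α hα => ?_) (inn_le_autGroup le_rfl)
  obtain ⟨-, g, hg, he⟩ := (mem_autGroup le_rfl).mp hα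
  exact mem_inn.mpr ⟨⟨g, hg⟩, fun x => Subtype.ext (he x)⟩

theorem inner_saturated [Finite S] {p : ℕ} [Fact p.Prime] (hS : IsPGroup p S) :
    (innerFusionSystem S).IsSaturated p := by
  refine saturated_of_top_and_receptive hS (fullyAutomized_iff.mpr ⟨le_rfl, ?_⟩) fun P hP => ?_
  · haveI := finite_mulAut (le_refl S)
    obtain ⟨n, hn⟩ := IsPGroup.iff_card.mp (isPGroup_autInducedBy hS S)
    rw [autGroup_inner_self, ← autInducedBy_self, hn]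
    simp [(Fact.out : p.Prime).factorization_self]
  · refine ⟨hP.1, fun R φ hφ _ => ?_⟩
    obtain ⟨-, g, hg, he⟩ := hφ
    exact ⟨conjHom _ g,
      (innerFusionSystem S).conj_mem (extender_le_normalizerIn.trans normalizerIn_le) hg,
      fun x hx _ => (he ⟨x, hx⟩).symm⟩

theorem inner_isSubsystemOf (hQ : Q ≤ S) : (innerFusionSystem Q).IsSubsystemOf F := by
  rintro P φ ⟨hP, g, hg, h⟩
  exact mem_of_conj (hP.trans hQ) (hQ hg) h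

/-- The inner system of a normal subgroup is weakly normal. -/
theorem inner_isWeaklyNormalIn [Finite S] {p : ℕ} [Fact p.Prime] (hS : IsPGroup p S)
    (hF : F.IsSaturated p) (hQ : F.IsNormal Q) : (innerFusionSystem Q).IsWeaklyNormalIn F p := by
  haveI := finite_of_le hQ.1
  refine ⟨inner_saturated (hS.to_le hQ.1), hF, inner_isSubsystemOf hQ.1,
    Fusion.IsNormal.stronglyClosed hQ, ?_, ?_⟩
  · rintro P hPQ φ ⟨-, g, hg, hφ⟩ α hα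
    refine ⟨conjHom _ ((α ⟨g, hg⟩ : Q) : Ω), (innerFusionSystem Q).conj_mem ?_ (α ⟨g, hg⟩).2,
      fun x hφx hαx => ?_⟩
    · rintro _ ⟨y, -, rfl⟩; exact (α y).2
    · show ((α ⟨g, hg⟩ : Q) : Ω) * ((α ⟨x, hPQ x.2⟩ : Q) : Ω) * ((α ⟨g, hg⟩ : Q) : Ω)⁻¹ = _
      have e : (⟨φ x, hφx⟩ : Q) = ⟨g, hg⟩ * ⟨x, hPQ x.2⟩ * (⟨g, hg⟩ : Q)⁻¹ := Subtype.ext (hφ x)
      rw [e, map_mul, map_mul, map_inv]
      rfl
  · intro P hPQ φ hφ
    obtain ⟨α, hα, hαe⟩ := (isNormal_iff_maps_extend hS hF hQ.1).mp hQ P hPQ φ hφ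
    exact ⟨α, hα, P.subtype, subtype_mem hPQ, fun x hx => (hαe x).symm⟩

/-- The inner system of a normal subgroup is a normal subsystem. -/
theorem inner_isNormalIn [Finite S] {p : ℕ} [Fact p.Prime] (hS : IsPGroup p S) (hF : F.IsSaturated p)
    (hQ : F.IsNormal Q) : (innerFusionSystem Q).IsNormalIn F p := by
  refine ⟨inner_isWeaklyNormalIn hS hF hQ, fun α hα => ?_⟩
  obtain ⟨-, g, hg, he⟩ := (mem_autGroup le_rfl).mp hα
  have hle : Q ⊔ centralizerIn S Q ≤ S := sup_le hQ.1 centralizerIn_le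
  obtain ⟨β, hβ, hβe⟩ := exists_autInducedBy (K := S) (P := Q ⊔ centralizerIn S Q) (hQ.1 hg)
    (Subgroup.le_normalizer (Subgroup.mem_sup_left hg))
  refine ⟨β, autInducedBy_le_autGroup hle hβ, fun x => ?_, fun c hc => ?_⟩
  · rw [hβe]; exact (he x).symm
  · rw [hβe, (mem_centralizerIn.mp hc).2 g hg, mul_inv_cancel_right, inv_mul_cancel]
    exact Subgroup.one_mem _

variable {T : Subgroup Ω} {E : FusionSystem T}

/-- Invariance, for maps as functions: `a f a⁻¹` is a map of the subsystem on `a(P)`. -/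
theorem mapFn_transport (hE : E.IsInvariantIn F) {P P' : Subgroup Ω} {f a : Ω → Ω}
    (hf : MapFn E P f) (ha : MapFn F T a) (har : a '' T = (T : Set Ω)) (hP' : a '' P = (P' : Set Ω)) :
    ∃ χ, MapFn E P' χ ∧ ∀ x ∈ P, χ (a x) = a (f x) := by
  obtain ⟨α, hα, hαe⟩ := ha.exists_aut har
  obtain ⟨φ, hφ, hφe⟩ := hf
  obtain ⟨χ, hχ, hχe⟩ := hE.2.2.1 P (Fusion.le_S hφ) φ hφ α hα
  have hP'eq : (P.subgroupOf T).map (T.subtype.comp α.toMonoidHom) = P' := by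
    ext y
    rw [← SetLike.mem_coe (p := P'), ← hP']
    constructor
    · rintro ⟨x, hx, rfl⟩; exact ⟨x, hx, (hαe x).symm⟩
    · rintro ⟨x, hx, rfl⟩; exact ⟨⟨x, Fusion.le_S hφ hx⟩, hx, hαe _⟩
  subst hP'eq
  obtain ⟨c, hc, hce⟩ := mapFn_of_hom hχ
  refine ⟨c, hc, fun x hx => ?_⟩
  have hT : φ ⟨x, hx⟩ ∈ T := (E.le_of_mem hφ).2 _
  have h := hχe ⟨x, hx⟩ hT ⟨⟨x, Fusion.le_S hφ hx⟩, hx, rfl⟩
  have h1 := hce ⟨((α ⟨x, Fusion.le_S hφ hx⟩ : T) : Ω), ⟨⟨x, Fusion.le_S hφ hx⟩, hx, rfl⟩⟩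
  have h0 : ((α ⟨φ ⟨x, hx⟩, hT⟩ : T) : Ω) = c ((α ⟨x, Fusion.le_S hφ hx⟩ : T) : Ω) := h.symm.trans h1
  rw [hαe, hαe] at h0
  refine h0.symm.trans ?_
  show a (φ ⟨x, hx⟩) = a (f x)
  rw [hφe]

/-- The Frattini condition, for maps as functions. -/
theorem mapFn_frattini (hE : E.IsInvariantIn F) {P : Subgroup Ω} (hP : P ≤ T) {f : Ω → Ω}
    (hf : MapFn F P f) :
    ∃ a f₀, MapFn F T a ∧ a '' T = (T : Set Ω) ∧ MapFn E P f₀ ∧ ∀ x ∈ P, f x = a (f₀ x) := by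
  obtain ⟨φ, hφ, hφe⟩ := hf
  obtain ⟨α, hα, φ₀, hφ₀, h⟩ := hE.2.2.2 P hP φ hφ
  obtain ⟨a, ha, har, hae⟩ := exists_mapFn_of_aut hE.2.1.1 hα
  obtain ⟨f₀, hf₀, hf₀e⟩ := mapFn_of_hom hφ₀
  refine ⟨a, f₀, ha, har, hf₀, fun x hx => ?_⟩
  have h1 := h ⟨x, hx⟩ ((E.le_of_mem hφ₀).2 _)
  rw [hφe, ← hae] at h1
  rw [h1]
  exact congrArg a (hf₀e ⟨x, hx⟩)

theorem mapFn_of_sub {T : Subgroup Ω} {E : FusionSystem T} (h : E.IsSubsystemOf F) {P : Subgroup Ω}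
    {f : Ω → Ω} (hf : MapFn E P f) : MapFn F P f :=
  hom_subset_iff_mapFn.mp (h P) f hf

/-- Normality, for maps as functions. -/
theorem isNormal_mapFn (hQ : F.IsNormal Q) {P : Subgroup Ω} {f : Ω → Ω} (hf : MapFn F P f) :
    ∃ g, MapFn F (P ⊔ Q) g ∧ (∀ x ∈ P, g x = f x) ∧ g '' Q = (Q : Set Ω) := by
  obtain ⟨φ, hφ, he⟩ := hf
  obtain ⟨ψ, hψ, hψe, hψQ⟩ := hQ.2 P φ hφ
  obtain ⟨g, hg, hge⟩ := mapFn_of_hom hψ
  refine ⟨g, hg, fun x hx => ?_, ?_⟩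
  · exact ((hge ⟨x, Subgroup.mem_sup_left hx⟩).symm.trans (hψe ⟨x, hx⟩)).trans (he ⟨x, hx⟩)
  · ext y
    constructor
    · rintro ⟨x, hx, rfl⟩
      have h := hge ⟨x, Subgroup.mem_sup_right hx⟩
      rw [← h]
      exact hψQ.le ⟨_, hx, rfl⟩
    · intro hy
      obtain ⟨x, hx, rfl⟩ := hψQ.ge hy
      exact ⟨x, hx, (hge x).symm⟩

theorem isNormal_of_mapFn (hQS : Q ≤ S)
    (h : ∀ P f, MapFn F P f → ∃ g, MapFn F (P ⊔ Q) g ∧ (∀ x ∈ P, g x = f x) ∧ g '' Q = (Q : Set Ω)) :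
    F.IsNormal Q := by
  refine ⟨hQS, fun P φ hφ => ?_⟩
  obtain ⟨f, hf, he⟩ := mapFn_of_hom hφ
  obtain ⟨g, ⟨ψ, hψ, hψe⟩, hgP, hgQ⟩ := h P f hf
  refine ⟨ψ, hψ, fun x => by rw [hψe]; exact (hgP x x.2).trans (he x).symm, SetLike.coe_injective ?_⟩
  rw [← hgQ]
  ext y
  constructor
  · rintro ⟨x, hx, rfl⟩; exact ⟨x, hx, (hψe x).symm⟩
  · rintro ⟨x, hx, rfl⟩; exact ⟨⟨x, Subgroup.mem_sup_right hx⟩, hx, hψe _⟩

end CfsgLib.FusionNormal
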