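import Cfsg.Agent.Lib.FusionNormal.Inner
import Cfsg.Agent.Lib.Fusion.PAut
import Cfsg.Agent.Lib.Fusion.ExtSaturated
import Cfsg.Agent.Lib.PLocal.Thompson

/-!
# Systems all of whose automorphisms normalizing a given subgroup have `p`-power order
-/

set_option autoImplicit false

namespace CfsgLib.FusionNormal

open Cfsg Cfsg.FusionSystem CfsgLib.Fusion

variable {Ω : Type*} [Group Ω] {S : Subgroup Ω} {F : FusionSystem S} {P Q R W X : Subgroup Ω}
  {p : ℕ}

/-- Every map of the system that stabilizes `P` and `W` has `p`-power order on `P`. -/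
def AutPAt (F : FusionSystem S) (p : ℕ) (W : Subgroup Ω) : Prop :=
  ∀ P : Subgroup Ω, P ≤ S → ∀ f : Ω → Ω, MapFn F (P ⊔ W) f → f '' P = (P : Set Ω) →
    f '' W = (W : Set Ω) → ∃ k : ℕ, ∀ x ∈ P, f^[p ^ k] x = x

/-- Every automorphism in the system has `p`-power order. -/
def AutP (F : FusionSystem S) (p : ℕ) : Prop :=
  ∀ P : Subgroup Ω, P ≤ S → ∀ f : Ω → Ω, MapFn F P f → f '' P = (P : Set Ω) →
    ∃ k : ℕ, ∀ x ∈ P, f^[p ^ k] x = x

theorem iterate_mem {f : Ω → Ω} (hf : f '' P = (P : Set Ω)) (n : ℕ) {x : Ω} (hx : x ∈ P) :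
    f^[n] x ∈ P := by
  induction n generalizing x with
  | zero => exact hx
  | succ n ih => exact ih (mem_of_image hf hx)

theorem iterate_congr {f g : Ω → Ω} (hf : f '' P = (P : Set Ω)) (h : ∀ x ∈ P, g x = f x) (n : ℕ)
    {x : Ω} (hx : x ∈ P) : g^[n] x = f^[n] x := by
  induction n generalizing x with
  | zero => rfl
  | succ n ih =>
    rw [Function.iterate_succ_apply, Function.iterate_succ_apply, h x hx]
    exact ih (mem_of_image hf hx)

theorem iterate_intertwine {α β : Type*} {f : α → α} {g : β → β} {k : α → β} {A : Set α}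
    (hm : ∀ x ∈ A, f x ∈ A) (h : ∀ x ∈ A, k (f x) = g (k x)) (n : ℕ) {x : α} (hx : x ∈ A) :
    k (f^[n] x) = g^[n] (k x) := by
  induction n generalizing x with
  | zero => rfl
  | succ n ih => rw [Function.iterate_succ_apply, Function.iterate_succ_apply, ih (hm x hx), h x hx]

theorem MapFn.iterate {f : Ω → Ω} (h : MapFn F P f) (hf : f '' P = (P : Set Ω)) :
    ∀ n : ℕ, MapFn F P f^[n]
  | 0 => mapFn_id h.le_S
  | n + 1 => by
    rw [Function.iterate_succ]
    exact h.comp (MapFn.iterate h hf n) fun x hx => mem_of_image hf hx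

theorem iterate_fix_mul {f : Ω → Ω} {a b : ℕ} {x : Ω} (h : f^[a] x = x) : f^[a * b] x = x := by
  induction b with
  | zero => simp
  | succ b ih => rw [Nat.mul_succ, Function.iterate_add_apply, h, ih]

theorem iterate_fix_pow {f : Ω → Ω} {k l : ℕ} {x : Ω} (hkl : k ≤ l) (h : f^[p ^ k] x = x) :
    f^[p ^ l] x = x := by
  rw [← Nat.add_sub_cancel' hkl, pow_add]; exact iterate_fix_mul h

theorem iterate_conj {f : Ω → Ω} {g : Ω} (hf : f '' P = (P : Set Ω))
    (h : ∀ x ∈ P, f x = g * x * g⁻¹) (n : ℕ) {x : Ω} (hx : x ∈ P) :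
    f^[n] x = g ^ n * x * (g ^ n)⁻¹ := by
  induction n generalizing x with
  | zero => simp
  | succ n ih =>
    rw [Function.iterate_succ_apply, ih (mem_of_image hf hx), h x hx]
    simp [pow_succ, mul_assoc]

theorem conj_pPower (hS : IsPGroup p S) {f : Ω → Ω} {g : Ω} (hg : g ∈ S)
    (hf : f '' P = (P : Set Ω)) (h : ∀ x ∈ P, f x = g * x * g⁻¹) :
    ∃ k : ℕ, ∀ x ∈ P, f^[p ^ k] x = x := by
  obtain ⟨k, hk⟩ := hS ⟨g, hg⟩
  have hk' : g ^ p ^ k = 1 := congrArg Subtype.val hk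
  exact ⟨k, fun x hx => by rw [iterate_conj hf h _ hx, hk']; simp⟩

theorem mapFn_normalizer [Finite S] {E : FusionSystem (normalizerIn S X)}
    (hE : F.IsNormalizerSystem X E) {f : Ω → Ω} (hf : MapFn F (P ⊔ X) f) (hP : P ≤ normalizerIn S X)
    (hX : f '' X = (X : Set Ω)) (hval : ∀ x ∈ P, f x ∈ normalizerIn S X) : MapFn E P f := by
  obtain ⟨χ, hχ, hχe⟩ := hf.mono (le_sup_left : P ≤ P ⊔ X)
  obtain ⟨ψ, hψ, hψe⟩ := hf
  refine ⟨χ, ?_, hχe⟩
  rw [hE]
  refine ⟨hχ, hP, fun x => (hχe x) ▸ hval x x.2, ψ, hψ, fun x => (hψe _).trans (hχe x).symm, ?_⟩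
  apply SetLike.coe_injective
  rw [← hX]
  ext y
  simp only [SetLike.mem_coe, mem_map_subgroupOf]
  constructor
  · rintro ⟨x, hx, rfl⟩
    exact ⟨x, hx, (hψe x).symm⟩
  · rintro ⟨x, hx, rfl⟩
    exact ⟨⟨x, Subgroup.mem_sup_right hx⟩, hx, hψe _⟩

/-- An automorphism-wise `p`-system is inner. -/
theorem eq_inner_of_autP [Finite S] [Fact p.Prime] (hS : IsPGroup p S) (hF : F.IsSaturated p)
    (h : AutP F p) : ∀ P, F.Hom P = (innerFusionSystem S).Hom P := by
  refine eq_inner_of_pGroup_autGroups hS hF fun P hP => ?_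
  rintro ⟨α, hα⟩
  obtain ⟨f, hf, hfP, hfe⟩ := exists_mapFn_of_aut hP.1 hα
  obtain ⟨k, hk⟩ := h P hP.1 f hf hfP
  have hpow : ∀ (n : ℕ) (x : P), (((α ^ n : MulAut P) x : P) : Ω) = f^[n] (x : Ω) := by
    intro n
    induction n with
    | zero => intro x; rfl
    | succ n ih =>
      intro x
      rw [pow_succ, MulAut.mul_apply, ih, ← hfe, Function.iterate_succ_apply]
  refine ⟨k, Subtype.ext (MulEquiv.ext fun x => Subtype.ext ?_)⟩
  rw [Subgroup.coe_pow, hpow]
  exact hk x x.2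

/-- The hypothesis of the criterion from the normalizer system. -/
theorem autPAt_of_inner [Finite S] (hS : IsPGroup p S) (hW : W ≤ S)
    (hWn : S ≤ Subgroup.normalizer (W : Set Ω))
    (h : ∀ N : FusionSystem (normalizerIn S W), F.IsNormalizerSystem W N →
      ∀ P, N.Hom P = (innerFusionSystem (normalizerIn S W)).Hom P) : AutPAt F p W := by
  intro P hP f hf hfP hfW
  set N := extSystem F hW ⊤ (normalizerIn S W) isKNormalizer_top
  have hN : F.IsNormalizerSystem W N := fun Q => extHom_top F W Q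
  have hE : normalizerIn S W = S := inf_eq_left.mpr hWn
  have hm := mapFn_normalizer hN hf (hP.trans hE.ge) hfW fun x hx =>
    hE.ge (hP (mem_of_image hfP hx))
  obtain ⟨φ, hφ, hφe⟩ := hm
  rw [h N hN] at hφ
  obtain ⟨-, g, hg, hge⟩ := hφ
  exact conj_pPower hS (hE.le hg) hfP fun x hx => (hφe ⟨x, hx⟩).symm.trans (hge ⟨x, hx⟩)

/-- The number of maps of a system, counted through their graphs. -/
noncomputable def mapCount (F : FusionSystem S) : ℕ :=
  {g : Set (Ω × Ω) | ∃ (P : Subgroup Ω) (φ : P →* Ω), φ ∈ F.Hom P ∧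
    g = Set.range fun x : P => ((x : Ω), φ x)}.ncard

theorem mapCount_lt [Finite S] {T : Subgroup Ω} {E : FusionSystem T} (hE : E.IsSubsystemOf F)
    (hne : ∃ (P : Subgroup Ω) (φ : P →* Ω), φ ∈ F.Hom P ∧ φ ∉ E.Hom P) :
    mapCount E < mapCount F := by
  apply Set.ncard_lt_ncard
  · refine Set.ssubset_iff_subset_ne.mpr ⟨?_, ?_⟩
    · rintro g ⟨P, φ, hφ, rfl⟩
      exact ⟨P, φ, hE P hφ, rfl⟩
    · intro heq
      obtain ⟨P, φ, hφ, hn⟩ := hne
      have hm : (Set.range fun x : P => ((x : Ω), φ x)) ∈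
          {g : Set (Ω × Ω) | ∃ (P : Subgroup Ω) (φ : P →* Ω), φ ∈ F.Hom P ∧
            g = Set.range fun x : P => ((x : Ω), φ x)} := ⟨P, φ, hφ, rfl⟩
      rw [← heq] at hm
      obtain ⟨Q, ψ, hψ, he⟩ := hm
      obtain rfl : P = Q := by
        refine SetLike.coe_injective ?_
        have h1 := congrArg (Set.image Prod.fst) he
        simpa [← Set.range_comp, Function.comp_def] using h1
      refine hn ((?_ : φ = ψ) ▸ hψ)
      ext x
      obtain ⟨y, hy⟩ := he.le (⟨x, rfl⟩ : ((x : Ω), φ x) ∈ Set.range fun z : P => ((z : Ω), φ z))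
      obtain rfl : y = x := Subtype.ext (congrArg Prod.fst hy)
      exact (congrArg Prod.snd hy).symm
  · have hfin : (S : Set Ω).Finite := (S : Set Ω).toFinite
    refine ((hfin.prod hfin).finite_subsets).subset ?_
    rintro g ⟨P, φ, hφ, rfl⟩
    rintro _ ⟨x, rfl⟩
    exact ⟨le_S hφ x.2, apply_mem_S hφ x⟩

/-- An injective map stabilizing `D` stabilizes `Z(J(D))`. -/
theorem MapFn.image_centerJ {f : Ω → Ω} {M D : Subgroup Ω} (hf : MapFn F M f) (hDM : D ≤ M)
    (hD : f '' D = (D : Set Ω)) :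
    f '' (PLocal.centerJ 0 D : Set Ω) = (PLocal.centerJ 0 D : Set Ω) := by
  obtain ⟨φ, hφ, he⟩ := hf
  have hinj := F.injective_of_mem hφ
  have hmap : ∀ A : Subgroup Ω, A ≤ M → (((A.subgroupOf M).map φ : Subgroup Ω) : Set Ω) = f '' A := by
    intro A hA
    ext y
    simp only [SetLike.mem_coe, mem_map_subgroupOf, Set.mem_image]
    exact ⟨fun ⟨x, hx, h⟩ => ⟨x, hx, (he x).symm.trans h⟩,
      fun ⟨x, hx, h⟩ => ⟨⟨x, hA hx⟩, hx, (he _).trans h⟩⟩
  have hD' : (D.subgroupOf M).map φ = D := SetLike.coe_injective ((hmap D hDM).trans hD)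
  have h1 := PLocal.centerJ_map (e := 0) M.subtype_injective (D.subgroupOf M)
  rw [Subgroup.map_subgroupOf_eq_of_le hDM] at h1
  have h2 := PLocal.centerJ_map (e := 0) hinj (D.subgroupOf M)
  rw [hD'] at h2
  have h3 : (PLocal.centerJ 0 D).subgroupOf M = PLocal.centerJ 0 (D.subgroupOf M) := by
    rw [h1, Subgroup.subgroupOf, Subgroup.comap_map_eq_self_of_injective M.subtype_injective]
  rw [← hmap _ ((PLocal.centerJ_le 0 D).trans hDM), h3, ← h2]

theorem centerJ_ne_bot [Finite S] [Fact p.Prime] (hS : IsPGroup p S) {D : Subgroup Ω} (hD : D ≤ S)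
    (h : D ≠ ⊥) : PLocal.centerJ 0 D ≠ ⊥ := by
  have h1 := PLocal.centerJ_map (e := 0) S.subtype_injective (D.subgroupOf S)
  rw [Subgroup.map_subgroupOf_eq_of_le hD] at h1
  rw [h1, Ne, Subgroup.map_eq_bot_iff_of_injective _ S.subtype_injective]
  exact PLocal.centerJ_zero_ne_bot (hS.to_subgroup _) fun e => h <| by
    rw [← Subgroup.map_subgroupOf_eq_of_le hD, e, Subgroup.map_bot]

end CfsgLib.FusionNormal
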