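import Cfsg.Agent.Lib.FusionNormal.Centric
import Cfsg.Agent.Lib.FusionNormal.Inner
import Cfsg.Agent.Lib.Fusion.Ext
import Cfsg.Prelude.Def_FusionComponents

/-!
# The core of a constrained system; subnormal subsystems of constrained systems
-/

namespace CfsgLib.FusionNormal

open Cfsg Cfsg.FusionSystem CfsgLib.Fusion
open scoped commutatorElement

variable {Ω : Type*} [Group Ω] {S : Subgroup Ω} {F : FusionSystem S} {Q : Subgroup Ω}
variable [Finite S] {p : ℕ} [Fact p.Prime]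

theorem le_core (hQ : F.IsNormal Q) : Q ≤ F.core := le_sSup hQ

omit [Finite S] [Fact p.Prime] in
/-- A strongly closed subgroup of a subsystem, from one of the system. -/
theorem stronglyClosed_inf {T : Subgroup Ω} {D : FusionSystem T} (hD : D.IsSubsystemOf F)
    (hQ : F.StronglyClosed Q) : D.StronglyClosed (T ⊓ Q) :=
  ⟨inf_le_left, fun R hR φ hφ x => ⟨(D.le_of_mem hφ).2 x, hQ.2 R (hR.trans inf_le_right) φ (hD R hφ) x⟩⟩

theorem isCentric_core (hF : F.IsConstrained p) : F.IsCentric F.core := by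
  obtain ⟨-, Q, hQn, hQc⟩ := hF
  exact IsCentric.of_le hQc (le_core hQn) (FusionExt.isNormal_core F).1

/-- An element of `S` acting on a centric normal core as an element of a normal `p`-subgroup of its
automizer lies in the core. -/
theorem mem_core_of_normal_pSubgroup (hS : IsPGroup p S) (hF : F.IsSaturated p)
    {C : Subgroup Ω} (hC : F.IsNormal C) (hc : F.IsCentric C) {K : Subgroup (F.autGroup C)}
    (hK : K.Normal) (hKp : IsPGroup p K) {g : Ω} (hg : g ∈ S) {α : F.autGroup C} (hα : α ∈ K)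
    (he : ∀ x : C, (((α : MulAut C) x : C) : Ω) = g * (x : Ω) * g⁻¹) : g ∈ F.core := by
  haveI := finite_of_le hC.1
  let X : Subgroup Ω :=
    { carrier := {g | g ∈ S ∧ ∃ α ∈ K, ∀ x : C, (((α : F.autGroup C) : MulAut C) x : Ω) = g * x * g⁻¹}
      one_mem' := ⟨S.one_mem, 1, K.one_mem, fun x => by simp⟩
      mul_mem' := by
        rintro g h ⟨hg, α, hα, hαe⟩ ⟨hh, β, hβ, hβe⟩
        refine ⟨S.mul_mem hg hh, α * β, K.mul_mem hα hβ, fun x => ?_⟩
        rw [Subgroup.coe_mul, MulAut.mul_apply, hαe, hβe]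
        group
      inv_mem' := by
        rintro g ⟨hg, α, hα, hαe⟩
        refine ⟨S.inv_mem hg, α⁻¹, K.inv_mem hα, fun x => ?_⟩
        obtain ⟨y, rfl⟩ := ((α : F.autGroup C) : MulAut C).surjective x
        rw [Subgroup.coe_inv, MulAut.inv_apply, MulEquiv.symm_apply_apply, hαe]
        group }
  have hXS : X ≤ S := fun x hx => hx.1
  have hCnS : S ≤ Subgroup.normalizer (C : Set Ω) :=
    StronglyClosed.le_normalizer (Fusion.IsNormal.stronglyClosed hC)
  have hCinv : ∀ (R : Subgroup Ω) (a : MulAut R), R ≤ S → a ∈ F.autGroup R → ∀ x : R, (x : Ω) ∈ C →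
      ((a x : R) : Ω) ∈ C := fun R a hR ha =>
    StronglyClosed.aut_mem (Fusion.IsNormal.stronglyClosed hC) hR ha
  suffices hXn : F.IsNormal X from le_core hXn ⟨hg, α, hα, he⟩
  -- `X` is invariant under every automorphism of a subgroup containing `C`
  have hinvX : ∀ (R : Subgroup Ω) (a : Ω → Ω), MapFn F R a → a '' R = (R : Set Ω) → C ≤ R →
      ∀ x ∈ X, x ∈ R → a x ∈ X := by
    rintro R a ha har hCR x ⟨hxS, β, hβ, hβe⟩ hxR
    obtain ⟨b, hb, hbe⟩ := ha.exists_aut har
    have haC : a '' C = (C : Set Ω) := (ha.mono hCR).image_eq_of_maps hC.1 (fun y hy => by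
      rw [← hbe ⟨y, hCR hy⟩]; exact hCinv R b ha.le_S hb _ hy) le_rfl
    obtain ⟨c, hc', hce⟩ := (ha.mono hCR).exists_aut haC
    refine ⟨ha.mem_S hxR, _, hK.conj_mem β hβ ⟨c, hc'⟩, fun y => ?_⟩
    obtain ⟨z, rfl⟩ := c.surjective y
    rw [Subgroup.coe_mul, Subgroup.coe_mul, Subgroup.coe_inv, MulAut.mul_apply, MulAut.mul_apply,
      MulAut.inv_apply, MulEquiv.symm_apply_apply, hce, hβe, hce, ha.map_conj hxR (hCR z.2)]
  have key : ∀ R : Subgroup Ω, F.IsFullyNormalized R → F.IsCentric R → F.IsRadical p R → X ≤ R := ?_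
  · refine isNormal_of_radicals hS hF hXS fun R hn hRc hr => ⟨key R hn hRc hr, fun a ha har => ?_⟩
    have hXR := key R hn hRc hr
    exact (ha.mono hXR).image_eq_of_maps hXS (fun x hx => hinvX R a ha har
      (Fusion.IsNormal.le_centric_radical hS hC hRc hr) x hx (hXR hx)) le_rfl
  intro R hn hRc hr
  have hRS := hn.1
  have hCR : C ≤ R := Fusion.IsNormal.le_centric_radical hS hC hRc hr
  have hXn : S ≤ Subgroup.normalizer (X : Set Ω) := fun s hs => by
    haveI := finite_of_le hXS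
    exact mem_normalizer_of_forall fun x hx =>
      hinvX S (fun y => s * y * s⁻¹) (mapFn_conj le_rfl hs)
        ((mapFn_conj (F := F) le_rfl hs).image_eq_of_maps le_rfl
          (fun y hy => S.mul_mem (S.mul_mem hs hy) (S.inv_mem hs)) le_rfl) hC.1 x hx hx.1
  let A : Subgroup (MulAut R) :=
    { carrier := {a | a ∈ F.autGroup R ∧ ∃ κ ∈ K, ∀ x : C,
        ((a ⟨x, hCR x.2⟩ : R) : Ω) = (((κ : F.autGroup C) : MulAut C) x : Ω)}
      one_mem' := ⟨Subgroup.one_mem _, 1, K.one_mem, fun x => rfl⟩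
      mul_mem' := by
        rintro a b ⟨ha, κ, hκ, hκe⟩ ⟨hb, l, hl, hle⟩
        refine ⟨Subgroup.mul_mem _ ha hb, κ * l, K.mul_mem hκ hl, fun x => ?_⟩
        rw [MulAut.mul_apply, Subgroup.coe_mul, MulAut.mul_apply]
        exact (congrArg (fun z => ((a z : R) : Ω)) (Subtype.ext (hle x))).trans (hκe _)
      inv_mem' := by
        rintro a ⟨ha, κ, hκ, hκe⟩
        refine ⟨Subgroup.inv_mem _ ha, κ⁻¹, K.inv_mem hκ, fun x => ?_⟩
        obtain ⟨y, rfl⟩ := ((κ : F.autGroup C) : MulAut C).surjective x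
        rw [Subgroup.coe_inv, MulAut.inv_apply, MulAut.inv_apply, MulEquiv.symm_apply_apply]
        have e : (⟨((((κ : F.autGroup C) : MulAut C) y : C) : Ω), hCR (Subtype.mem _)⟩ : R) =
            a ⟨y, hCR y.2⟩ := Subtype.ext (hκe y).symm
        rw [e, MulEquiv.symm_apply_apply] }
  refine le_of_centric_radical hS hRc hr hXS hXn (A := A) (fun a ha => ha.1) ?_ ?_ ?_
  · rintro ⟨a, ha, κ, hκ, hκe⟩
    obtain ⟨k, hk⟩ := hKp ⟨κ, hκ⟩
    have hk' : κ ^ p ^ k = 1 := congrArg Subtype.val hk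
    have hfix : ∀ x : C, ((((a ^ p ^ k : MulAut R)) ⟨x, hCR x.2⟩ : R) : Ω) = x := by
      have : ∀ (m : ℕ) (x : C), (((a ^ m : MulAut R) ⟨x, hCR x.2⟩ : R) : Ω) =
          (((κ ^ m : F.autGroup C) : MulAut C) x : Ω) := by
        intro m
        induction m with
        | zero => intro x; simp
        | succ m ih =>
          intro x
          rw [pow_succ, pow_succ, MulAut.mul_apply, Subgroup.coe_mul, MulAut.mul_apply]
          exact (congrArg (fun z => (((a ^ m : MulAut R) z : R) : Ω))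
            (Subtype.ext (hκe x))).trans (ih _)
      intro x
      rw [this, hk']; rfl
    obtain ⟨w, hw, -, hwe⟩ := exists_mapFn_of_aut hRS (Subgroup.pow_mem _ ha (p ^ k))
    obtain ⟨z, hz, hzw⟩ := exists_conj_of_fixed hS hF hc hCR
      (le_inf hRS (hRS.trans hCnS)) hw fun x hx => (hwe ⟨x, hCR hx⟩).trans (hfix ⟨x, hx⟩)
    obtain ⟨l, hl⟩ := (hS.to_le hRS) ⟨z, hCR hz⟩
    refine ⟨k + l, Subtype.ext ?_⟩
    show (a : MulAut R) ^ p ^ (k + l) = 1
    have h1 : (a ^ p ^ k : MulAut R) = MulAut.conj ⟨z, hCR hz⟩ :=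
      MulEquiv.ext fun x => Subtype.ext ((hwe x).symm.trans (hzw x x.2))
    rw [pow_add, pow_mul, h1, ← map_pow, hl, map_one]
  · rintro a ⟨ha, κ, hκ, hκe⟩ b hb
    obtain ⟨f, hf, -, hfe⟩ := exists_mapFn_of_aut hRS hb
    obtain ⟨c, hc', hce⟩ := (hf.mono hCR).exists_aut ((hf.mono hCR).image_eq_of_maps hC.1
      (fun y hy => by rw [hfe ⟨y, hCR hy⟩]; exact hCinv R b hRS hb _ hy) le_rfl)
    refine ⟨Subgroup.mul_mem _ (Subgroup.mul_mem _ hb ha) (Subgroup.inv_mem _ hb), _,
      hK.conj_mem κ hκ ⟨c, hc'⟩, fun x => ?_⟩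
    obtain ⟨y, rfl⟩ := c.surjective x
    rw [Subgroup.coe_mul, Subgroup.coe_mul, Subgroup.coe_inv, MulAut.mul_apply, MulAut.mul_apply,
      MulAut.mul_apply, MulAut.mul_apply]
    rw [show (c⁻¹ : MulAut C) (c y) = y from c.symm_apply_apply y]
    have e : (b⁻¹ : MulAut R) ⟨((c y : C) : Ω), hCR (Subtype.mem _)⟩ = ⟨y, hCR y.2⟩ := by
      rw [MulAut.inv_apply, MulEquiv.symm_apply_eq]
      exact Subtype.ext ((hce y).trans (hfe ⟨y, hCR y.2⟩))
    rw [e, ← hfe, hκe]
    exact (hce _).symm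
  · rintro q ⟨hq, κ, hκ, hκe⟩ a ha
    exact ⟨autInducedBy_le_autGroup hRS (mem_autInducedBy.mpr ⟨q, hq, ha⟩), κ, hκ,
      fun x => (ha _).trans (hκe x).symm⟩

/-- Weakly normal subsystems of constrained systems are constrained. -/
theorem constrained_of_weaklyNormal (hS : IsPGroup p S) (hF : F.IsConstrained p) {T : Subgroup Ω}
    {D : FusionSystem T} (hD : D.IsWeaklyNormalIn F p) : D.IsConstrained p := by
  obtain ⟨hDs, hFs, hsub, hTsc, -⟩ := hD
  have hTS := hTsc.1
  haveI := finite_of_le hTS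
  have hC : F.IsNormal F.core := FusionExt.isNormal_core F
  set C := F.core with hCdef
  haveI := finite_of_le hC.1
  haveI : Group.IsNilpotent C := (hS.to_le hC.1).isNilpotent
  obtain ⟨n, hn⟩ := Group.IsNilpotent.nilpotent' (G := C)
  have htop : (Subgroup.upperCentralSeries C n).map C.subtype = C := by
    rw [hn, ← MonoidHom.range_eq_map, Subgroup.range_subtype]
  have hR : D.IsNormal (T ⊓ C) := by
    refine isNormal_of_series (hS.to_le hTS) hDs n
      (fun i => T ⊓ (Subgroup.upperCentralSeries C i).map C.subtype) ?_ (by show T ⊓ _ = _; rw [htop])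
      (fun i j hij => inf_le_inf_left _ (Subgroup.map_mono (Subgroup.upperCentralSeries_mono C hij)))
      (fun i _ => stronglyClosed_inf hsub (Fusion.IsNormal.stronglyClosed
        (Fusion.IsNormal.of_characteristic hC (Subgroup.map_subtype_le _) ?_))) fun i _ => ?_
    · simp
    · rw [Subgroup.subgroupOf, Subgroup.comap_map_eq_self_of_injective C.subtype_injective]
      infer_instance
    · rw [Subgroup.commutator_le]
      rintro q ⟨hqT, hqC⟩ z' ⟨hzT, z, hz, rfl⟩
      refine ⟨?_, ?_⟩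
      · rw [commutatorElement_def]
        exact T.mul_mem (T.mul_mem (T.mul_mem hqT hzT) (T.inv_mem hqT)) (T.inv_mem hzT)
      · have h1 := Subgroup.mem_upperCentralSeries_succ_iff.mp hz ⟨q, hqC⟩
        refine ⟨⁅z, (⟨q, hqC⟩ : _)⁆⁻¹, Subgroup.inv_mem _ h1, ?_⟩
        simp [commutatorElement_def, mul_assoc]
  refine ⟨hDs, T ⊓ C, hR, hR.1, fun W hW => ?_⟩
  have hWR : W = T ⊓ C := by
    obtain ⟨φ, hφ, hφr⟩ := hW
    haveI := finite_of_le hR.1
    refine eq_of_le_of_card_le ?_ (by rw [← hφr, Fusion.card_range hφ])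
    rw [← hφr]
    rintro _ ⟨x, rfl⟩
    exact (Fusion.IsNormal.stronglyClosed hR).2 _ le_rfl φ hφ x
  rw [hWR]
  intro u hu
  obtain ⟨huT, hu'⟩ := mem_centralizerIn.mp hu
  refine ⟨huT, ?_⟩
  have hc : F.IsCentric C := isCentric_core hF
  -- automorphisms of `C` centralizing `T ⊓ C` and stabilizing `C / T ⊓ C`
  let R₀ : Subgroup C := T.subgroupOf C
  have hTnS : S ≤ Subgroup.normalizer (T : Set Ω) := StronglyClosed.le_normalizer hTsc
  have hinv : ∀ b ∈ F.autGroup C, ∀ x : C, x ∈ R₀ → b x ∈ R₀ := fun b hb x hx =>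
    StronglyClosed.aut_mem hTsc hC.1 hb x hx
  let L : ℕ → Subgroup C := fun i => if i = 0 then ⊥ else if i = 1 then R₀ else ⊤
  have hL : ∀ i ≤ 2, ∀ a ∈ F.autGroup C, ∀ x ∈ L i, a x ∈ L i := by
    intro i _ a ha x hx
    rcases i with _ | _ | i
    · simp only [L, if_pos, Subgroup.mem_bot] at hx ⊢
      rw [hx, map_one]
    · exact hinv a ha x hx
    · exact Subgroup.mem_top _
  let K := (seriesStabilizer F C 2 L hL).subgroupOf (F.autGroup C)
  have hKn : K.Normal := ⟨fun a ha b => seriesStabilizer_conj_mem (hinv := hL) ha b.2⟩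
  have hKp : IsPGroup p K := by
    rintro ⟨⟨a, haA⟩, ha⟩
    obtain ⟨k, hk⟩ := exists_pow_eq_one_of_stabilizes (hS.to_le hC.1) L (n := 2) (fun i hi => by
        rcases i with _ | _ | i
        · exact bot_le
        · exact le_top
        · omega) rfl (α := a) ⟨0, fun x hx => by
          simp only [L, if_pos, Subgroup.mem_bot] at hx
          rw [hx, map_one]⟩ ha.2
    exact ⟨k, Subtype.ext (Subtype.ext hk)⟩
  obtain ⟨a, ha, hae⟩ := exists_autInducedBy (K := S) (P := C) (hTS huT)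
    (StronglyClosed.le_normalizer (Fusion.IsNormal.stronglyClosed hC) (hTS huT))
  refine mem_core_of_normal_pSubgroup hS hFs hC hc hKn hKp (hTS huT)
    (α := ⟨a, autInducedBy_le_autGroup hC.1 ha⟩)
    ⟨autInducedBy_le_autGroup hC.1 ha, fun i hi x hx => ?_⟩ hae
  rcases i with _ | _ | i
  · show x⁻¹ * a x ∈ (⊥ : Subgroup C)
    rw [Subgroup.mem_bot]
    refine Subtype.ext ?_
    rw [Subgroup.coe_mul, Subgroup.coe_inv, hae, ← hu' x ⟨hx, x.2⟩, mul_inv_cancel_right,
      inv_mul_cancel]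
    rfl
  · show ((x⁻¹ * a x : C) : Ω) ∈ T
    rw [Subgroup.coe_mul, Subgroup.coe_inv, hae]
    have h1 := conj_mem_of_normalizer (hTnS (S.inv_mem (hC.1 x.2))) huT
    have h2 := T.mul_mem h1 (T.inv_mem huT)
    simpa [mul_assoc] using h2
  · omega

end CfsgLib.FusionNormal
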