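import Cfsg.Agent.Lib.FusionNormal.Maps
import Cfsg.Agent.Lib.PCore.Basic

/-!
# Alperin's fusion theorem as an induction principle on maps as functions
-/

namespace CfsgLib.FusionNormal

open Cfsg Cfsg.FusionSystem CfsgLib.Fusion

variable {Ω : Type*} [Group Ω] {S : Subgroup Ω} {F : FusionSystem S} {P Q R N M : Subgroup Ω}

theorem MapFn.maps_sup {f : Ω → Ω} (h : MapFn F (P ⊔ Q) f) (hP : ∀ x ∈ P, f x ∈ M)
    (hQ : ∀ x ∈ Q, f x ∈ M) : ∀ x ∈ P ⊔ Q, f x ∈ M := by
  obtain ⟨φ, -, he⟩ := h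
  have hle : P ⊔ Q ≤ (M.comap φ).map (P ⊔ Q).subtype :=
    sup_le (fun x hx => ⟨⟨x, Subgroup.mem_sup_left hx⟩, show φ _ ∈ M by rw [he]; exact hP x hx, rfl⟩)
      (fun x hx => ⟨⟨x, Subgroup.mem_sup_right hx⟩, show φ _ ∈ M by rw [he]; exact hQ x hx, rfl⟩)
  intro x hx
  obtain ⟨y, hy, rfl⟩ := hle hx
  show f (y : Ω) ∈ M
  rw [← he]; exact hy

/-- Two maps agreeing on `P` and `Q` agree on their join. -/
theorem MapFn.eq_on_sup {f g : Ω → Ω} (hf : MapFn F (P ⊔ Q) f) (hg : MapFn F (P ⊔ Q) g)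
    (hP : ∀ x ∈ P, f x = g x) (hQ : ∀ x ∈ Q, f x = g x) : ∀ x ∈ P ⊔ Q, f x = g x := by
  obtain ⟨φ, -, he⟩ := hf
  obtain ⟨ψ, -, hge⟩ := hg
  have hle : P ⊔ Q ≤ (φ.eqLocus ψ).map (P ⊔ Q).subtype :=
    sup_le (fun x hx => ⟨⟨x, Subgroup.mem_sup_left hx⟩, show φ _ = ψ _ by rw [he, hge]; exact hP x hx, rfl⟩)
      (fun x hx => ⟨⟨x, Subgroup.mem_sup_right hx⟩, show φ _ = ψ _ by rw [he, hge]; exact hQ x hx, rfl⟩)
  intro x hx
  obtain ⟨y, hy, rfl⟩ := hle hx
  show f (y : Ω) = g y
  rw [← he, ← hge]; exact hy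

theorem card_le_card_S [Finite S] (hR : R ≤ S) : Nat.card R ≤ Nat.card S :=
  Subgroup.card_le_of_le hR

theorem card_lt_card [Finite S] (hR : R ≤ S) (h : P < R) : Nat.card P < Nat.card R := by
  have := finite_of_le hR
  refine lt_of_not_ge fun hle => h.ne ?_
  exact eq_of_le_of_card_le h.le hle

section saturated

variable [Finite S] {p : ℕ} [Fact p.Prime]

theorem isFullyCentralized_of_fullyNormalized (hS : IsPGroup p S) (hF : F.IsSaturated p)
    (hQ : F.IsFullyNormalized Q) : F.IsFullyCentralized Q :=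
  fullyCentralized_of_receptive (fullyNormalized_good hS hF hQ).2

theorem isFullyCentralized_of_centric (hQ : F.IsCentric Q) : F.IsFullyCentralized Q := by
  refine ⟨hQ.1, fun R hR => ?_⟩
  obtain ⟨f, hf, hr⟩ := isConj_iff.mp (isConj_symm hR)
  obtain ⟨φ, hφ, he⟩ := hf.mono (le_refl R)
  refine card_le_of_map (restrict_mem (hQ.2 R hR) hφ) centralizerIn_le fun g => ?_
  show φ ⟨g, _⟩ ∈ _
  rw [he]
  exact MapFn.mem_centralizerIn ⟨φ, hφ, he⟩ le_rfl hr (hQ.2 R hR g.2) g.2

theorem isCentric_of_fullyNormalized (hS : IsPGroup p S) (hF : F.IsSaturated p)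
    (hQ : F.IsFullyNormalized Q) (hC : centralizerIn S Q ≤ Q) : F.IsCentric Q := by
  refine ⟨hQ.1, fun R hR => ?_⟩
  obtain ⟨f, hf, hr⟩ := isConj_iff.mp hR
  have hcq := (isFullyCentralized_of_fullyNormalized hS hF hQ).2 R hR
  obtain ⟨M, hMS, hM⟩ := (hf.mono hC).exists_image
  have hMC : M ≤ centralizerIn S R ⊓ R := fun y hy => by
    obtain ⟨x, hx, rfl⟩ := exists_of_image hM hy
    exact ⟨hf.mem_centralizerIn le_rfl hr (hC hx) hx, mem_of_image hr (hC hx)⟩
  have := finite_of_le (centralizerIn_le (S := S) (P := R))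
  have h : M = centralizerIn S R :=
    eq_of_le_of_card_le (hMC.trans inf_le_left) (by rwa [(hf.mono hC).card_image hM])
  exact h ▸ hMC.trans inf_le_right

/-- In a centric radical subgroup, a normal `p`-subgroup of the automizer is induced by `Q`. -/
theorem mem_of_radical (hc : F.IsCentric Q) (hr : F.IsRadical p Q) {K : Subgroup (F.autGroup Q)}
    (hK : K.Normal) (hKp : IsPGroup p K) {g : Ω} (hg : g ∈ S) {α : F.autGroup Q} (hα : α ∈ K)
    (he : ∀ x : Q, (((α : MulAut Q) x : Q) : Ω) = g * (x : Ω) * g⁻¹) : g ∈ Q := by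
  have h : (α : MulAut Q) ∈ Inn Q := hr.2.le ⟨α, PCore.le_pCore hK hKp hα, rfl⟩
  obtain ⟨z, hz⟩ := mem_inn.mp h
  have hcz : (z : Ω)⁻¹ * g ∈ centralizerIn S Q := by
    refine mem_centralizerIn'.mpr ⟨S.mul_mem (S.inv_mem (hr.1 z.2)) hg, fun x => ?_⟩
    have h1 : g * (x : Ω) * g⁻¹ = z * x * (z : Ω)⁻¹ := by rw [← he x, hz x]; rfl
    calc (z : Ω)⁻¹ * g * x * ((z : Ω)⁻¹ * g)⁻¹ = (z : Ω)⁻¹ * (g * x * g⁻¹) * z := by group
      _ = x := by rw [h1]; group
  have := Q.mul_mem z.2 (hc.2 Q (isConj_refl hr.1) hcz)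
  rwa [mul_inv_cancel_left] at this

/-- Alperin's theorem: a property of maps closed under restriction, composition and inversion holds
for all maps once it holds for the automorphisms of fully normalized centric radical subgroups (for
these one may assume it for all maps with larger source). -/
theorem alperin_induction (hS : IsPGroup p S) (hF : F.IsSaturated p)
    (C : Subgroup Ω → (Ω → Ω) → Prop)
    (hcongr : ∀ {P : Subgroup Ω} {f g : Ω → Ω}, MapFn F P f → C P f → (∀ x ∈ P, f x = g x) → C P g)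
    (hmono : ∀ {P R : Subgroup Ω} {f : Ω → Ω}, MapFn F P f → C P f → R ≤ P → C R f)
    (hcomp : ∀ {P R : Subgroup Ω} {f g : Ω → Ω}, MapFn F P f → C P f → MapFn F R g → C R g → (∀ x ∈ P, f x ∈ R) →
      C P (g ∘ f))
    (hinv : ∀ {P R : Subgroup Ω} {f g : Ω → Ω}, MapFn F P f → C P f → f '' P = (R : Set Ω) → MapFn F R g →
      (∀ x ∈ P, g (f x) = x) → C R g)
    (haut : ∀ Q : Subgroup Ω, F.IsFullyNormalized Q → F.IsCentric Q → F.IsRadical p Q →
      (∀ (R : Subgroup Ω) (g : Ω → Ω), MapFn F R g → Nat.card Q < Nat.card R → C R g) →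
      ∀ f, MapFn F Q f → f '' Q = (Q : Set Ω) → C Q f) :
    ∀ (P : Subgroup Ω) (f : Ω → Ω), MapFn F P f → C P f := by
  suffices h : ∀ (n : ℕ) (P : Subgroup Ω) (f : Ω → Ω), Nat.card S - Nat.card P < n →
      MapFn F P f → C P f from fun P f hf => h _ P f (Nat.lt_succ_self _) hf
  intro n
  induction n with
  | zero => intro P f h; omega
  | succ n ih =>
  intro P f hn hf
  have big : ∀ (R : Subgroup Ω) (g : Ω → Ω), MapFn F R g → Nat.card P < Nat.card R → C R g := by
    intro R g hg hc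
    have := card_le_card_S (R := R) hg.le_S
    exact ih R g (by omega) hg
  -- automorphisms of fully normalized conjugates
  have good : ∀ Q : Subgroup Ω, F.IsFullyNormalized Q → Nat.card Q = Nat.card P →
      ∀ a, MapFn F Q a → a '' Q = (Q : Set Ω) → C Q a := by
    intro Q hQn hQc a ha har
    obtain ⟨hQa, hQr⟩ := fullyNormalized_good hS hF hQn
    have grow : ∀ N : Subgroup Ω, Q < N → N ≤ normalizerIn S Q →
        (∀ g ∈ N, ∃ s ∈ S, ∀ x ∈ Q, a (g * x * g⁻¹) = s * a x * s⁻¹) → C Q a := by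
      intro N hlt hN hs
      obtain ⟨w, hw, hwe⟩ := ha.exists_extension hQr har hlt.le hN hs
      have := big N w hw (by rw [← hQc]; exact card_lt_card (hN.trans normalizerIn_le) hlt)
      exact hcongr (hw.mono hlt.le) (hmono hw this hlt.le) hwe
    by_cases hC : centralizerIn S Q ≤ Q
    · have hQcen := isCentric_of_fullyNormalized hS hF hQn hC
      by_cases hrad : F.IsRadical p Q
      · exact haut Q hQn hQcen hrad (fun R g hg h => big R g hg (hQc ▸ h)) a ha har
      · have hQS := hQn.1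
        have := finite_mulAut hQS
        obtain ⟨T, hT⟩ := hQa.2
        let K := pCore p ↥(F.autGroup Q)
        have hKT : K ≤ (T : Subgroup _) := PCore.pCore_le_sylow T
        have hKn : K.Normal := pCore_normal p _
        -- preimage of `O_p` in the normalizer
        let X : Subgroup Ω :=
          { carrier := {g | g ∈ normalizerIn S Q ∧ ∃ α ∈ K,
              ∀ x : Q, (((α : F.autGroup Q) : MulAut Q) x : Ω) = g * (x : Ω) * g⁻¹}
            one_mem' := ⟨Subgroup.one_mem _, 1, K.one_mem, fun x => by simp⟩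
            mul_mem' := by
              rintro g h ⟨hg, α, hα, hαe⟩ ⟨hh, β, hβ, hβe⟩
              refine ⟨Subgroup.mul_mem _ hg hh, α * β, K.mul_mem hα hβ, fun x => ?_⟩
              rw [Subgroup.coe_mul, MulAut.mul_apply, hαe, hβe]
              group
            inv_mem' := by
              rintro g ⟨hg, α, hα, hαe⟩
              refine ⟨Subgroup.inv_mem _ hg, α⁻¹, K.inv_mem hα, fun x => ?_⟩
              obtain ⟨y, rfl⟩ := ((α : F.autGroup Q) : MulAut Q).surjective x
              rw [Subgroup.coe_inv, MulAut.inv_apply, MulEquiv.symm_apply_apply, hαe]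
              group }
        have hQX : Q ≤ X := fun g hg => by
          refine ⟨le_normalizerIn hQS hg, ⟨MulAut.conj ⟨g, hg⟩, inn_le_autGroup hQS
            (mem_inn.mpr ⟨⟨g, hg⟩, fun _ => rfl⟩)⟩, ?_, fun x => rfl⟩
          refine PCore.le_pCore (N := (Inn Q).subgroupOf (F.autGroup Q)) ?_ ?_
            (Subgroup.mem_subgroupOf.mpr (mem_inn.mpr ⟨⟨g, hg⟩, fun _ => rfl⟩))
          · refine ⟨fun b hb c => Subgroup.mem_subgroupOf.mpr ?_⟩
            obtain ⟨z, hz⟩ := mem_inn.mp (Subgroup.mem_subgroupOf.mp hb)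
            refine mem_inn.mpr ⟨(c : MulAut Q) z, fun x => ?_⟩
            simp [hz, MulAut.inv_apply]
          · exact ((isPGroup_autInducedBy hS Q).to_le (inn_le_autInducedBy hQS)).comap_subtype
        have hne : ¬ X ≤ Q := by
          intro hXQ
          refine hrad ⟨hQS, le_antisymm ?_ ?_⟩
          · rintro _ ⟨α, hα, rfl⟩
            obtain ⟨g, hg, hge⟩ := mem_autInducedBy.mp (Subgroup.mem_subgroupOf.mp (hT.le (hKT hα)))
            have hgN : g ∈ Subgroup.normalizer (Q : Set Ω) := mem_normalizer_of_aut hge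
            exact mem_inn.mpr ⟨⟨g, hXQ ⟨⟨hg, hgN⟩, α, hα, hge⟩⟩, fun x => Subtype.ext (hge x)⟩
          · intro α hα
            obtain ⟨z, hz⟩ := mem_inn.mp hα
            obtain ⟨-, β, hβ, hβe⟩ := hQX z.2
            refine ⟨β, hβ, MulEquiv.ext fun x => Subtype.ext ?_⟩
            show (((β : F.autGroup Q) : MulAut Q) x : Ω) = _
            rw [hβe, hz]; rfl
        refine grow X (lt_of_le_of_ne hQX fun h => hne h.ge) (fun g hg => hg.1) fun g hg => ?_
        obtain ⟨hgN, α, hα, hαe⟩ := hg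
        obtain ⟨b, hb, hbe⟩ := ha.exists_aut har
        have h2 := hT.le (hKT (hKn.conj_mem α hα ⟨b, hb⟩))
        obtain ⟨s, hs, hse⟩ := mem_autInducedBy.mp (Subgroup.mem_subgroupOf.mp h2)
        refine ⟨s, hs, fun x hx => ?_⟩
        have h3 := hse (b ⟨x, hx⟩)
        rw [Subgroup.coe_mul, Subgroup.coe_mul, Subgroup.coe_inv, MulAut.mul_apply, MulAut.mul_apply,
          MulAut.inv_apply, MulEquiv.symm_apply_apply, hbe, hαe] at h3
        rw [h3, hbe]
    · -- extend to the centralizer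
      refine grow (Q ⊔ centralizerIn S Q) (lt_of_le_of_ne le_sup_left fun h => hC (le_sup_right.trans h.ge))
        (sup_le (le_normalizerIn hQn.1) centralizerIn_le_normalizerIn) fun g hg => ?_
      obtain ⟨w, hw, hwe⟩ := ha.extend_centralizer hS hF
        (isFullyCentralized_of_fullyNormalized hS hF hQn) har
      refine ⟨w g, hw.mem_S hg, fun x hx => ?_⟩
      have hgN : g ∈ normalizerIn S Q :=
        (sup_le (le_normalizerIn hQn.1) centralizerIn_le_normalizerIn : _ ≤ normalizerIn S Q) hg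
      rw [← hwe x hx, ← hwe _ (conj_mem_of_normalizer hgN.2 hx),
        hw.map_conj hg (Subgroup.mem_sup_left hx)]
  by_cases hPS : P = S
  · subst hPS
    refine good P ⟨le_rfl, fun T hT => ?_⟩ rfl f hf (hf.image_eq_of_maps le_rfl (fun x hx => hf.mem_S hx) le_rfl)
    have h1 : normalizerIn P P = P := le_antisymm normalizerIn_le (le_normalizerIn le_rfl)
    rw [h1]
    exact Subgroup.card_le_of_le normalizerIn_le
  obtain ⟨T, hTS, hT⟩ := hf.exists_image
  obtain ⟨Q, u, hQn, hu, hur, -⟩ := exists_fullyNormalized_mapFn hS hF hf.le_S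
  have hPN : P ≤ normalizerIn S P := le_normalizerIn hf.le_S
  have hPQ : F.IsConj P Q := (hu.mono hPN).isConj hur
  obtain ⟨v, hv, hvr, -⟩ := exists_normalizer_mapFn hS hF hQn
    (isConj_trans (isConj_symm (hf.isConj hT)) hPQ)
  have hTN : T ≤ normalizerIn S T := le_normalizerIn hTS
  have hcT := hf.card_image hT
  have hTne : T ≠ S := fun h => hPS (eq_of_le_of_card_le hf.le_S (by rw [← hcT, h]))
  have huC := hmono hu (big _ u hu (card_lt_card normalizerIn_le (lt_normalizerIn' hS hf.le_S hPS))) hPN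
  have hvC := hmono hv (big _ v hv (by
    rw [← hcT]; exact card_lt_card normalizerIn_le (lt_normalizerIn' hS hTS hTne))) hTN
  obtain ⟨u', hu', hu'r, hu'₁, -⟩ := (hu.mono hPN).exists_inv hur
  obtain ⟨v', hv', hv'r, hv'₁, -⟩ := (hv.mono hTN).exists_inv hvr
  have hw : MapFn F Q (v ∘ f ∘ u') :=
    (hu'.comp hf fun y hy => mem_of_image hu'r hy).comp (hv.mono hTN) fun y hy =>
      mem_of_image hT (mem_of_image hu'r hy)
  have hwr : (v ∘ f ∘ u') '' Q = (Q : Set Ω) := image_comp (image_comp hu'r hT) hvr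
  have hwC := good Q hQn (IsConj.card_eq hPQ) _ hw hwr
  have h1 := (hu.mono hPN).comp hw fun x hx => mem_of_image hur hx
  have h1C := hcomp (hu.mono hPN) huC hw hwC fun x hx => mem_of_image hur hx
  have hvC' := hinv (hv.mono hTN) hvC hvr hv' hv'₁
  refine hcongr (h1.comp hv' fun x hx => mem_of_image hwr (mem_of_image hur hx))
    (hcomp h1 h1C hv' hvC' fun x hx => mem_of_image hwr (mem_of_image hur hx)) fun x hx => ?_
  show v' (v (f (u' (u x)))) = f x
  rw [hu'₁ x hx, hv'₁ _ (mem_of_image hT hx)]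

/-- `Q` is normal as soon as it lies in every fully normalized centric radical subgroup and is
invariant under its automizer. -/
theorem isNormal_of_radicals (hS : IsPGroup p S) (hF : F.IsSaturated p) (hQS : Q ≤ S)
    (h : ∀ R : Subgroup Ω, F.IsFullyNormalized R → F.IsCentric R → F.IsRadical p R →
      Q ≤ R ∧ ∀ a, MapFn F R a → a '' R = (R : Set Ω) → a '' Q = (Q : Set Ω)) :
    F.IsNormal Q := by
  refine ⟨hQS, fun P φ hφ => ?_⟩
  obtain ⟨f, hf, he⟩ := mapFn_of_hom hφ
  obtain ⟨g, hg, hgP, hgQ⟩ := alperin_induction hS hF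
    (fun P f => ∃ g, MapFn F (P ⊔ Q) g ∧ (∀ x ∈ P, g x = f x) ∧ g '' Q = (Q : Set Ω))
    (fun _ ⟨g, hg, hP, hQ⟩ e => ⟨g, hg, fun x hx => (hP x hx).trans (e x hx), hQ⟩)
    (fun _ ⟨g, hg, hP, hQ⟩ hR => ⟨g, hg.mono (sup_le_sup_right hR Q), fun x hx => hP x (hR hx), hQ⟩)
    (by
      rintro P R f g - ⟨f', hf', hfP, hfQ⟩ - ⟨g', hg', hgP, hgQ⟩ hm
      refine ⟨g' ∘ f', hf'.comp hg' (hf'.maps_sup (fun x hx => ?_) fun x hx => ?_), fun x hx => ?_,
        image_comp hfQ hgQ⟩
      · rw [hfP x hx]; exact Subgroup.mem_sup_left (hm x hx)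
      · exact Subgroup.mem_sup_right (mem_of_image hfQ hx)
      · show g' (f' x) = g (f x)
        rw [hfP x hx, hgP _ (hm x hx)])
    (by
      rintro P R f g hf ⟨f', hf', hfP, hfQ⟩ hr - hinv
      obtain ⟨M, -, hM⟩ := hf'.exists_image
      obtain ⟨g', hg', -, hg'₁, -⟩ := hf'.exists_inv hM
      have hle : R ⊔ Q ≤ M := by
        refine sup_le (fun y hy => ?_) fun y hy => ?_
        · obtain ⟨x, hx, rfl⟩ := exists_of_image hr hy
          rw [← hfP x hx]; exact mem_of_image hM (Subgroup.mem_sup_left hx)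
        · obtain ⟨x, hx, rfl⟩ := exists_of_image hfQ hy
          exact mem_of_image hM (Subgroup.mem_sup_right hx)
      refine ⟨g', hg'.mono hle, fun y hy => ?_, ?_⟩
      · obtain ⟨x, hx, rfl⟩ := exists_of_image hr hy
        rw [hinv x hx, ← hfP x hx, hg'₁ x (Subgroup.mem_sup_left hx)]
      · ext y
        constructor
        · rintro ⟨z, hz, rfl⟩
          obtain ⟨x, hx, rfl⟩ := exists_of_image hfQ hz
          rw [hg'₁ x (Subgroup.mem_sup_right hx)]; exact hx
        · exact fun hy => ⟨f' y, mem_of_image hfQ hy, hg'₁ y (Subgroup.mem_sup_right hy)⟩)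
    (fun R hn hc hr _ a ha har =>
      ⟨a, ha.mono (sup_le le_rfl (h R hn hc hr).1), fun _ _ => rfl, (h R hn hc hr).2 a ha har⟩)
    P f hf
  obtain ⟨ψ, hψ, hψe⟩ := hg
  refine ⟨ψ, hψ, fun x => by rw [hψe]; exact (hgP x x.2).trans (he x).symm, ?_⟩
  apply SetLike.coe_injective
  rw [← hgQ]
  ext y
  constructor
  · rintro ⟨x, hx, rfl⟩; exact ⟨x, hx, (hψe x).symm⟩
  · rintro ⟨x, hx, rfl⟩; exact ⟨⟨x, Subgroup.mem_sup_right hx⟩, hx, hψe _⟩

end saturated

end CfsgLib.FusionNormal
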