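import Cfsg.Agent.Lib.FusionNormal.TransferCentral
import Cfsg.Agent.Lib.Fusion.Extend
import Cfsg.Agent.Lib.Fusion.Normal

/-!
# Saturated systems over abelian groups
-/

namespace CfsgLib.FusionNormal

open Cfsg Cfsg.FusionSystem CfsgLib.Fusion CfsgLib.FusionExt CfsgLib.FusionExtend

universe u

variable {Ω : Type u} [Group Ω] {S : Subgroup Ω} {F : FusionSystem S} {p : ℕ}

/-- Over an abelian group the automizer of the whole group has order prime to `p`. -/
theorem not_dvd_card_autGroup_self [Finite S] [Fact p.Prime] (hF : F.IsSaturated p)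
    (hab : ∀ x ∈ S, ∀ y ∈ S, x * y = y * x) : ¬ p ∣ Nat.card (F.autGroup S) := by
  have := finite_mulAut (S := S) (P := S) le_rfl
  obtain ⟨Q, hQc, hQa, -⟩ := hF S le_rfl
  obtain rfl : Q = S := Fusion.eq_of_le_of_card_le (IsConj.le_right hQc) (IsConj.card_eq hQc).ge
  obtain ⟨-, T, hT⟩ := hQa
  have hb : autInducedBy Q Q = ⊥ := by
    rw [eq_bot_iff]
    intro α hα
    obtain ⟨g, hg, hge⟩ := mem_autInducedBy.mp hα
    rw [Subgroup.mem_bot]
    refine MulEquiv.ext fun x => Subtype.ext ?_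
    rw [hge, hab g hg x x.2, mul_inv_cancel_right]
    rfl
  intro hd
  obtain ⟨x, hx⟩ := exists_prime_orderOf_dvd_card' p hd
  have hP : IsPGroup p (Subgroup.zpowers x) := IsPGroup.of_card (n := 1) (by rw [Nat.card_zpowers, hx, pow_one])
  obtain ⟨R, hR⟩ := hP.exists_le_sylow
  have hRb : Nat.card R = 1 := by
    have h1 : Nat.card R = Nat.card T := Sylow.card_eq_multiplicity R |>.trans (Sylow.card_eq_multiplicity T).symm
    rw [h1, hT, hb, Subgroup.bot_subgroupOf, Subgroup.card_bot]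
  have h2 := Subgroup.card_le_of_le hR
  rw [Nat.card_zpowers, hx, hRb] at h2
  exact absurd h2 (not_le.mpr (Fact.out : p.Prime).one_lt)

/-- A saturated system over an abelian group splits it as centre times focal subgroup. -/
theorem center_mul_focal_of_abelian [Finite S] [Fact p.Prime] (hS : IsPGroup p S)
    (hF : F.IsSaturated p) (hab : ∀ x ∈ S, ∀ y ∈ S, x * y = y * x) :
    F.center ⊓ F.focalSubgroup = ⊥ ∧ F.center ⊔ F.focalSubgroup = S := by
  classical
  have hcomm : ⁅S, S⁆ = ⊥ := by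
    rw [eq_bot_iff, Subgroup.commutator_le]
    intro g hg h hh
    rw [Subgroup.mem_bot, commutatorElement_eq_one_iff_mul_comm]
    exact hab g hg h hh
  refine ⟨?_, ?_⟩
  · rw [inf_comm, focal_inf_center_eq hS hF, hcomm, bot_inf_eq]
  refine le_antisymm (sup_le (isCentral_center F).1 (StableBiset.focalSubgroup_le F)) ?_
  intro x hx
  have hN : F.IsNormal S := isNormal_of_abelian hS hF sc_self hcomm
  have hext := (isNormal_iff_maps_extend hS hF le_rfl).mp hN
  let _ : CommGroup S := { mul_comm := fun a b => Subtype.ext (hab a a.2 b b.2) }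
  have := finite_mulAut (S := S) (P := S) le_rfl
  let _ := Fintype.ofFinite (F.autGroup S)
  let z : S := ∏ α : F.autGroup S, (α : MulAut S) ⟨x, hx⟩
  have hz : (z : Ω) ∈ F.center := by
    refine (le_sSup (a := Subgroup.zpowers (z : Ω)) ?_ : _ ≤ F.center) (Subgroup.mem_zpowers _)
    refine (isCentral_iff hS hF).mpr ⟨Subgroup.zpowers_le.mpr z.2, ?_⟩
    rintro w hw y ⟨φ, hφ, rfl⟩
    have hwS : w ∈ S := Subgroup.zpowers_le.mpr z.2 hw
    obtain ⟨β, hβ, hβe⟩ := hext _ (Subgroup.zpowers_le.mpr hwS) φ hφ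
    rw [← hβe]
    have hzfix : β z = z := by
      show β (∏ α : F.autGroup S, (α : MulAut S) ⟨x, hx⟩) = _
      rw [map_prod]
      exact Equiv.prod_comp (Equiv.mulLeft (⟨β, hβ⟩ : F.autGroup S))
        fun α : F.autGroup S => (α : MulAut S) ⟨x, hx⟩
    obtain ⟨k, hk⟩ := Subgroup.mem_zpowers_iff.mp hw
    have e : Subgroup.inclusion (Subgroup.zpowers_le.mpr hwS) ⟨w, Subgroup.mem_zpowers w⟩ = z ^ k :=
      Subtype.ext (by rw [SubgroupClass.coe_zpow, hk]; rfl)
    rw [e, map_zpow, hzfix, SubgroupClass.coe_zpow, hk]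
  have hq : ((⟨x, hx⟩ : S) ^ Fintype.card (F.autGroup S) * z⁻¹ : S) ∈ F.focalSubgroup.subgroupOf S := by
    show (⟨x, hx⟩ : S) ^ Fintype.card (F.autGroup S) * (∏ α : F.autGroup S, (α : MulAut S) ⟨x, hx⟩)⁻¹ ∈ _
    rw [← Finset.card_univ, ← Finset.prod_const, ← Finset.prod_inv_distrib, ← Finset.prod_mul_distrib]
    refine Subgroup.prod_mem _ fun α _ => ?_
    rw [Subgroup.mem_subgroupOf]
    have := F.focalSubgroup.inv_mem (Subgroup.subset_closure
      (k := {y | ∃ (P : Subgroup Ω) (φ : P →* Ω) (x : P), φ ∈ F.Hom P ∧ y = (x : Ω)⁻¹ * φ x})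
      ⟨S, _, ⟨x, hx⟩, (mem_autGroup le_rfl).mp α.2, rfl⟩)
    simpa [hab x hx _ (S.inv_mem (SetLike.coe_mem _))] using this
  have hm : ((⟨x, hx⟩ : S) ^ Fintype.card (F.autGroup S) : S) ∈ (F.center ⊔ F.focalSubgroup).subgroupOf S := by
    have := Subgroup.mul_mem ((F.center ⊔ F.focalSubgroup).subgroupOf S)
      (x := (⟨x, hx⟩ : S) ^ Fintype.card (F.autGroup S) * z⁻¹) (y := z)
      (Subgroup.mem_subgroupOf.mpr (Subgroup.mem_sup_right (Subgroup.mem_subgroupOf.mp hq)))
      (Subgroup.mem_subgroupOf.mpr (Subgroup.mem_sup_left hz))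
    rwa [inv_mul_cancel_right] at this
  obtain ⟨k, hk⟩ := hS ⟨x, hx⟩
  have hco : (Fintype.card (F.autGroup S)).Coprime (orderOf (⟨x, hx⟩ : S)) := by
    refine Nat.Coprime.coprime_dvd_right (orderOf_dvd_of_pow_eq_one hk) (Nat.Coprime.pow_right k ?_)
    rw [Nat.coprime_comm, (Fact.out : p.Prime).coprime_iff_not_dvd, ← Nat.card_eq_fintype_card]
    exact not_dvd_card_autGroup_self hF hab
  obtain ⟨m, hm'⟩ := exists_pow_eq_self_of_coprime hco
  have := Subgroup.pow_mem _ hm m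
  rw [hm'] at this
  exact Subgroup.mem_subgroupOf.mp this

end CfsgLib.FusionNormal
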