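import Cfsg.Agent.Lib.Fusion.Saturated

/-!
# Maps of a fusion system as functions

`MapFn F P f` says that `f : Ω → Ω` agrees on `P` with some map of `F` with source `P`. This lets proofs
compose, restrict and compare maps without subtypes.
-/

namespace CfsgLib.FusionNormal

open Cfsg Cfsg.FusionSystem CfsgLib.Fusion

variable {Ω : Type*} [Group Ω] {S : Subgroup Ω} {F : FusionSystem S} {P Q R N : Subgroup Ω}

/-- `f` agrees on `P` with a map of `F` with source `P`. -/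
def MapFn (F : FusionSystem S) (P : Subgroup Ω) (f : Ω → Ω) : Prop :=
  ∃ φ ∈ F.Hom P, ∀ x : P, φ x = f x

theorem mapFn_of_hom {φ : P →* Ω} (hφ : φ ∈ F.Hom P) :
    ∃ f : Ω → Ω, MapFn F P f ∧ ∀ x : P, φ x = f x := by
  classical
  refine ⟨fun y => if h : y ∈ P then φ ⟨y, h⟩ else 1, ?_, ?_⟩
  · exact ⟨φ, hφ, fun x => by simp⟩
  · intro x; simp

theorem MapFn.mem {f : Ω → Ω} (h : MapFn F P f) {χ : P →* Ω} (hχ : ∀ x : P, χ x = f x) :
    χ ∈ F.Hom P := by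
  obtain ⟨φ, hφ, he⟩ := h
  exact restrict_of le_rfl hφ fun x => (hχ x).trans (he x).symm

theorem hom_eq_iff_mapFn {E : FusionSystem S} :
    F.Hom P = E.Hom P ↔ ∀ f : Ω → Ω, MapFn F P f ↔ MapFn E P f := by
  refine ⟨fun h f => by simp [MapFn, h], fun h => Set.ext fun φ => ⟨fun hφ => ?_, fun hφ => ?_⟩⟩
  · obtain ⟨f, hf, he⟩ := mapFn_of_hom hφ
    exact ((h f).mp hf).mem he
  · obtain ⟨f, hf, he⟩ := mapFn_of_hom hφ
    exact ((h f).mpr hf).mem he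

theorem hom_subset_iff_mapFn {T : Subgroup Ω} {E : FusionSystem T} :
    F.Hom P ⊆ E.Hom P ↔ ∀ f : Ω → Ω, MapFn F P f → MapFn E P f := by
  refine ⟨fun h f ⟨φ, hφ, he⟩ => ⟨φ, h hφ, he⟩, fun h φ hφ => ?_⟩
  obtain ⟨f, hf, he⟩ := mapFn_of_hom hφ
  exact (h f hf).mem he

theorem MapFn.congr {f g : Ω → Ω} (h : MapFn F P f) (e : ∀ x ∈ P, f x = g x) : MapFn F P g := by
  obtain ⟨φ, hφ, he⟩ := h
  exact ⟨φ, hφ, fun x => (he x).trans (e x x.2)⟩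

theorem MapFn.le_S {f : Ω → Ω} (h : MapFn F P f) : P ≤ S := by
  obtain ⟨φ, hφ, -⟩ := h; exact Fusion.le_S hφ

theorem MapFn.mem_S {f : Ω → Ω} (h : MapFn F P f) {x : Ω} (hx : x ∈ P) : f x ∈ S := by
  obtain ⟨φ, hφ, he⟩ := h
  rw [← he ⟨x, hx⟩]; exact apply_mem_S hφ _

theorem MapFn.map_mul {f : Ω → Ω} (h : MapFn F P f) {x y : Ω} (hx : x ∈ P) (hy : y ∈ P) :
    f (x * y) = f x * f y := by
  obtain ⟨φ, -, he⟩ := h
  rw [← he ⟨x, hx⟩, ← he ⟨y, hy⟩, ← _root_.map_mul]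
  exact (he ⟨x * y, P.mul_mem hx hy⟩).symm

theorem MapFn.map_one {f : Ω → Ω} (h : MapFn F P f) : f 1 = 1 := by
  obtain ⟨φ, -, he⟩ := h
  exact (he 1).symm.trans (_root_.map_one φ)

theorem MapFn.map_inv {f : Ω → Ω} (h : MapFn F P f) {x : Ω} (hx : x ∈ P) : f x⁻¹ = (f x)⁻¹ := by
  obtain ⟨φ, -, he⟩ := h
  rw [← he ⟨x, hx⟩, ← _root_.map_inv]
  exact (he ⟨x⁻¹, P.inv_mem hx⟩).symm

theorem MapFn.map_pow {f : Ω → Ω} (h : MapFn F P f) {x : Ω} (hx : x ∈ P) (n : ℕ) :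
    f (x ^ n) = f x ^ n := by
  obtain ⟨φ, -, he⟩ := h
  rw [← he ⟨x, hx⟩, ← _root_.map_pow]
  exact (he ⟨x ^ n, P.pow_mem hx n⟩).symm

theorem MapFn.map_conj {f : Ω → Ω} (h : MapFn F P f) {g x : Ω} (hg : g ∈ P) (hx : x ∈ P) :
    f (g * x * g⁻¹) = f g * f x * (f g)⁻¹ := by
  rw [h.map_mul (P.mul_mem hg hx) (P.inv_mem hg), h.map_mul hg hx, h.map_inv hg]

theorem MapFn.injOn {f : Ω → Ω} (h : MapFn F P f) {x y : Ω} (hx : x ∈ P) (hy : y ∈ P)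
    (e : f x = f y) : x = y := by
  obtain ⟨φ, hφ, he⟩ := h
  exact congrArg Subtype.val
    (F.injective_of_mem hφ ((he ⟨x, hx⟩).trans (e.trans (he ⟨y, hy⟩).symm)))

theorem MapFn.mono {f : Ω → Ω} (h : MapFn F P f) (hR : R ≤ P) : MapFn F R f := by
  obtain ⟨φ, hφ, he⟩ := h
  exact ⟨_, restrict_mem hR hφ, fun x => he ⟨x, hR x.2⟩⟩

theorem MapFn.comp {f g : Ω → Ω} (hf : MapFn F P f) (hg : MapFn F Q g)
    (h : ∀ x ∈ P, f x ∈ Q) : MapFn F P (g ∘ f) := by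
  obtain ⟨φ, hφ, he⟩ := hf
  obtain ⟨ψ, hψ, hψe⟩ := hg
  obtain ⟨χ, hχ, hχe⟩ := exists_comp hφ hψ fun x => by rw [he]; exact h x x.2
  refine ⟨χ, hχ, fun x => ?_⟩
  rw [hχe, hψe]
  exact congrArg g (he x)

theorem mapFn_conj (hP : P ≤ S) {g : Ω} (hg : g ∈ S) : MapFn F P fun x => g * x * g⁻¹ :=
  ⟨conjHom P g, F.conj_mem hP hg, fun _ => rfl⟩

theorem mapFn_id (hP : P ≤ S) : MapFn F P id := ⟨P.subtype, subtype_mem hP, fun _ => rfl⟩

theorem MapFn.conj_comp {f : Ω → Ω} (h : MapFn F P f) {g : Ω} (hg : g ∈ S) :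
    MapFn F P fun x => g * f x * g⁻¹ :=
  h.comp (mapFn_conj le_rfl hg) fun _ hx => h.mem_S hx

theorem MapFn.image_eq_range {f : Ω → Ω} {φ : P →* Ω} (he : ∀ x : P, φ x = f x) :
    f '' P = (φ.range : Set Ω) := by
  ext y
  constructor
  · rintro ⟨x, hx, rfl⟩; exact ⟨⟨x, hx⟩, he _⟩
  · rintro ⟨x, rfl⟩; exact ⟨x, x.2, (he x).symm⟩

theorem MapFn.exists_image {f : Ω → Ω} (h : MapFn F P f) :
    ∃ Q : Subgroup Ω, Q ≤ S ∧ f '' P = Q := by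
  obtain ⟨φ, hφ, he⟩ := h
  exact ⟨φ.range, range_le_S hφ, MapFn.image_eq_range he⟩

theorem mem_of_image {f : Ω → Ω} (hr : f '' P = (Q : Set Ω)) {x : Ω} (hx : x ∈ P) : f x ∈ Q :=
  SetLike.mem_coe.mp (hr ▸ Set.mem_image_of_mem f hx)

theorem exists_of_image {f : Ω → Ω} (hr : f '' P = (Q : Set Ω)) {y : Ω} (hy : y ∈ Q) :
    ∃ x ∈ P, f x = y := by
  rw [← SetLike.mem_coe, ← hr] at hy
  exact hy

theorem image_comp {f g : Ω → Ω} (hf : f '' P = (Q : Set Ω)) (hg : g '' Q = (R : Set Ω)) :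
    (g ∘ f) '' P = (R : Set Ω) := by rw [Set.image_comp, hf, hg]

theorem isConj_iff : F.IsConj P Q ↔ ∃ f, MapFn F P f ∧ f '' P = (Q : Set Ω) := by
  constructor
  · rintro ⟨φ, hφ, rfl⟩
    obtain ⟨f, hf, he⟩ := mapFn_of_hom hφ
    exact ⟨f, hf, MapFn.image_eq_range he⟩
  · rintro ⟨f, ⟨φ, hφ, he⟩, hr⟩
    exact ⟨φ, hφ, SetLike.coe_injective (by rw [← MapFn.image_eq_range he, hr])⟩

theorem MapFn.isConj {f : Ω → Ω} (h : MapFn F P f) (hr : f '' P = (Q : Set Ω)) : F.IsConj P Q :=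
  isConj_iff.mpr ⟨f, h, hr⟩

theorem MapFn.exists_inv {f : Ω → Ω} (h : MapFn F P f) (hr : f '' P = (Q : Set Ω)) :
    ∃ g, MapFn F Q g ∧ g '' Q = (P : Set Ω) ∧ (∀ x ∈ P, g (f x) = x) ∧ ∀ y ∈ Q, f (g y) = y := by
  obtain ⟨φ, hφ, he⟩ := h
  have hφr : φ.range = Q := SetLike.coe_injective (by rw [← MapFn.image_eq_range he, hr])
  obtain ⟨ψ, hψ, hψr, h₁, -⟩ := Fusion.exists_inv hφ hφr
  obtain ⟨g, hg, hge⟩ := mapFn_of_hom hψ
  have h₁' : ∀ x ∈ P, g (f x) = x := fun x hx => by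
    have hm : φ ⟨x, hx⟩ ∈ Q := hφr.le ⟨_, rfl⟩
    have := h₁ ⟨x, hx⟩ hm
    rw [hge] at this
    change g (φ ⟨x, hx⟩) = x at this
    rwa [he] at this
  refine ⟨g, hg, by rw [MapFn.image_eq_range hge, hψr], h₁', fun y hy => ?_⟩
  obtain ⟨x, hx, rfl⟩ := exists_of_image hr hy
  rw [h₁' x hx]

theorem MapFn.card_image {f : Ω → Ω} (h : MapFn F P f) (hr : f '' P = (Q : Set Ω)) :
    Nat.card Q = Nat.card P :=
  IsConj.card_eq (h.isConj hr)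

theorem MapFn.image_eq_of_maps [Finite S] {f : Ω → Ω} (h : MapFn F P f) (hQ : Q ≤ S)
    (hm : ∀ x ∈ P, f x ∈ Q) (hc : Nat.card Q ≤ Nat.card P) : f '' P = (Q : Set Ω) := by
  obtain ⟨φ, hφ, he⟩ := h
  rw [MapFn.image_eq_range he,
    range_eq_of_card_le hφ hQ (fun x => by rw [he]; exact hm x x.2) hc]

/-! ### Automorphisms -/

theorem mem_autGroup_iff_mapFn (hP : P ≤ S) {α : MulAut P} :
    α ∈ F.autGroup P ↔ ∃ f, MapFn F P f ∧ ∀ x : P, f x = ((α x : P) : Ω) := by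
  rw [mem_autGroup hP]
  constructor
  · intro h
    obtain ⟨f, hf, he⟩ := mapFn_of_hom h
    exact ⟨f, hf, fun x => (he x).symm⟩
  · rintro ⟨f, hf, he⟩
    exact hf.mem fun x => (he x).symm

theorem MapFn.exists_aut {f : Ω → Ω} (h : MapFn F P f) (hr : f '' P = (P : Set Ω)) :
    ∃ α ∈ F.autGroup P, ∀ x : P, ((α x : P) : Ω) = f x := by
  obtain ⟨φ, hφ, he⟩ := h
  obtain ⟨α, hα, hαe⟩ := Fusion.exists_aut hφ
    (SetLike.coe_injective (by rw [← MapFn.image_eq_range he, hr]))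
  exact ⟨α, hα, fun x => (hαe x).trans (he x)⟩

theorem exists_mapFn_of_aut (hP : P ≤ S) {α : MulAut P} (hα : α ∈ F.autGroup P) :
    ∃ f, MapFn F P f ∧ f '' P = (P : Set Ω) ∧ ∀ x : P, f x = ((α x : P) : Ω) := by
  obtain ⟨φ, hφ, hr, he⟩ := exists_map_of_mem_autGroup hP hα
  obtain ⟨f, hf, hfe⟩ := mapFn_of_hom hφ
  exact ⟨f, hf, by rw [MapFn.image_eq_range hfe, hr], fun x => (hfe x).symm.trans (he x)⟩

/-! ### Extensions and normalizers -/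

theorem MapFn.exists_extension {f : Ω → Ω} (hQ : F.IsReceptive Q) (hf : MapFn F P f)
    (hr : f '' P = (Q : Set Ω)) (hPN : P ≤ N) (hN : N ≤ normalizerIn S P)
    (h : ∀ g ∈ N, ∃ s ∈ S, ∀ x ∈ P, f (g * x * g⁻¹) = s * f x * s⁻¹) :
    ∃ g, MapFn F N g ∧ ∀ x ∈ P, g x = f x := by
  obtain ⟨φ, hφ, he⟩ := hf
  have hφr : φ.range = Q := SetLike.coe_injective (by rw [← MapFn.image_eq_range he, hr])
  obtain ⟨ψ, hψ, hψe⟩ := Fusion.exists_extension hQ hφ hφr hPN fun g hg => by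
    obtain ⟨s, hs, hse⟩ := h g hg
    exact mem_extender.mpr ⟨(hN hg).1, (hN hg).2, s, hs, fun x hx => by
      rw [he, he]; exact hse x x.2⟩
  obtain ⟨k, hk, hke⟩ := mapFn_of_hom hψ
  exact ⟨k, hk, fun x hx => ((hke ⟨x, hPN hx⟩).symm.trans (hψe ⟨x, hx⟩)).trans (he ⟨x, hx⟩)⟩

theorem conj_mem_of_normalizer {g x : Ω} (hg : g ∈ Subgroup.normalizer (P : Set Ω)) (hx : x ∈ P) :
    g * x * g⁻¹ ∈ P :=
  (Subgroup.mem_normalizer_iff.mp hg x).mp hx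

theorem MapFn.mem_normalizerIn [Finite S] {f : Ω → Ω} (h : MapFn F N f) (hPN : P ≤ N)
    (hr : f '' P = (Q : Set Ω)) {g : Ω} (hg : g ∈ N) (hgP : g ∈ Subgroup.normalizer (P : Set Ω)) :
    f g ∈ normalizerIn S Q := by
  obtain ⟨Q', hQ'S, hQ'⟩ := (h.mono hPN).exists_image
  obtain rfl : Q' = Q := SetLike.coe_injective (hQ'.symm.trans hr)
  have := finite_of_le hQ'S
  refine ⟨h.mem_S hg, mem_normalizer_of_forall fun y hy => ?_⟩
  obtain ⟨x, hx, rfl⟩ := exists_of_image hr hy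
  rw [← h.map_conj hg (hPN hx)]
  exact mem_of_image hr (conj_mem_of_normalizer hgP hx)

/-- A map onto a fully centralized subgroup extends to the source times its centralizer. -/
theorem MapFn.extend_centralizer [Finite S] {p : ℕ} [Fact p.Prime] (hS : IsPGroup p S)
    (hF : F.IsSaturated p) {f : Ω → Ω} (hQ : F.IsFullyCentralized Q) (hf : MapFn F P f)
    (hr : f '' P = (Q : Set Ω)) :
    ∃ g, MapFn F (P ⊔ centralizerIn S P) g ∧ ∀ x ∈ P, g x = f x := by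
  obtain ⟨φ, hφ, he⟩ := hf
  have hφr : φ.range = Q := SetLike.coe_injective (by rw [← MapFn.image_eq_range he, hr])
  obtain ⟨ψ, hψ, hψe⟩ := Fusion.exists_extension (receptive_of_fullyCentralized hS hF hQ) hφ hφr
    (le_sup_left : P ≤ P ⊔ centralizerIn S P)
    (sup_le (le_extender (Fusion.le_S hφ) (apply_mem_S hφ)) centralizerIn_le_extender)
  obtain ⟨k, hk, hke⟩ := mapFn_of_hom hψ
  exact ⟨k, hk, fun x hx =>
    ((hke ⟨x, Subgroup.mem_sup_left hx⟩).symm.trans (hψe ⟨x, hx⟩)).trans (he ⟨x, hx⟩)⟩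

theorem MapFn.mem_centralizerIn {f : Ω → Ω} (h : MapFn F N f) (hPN : P ≤ N)
    (hr : f '' P = (Q : Set Ω)) {g : Ω} (hg : g ∈ N) (hgP : g ∈ centralizerIn S P) :
    f g ∈ centralizerIn S Q := by
  refine Fusion.mem_centralizerIn.mpr ⟨h.mem_S hg, fun y hy => ?_⟩
  obtain ⟨x, hx, rfl⟩ := exists_of_image hr hy
  rw [← h.map_mul (hPN hx) hg, ← h.map_mul hg (hPN hx), (Fusion.mem_centralizerIn.mp hgP).2 x hx]

section saturated

variable [Finite S] {p : ℕ} [Fact p.Prime]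

/-- Every conjugate of a fully normalized subgroup maps its normalizer into that of the latter. -/
theorem exists_normalizer_mapFn (hS : IsPGroup p S) (hF : F.IsSaturated p)
    (hQ : F.IsFullyNormalized Q) (hP : F.IsConj P Q) :
    ∃ f, MapFn F (normalizerIn S P) f ∧ f '' P = (Q : Set Ω) ∧
      ∀ g ∈ normalizerIn S P, f g ∈ normalizerIn S Q := by
  obtain ⟨h₁, h₂⟩ := fullyNormalized_good hS hF hQ
  obtain ⟨φ, hφ, hm, hmap⟩ := exists_normalizer_hom hS h₁ h₂ hP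
  obtain ⟨f, hf, he⟩ := mapFn_of_hom hφ
  refine ⟨f, hf, ?_, fun g hg => by rw [← he ⟨g, hg⟩]; exact hm _⟩
  rw [← hmap]
  ext y
  constructor
  · rintro ⟨x, hx, rfl⟩
    exact ⟨⟨x, le_normalizerIn (IsConj.le_left hP) hx⟩, hx, he _⟩
  · rintro ⟨x, hx, rfl⟩
    exact ⟨x, hx, (he x).symm⟩

/-- A fully normalized conjugate with a normalizer map. -/
theorem exists_fullyNormalized_mapFn (hS : IsPGroup p S) (hF : F.IsSaturated p) (hP : P ≤ S) :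
    ∃ (Q : Subgroup Ω) (f : Ω → Ω), F.IsFullyNormalized Q ∧ MapFn F (normalizerIn S P) f ∧
      f '' P = (Q : Set Ω) ∧ ∀ g ∈ normalizerIn S P, f g ∈ normalizerIn S Q := by
  obtain ⟨Q, hQ, hn⟩ := exists_fullyNormalized (F := F) hP
  obtain ⟨f, hf⟩ := exists_normalizer_mapFn hS hF hn hQ
  exact ⟨Q, f, hn, hf⟩

theorem lt_normalizerIn' (hS : IsPGroup p S) (hP : P ≤ S) (hne : P ≠ S) :
    P < normalizerIn S P :=
  Fusion.lt_normalizerIn hS le_rfl (lt_of_le_of_ne hP hne)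

end saturated

end CfsgLib.FusionNormal
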