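import Cfsg.Agent.Lib.Fusion.ComponentImage

/-!
# Automorphisms of a fusion system fix its layer
-/

set_option autoImplicit false
set_option linter.style.haveILetI false

namespace CfsgLib.FusionNormal.LayerTransport

open Cfsg Cfsg.FusionSystem CfsgLib.Fusion CfsgLib.FusionNormal CfsgLib.FusionTransport

variable {Ω : Type*} [Group Ω] {Ω' : Type*} [Group Ω']

theorem imageAlong_eq {S : Subgroup Ω} {S' : Subgroup Ω'} (e : Emb S S') {θ : S →* Ω'}
    (hθ : ∀ x : S, θ x = e.f x) {P : Subgroup Ω} (hP : P ≤ S) : imageAlong θ P = e.img P := by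
  ext y
  constructor
  · rintro ⟨x, hx, rfl⟩
    rw [hθ]; exact e.f_mem_img hP hx
  · rintro ⟨hy, hyP⟩
    exact ⟨⟨e.g y, hP hyP⟩, hyP, by rw [hθ]; exact e.fg y hy⟩

theorem fwd_of_morphism {S : Subgroup Ω} {S' : Subgroup Ω'} {F : FusionSystem S} {F' : FusionSystem S'}
    (e : Emb S S') {θ : S →* Ω'} (hθ : ∀ x : S, θ x = e.f x) (hm : F.IsMorphism F' θ) {P : Subgroup Ω}
    {k : Ω → Ω} (hk : MapFn F P k) : MapFn F' (e.img P) (e.f ∘ k ∘ e.g) := by
  have hPS := hk.le_S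
  obtain ⟨φ, hφ, he⟩ := hk
  obtain ⟨φ', hφ', hPS', hφm, hP', hind⟩ := hm.2 P φ hφ
  obtain ⟨h, hh, hhe⟩ := mapFn_of_hom hφ'
  rw [imageAlong_eq e hθ hPS] at hh
  refine hh.congr fun y hy => ?_
  have hx : e.g y ∈ P := hy.2
  have h1 := hind ⟨e.g y, hx⟩
  rw [hhe, hθ ⟨φ ⟨e.g y, hx⟩, hφm _⟩] at h1
  simp only [hθ] at h1
  show h y = e.f (k (e.g y))
  rw [← he ⟨e.g y, hx⟩]
  calc h y = h (e.f (e.g y)) := by rw [e.fg y hy.1]
    _ = _ := h1

variable {T : Subgroup Ω} {T' : Subgroup Ω'} {e : Emb T T'}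

/-- A relation restricted to the subgroups of the two systems. -/
theorem rel_restrict {U : Subgroup Ω} {X : FusionSystem U} {U' : Subgroup Ω'} {X' : FusionSystem U'}
    (h : Rel e X X') : ∃ e' : Emb U U', Rel e' X X' := by
  have hU := h.le
  have hgU : ∀ y ∈ U', e.g y ∈ U := fun y hy => (h.eq.ge hy).2
  have hfU : ∀ x ∈ U, e.f x ∈ U' := fun x hx => h.eq.le (e.f_mem_img hU hx)
  let e' : Emb U U' :=
    { f := e.f
      g := e.g
      f_mem := hfU
      g_mem := hgU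
      gf := fun x hx => e.gf x (hU hx)
      fg := fun y hy => e.fg y (h.le' hy)
      f_mul := fun x hx y hy => e.f_mul x (hU hx) y (hU hy) }
  refine ⟨e', le_rfl, e'.img_self, fun {P k} hk => ?_, fun {Q k} hk => ?_⟩
  · have : e'.img P = e.img P := by
      ext y
      exact ⟨fun hy => ⟨h.le' hy.1, hy.2⟩, fun hy => ⟨h.eq.le ⟨hy.1, hk.le_S hy.2⟩, hy.2⟩⟩
    rw [this]; exact h.fwd hk
  · have : e'.symm.img Q = e.symm.img Q := by
      ext x
      refine ⟨fun hx => ⟨hU hx.1, hx.2⟩, fun hx => ⟨?_, hx.2⟩⟩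
      have h1 := (h.eq.ge (hk.le_S hx.2)).2
      show x ∈ U
      change e.g (e.f x) ∈ U at h1
      rwa [e.gf x hx.1] at h1
    rw [this]; exact h.bwd hk

/-- The layer is contained in its image under an automorphism of the system. -/
theorem layer_le_sys {S : Subgroup Ω} [Finite S] {F : FusionSystem S} {p : ℕ} [Fact p.Prime]
    (hS : IsPGroup p S) {e : Emb S S} (hF : Rel e F F) {T : Subgroup Ω} {E : FusionSystem T}
    (hE : E.IsLayerOf F p) (hT : T ≤ S) : E.IsSubsystemOf (sys e E hT) := by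
  have hR := rel_sys e E hT
  refine hE.2.2 _ _ (hR.isNormalIn hS hF hE.1) fun U C hC => ?_
  have hUS : U ≤ S := le_of_subnormal hC.1
  obtain ⟨C', hC', hs⟩ := subnormal_transport (Fact.mk (Fact.out : p.Prime)) hC.1 hS hF.symm
  obtain ⟨e', he'⟩ := rel_restrict hC'
  haveI := finite_of_le hUS
  haveI : Finite (e.symm.img U) := finite_of_le (e.symm.img_le U)
  have hq : C'.Quasisimple p :=
    he'.quasisimple (hS.to_le hUS) (hS.to_le (e.symm.img_le U)) hC.2
  have hsub := hE.2.1 _ C' ⟨hs, hq⟩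
  intro P
  rw [hom_subset_iff_mapFn]
  intro k hk
  have hPS : P ≤ S := hk.le_S.trans hUS
  have h1 := hR.fwd (mapFn_of_sub hsub (hC'.fwd hk))
  rw [e.img_symm hPS] at h1
  refine h1.congr fun x hx => ?_
  show e.f (e.g (k (e.f (e.g x)))) = k x
  rw [e.fg x (hPS hx), e.fg _ (hUS (hk.mem_S hx))]

/-- An automorphism of the system carries the layer onto itself. -/
theorem layer_invariant {S : Subgroup Ω} [Finite S] {F : FusionSystem S} {p : ℕ} [Fact p.Prime]
    (hS : IsPGroup p S) {e : Emb S S} (hF : Rel e F F) {T : Subgroup Ω} {E : FusionSystem T}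
    (hE : E.IsLayerOf F p) :
    e.img T = T ∧ ∀ {P : Subgroup Ω} {k : Ω → Ω}, MapFn E P k → MapFn E (e.img P) (e.f ∘ k ∘ e.g) := by
  have hT : T ≤ S := hE.1.1.2.2.2.1.1
  haveI := finite_of_le hT
  have h1 := layer_le_sys hS hF hE hT
  have hle : T ≤ e.img T := Fusion.le_S (h1 T (subtype_mem le_rfl))
  have hcard : Nat.card (e.img T) = Nat.card T := (Nat.card_congr (e.equiv hT).toEquiv).symm
  haveI : Finite (e.img T) := finite_of_le (e.img_le T)
  refine ⟨(eq_of_le_of_card_le hle hcard.le).symm, fun {P k} hk => ?_⟩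
  have hPS : P ≤ S := hk.le_S.trans hT
  have h2 := (rel_sys e.symm E hT).bwd (mapFn_of_sub (layer_le_sys hS hF.symm hE hT) hk)
  exact h2

end CfsgLib.FusionNormal.LayerTransport
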