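import Cfsg.Agent.Lib.FusionNormal.Alperin
import Cfsg.Agent.Lib.Fusion.Stabilizer

/-!
# Maps on centric subgroups are determined modulo the centre by their restrictions
-/

namespace CfsgLib.FusionNormal

open Cfsg Cfsg.FusionSystem CfsgLib.Fusion

variable {Ω : Type*} [Group Ω] {S : Subgroup Ω} {F : FusionSystem S} {P Q R N : Subgroup Ω}

theorem mem_zpowers_mul_normalizer {g : Ω} (hg : g ∈ N) (hQN : Q ≤ N)
    (hN : N ≤ Subgroup.normalizer (Q : Set Ω)) {x : Ω} (hx : x ∈ Q) : g * x * g⁻¹ ∈ Q :=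
  conj_mem_of_normalizer (hN hg) hx

variable [Finite S] {p : ℕ} [Fact p.Prime]

/-- A map on an overgroup normalizing a centric subgroup and fixing it is conjugation by an element
of that subgroup. -/
theorem exists_conj_of_fixed (hS : IsPGroup p S) (hF : F.IsSaturated p) (hQ : F.IsCentric Q)
    (hQN : Q ≤ N) (hN : N ≤ normalizerIn S Q) {w : Ω → Ω} (hw : MapFn F N w)
    (hfix : ∀ x ∈ Q, w x = x) : ∃ z ∈ Q, ∀ g ∈ N, w g = z * g * z⁻¹ := by
  have hNS : N ≤ S := hN.trans normalizerIn_le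
  have hQS := hQ.1
  have hdiff : ∀ g ∈ N, g⁻¹ * w g ∈ Q := by
    intro g hg
    have h1 : w g * g⁻¹ ∈ centralizerIn S Q := by
      refine mem_centralizerIn'.mpr ⟨S.mul_mem (hw.mem_S hg) (S.inv_mem (hNS hg)), fun x => ?_⟩
      have hx' : g⁻¹ * (x : Ω) * g ∈ Q := by
        simpa using conj_mem_of_normalizer (Subgroup.inv_mem _ (hN hg).2) x.2
      have e := hw.map_conj hg (hQN hx')
      rw [hfix _ hx'] at e
      have e2 : g * (g⁻¹ * (x : Ω) * g) * g⁻¹ = x := by group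
      rw [e2, hfix _ x.2] at e
      calc w g * g⁻¹ * (x : Ω) * (w g * g⁻¹)⁻¹ = w g * (g⁻¹ * x * g) * (w g)⁻¹ := by group
        _ = x := e.symm
    have h2 := (conj_mem_of_normalizer (Subgroup.inv_mem _ (hN hg).2)) (IsCentric.centralizerIn_le' hQ h1)
    simpa [mul_assoc] using h2
  obtain ⟨M, hMS, hM⟩ := hw.exists_image
  have hwr : w '' N = (N : Set Ω) :=
    hw.image_eq_of_maps hNS (fun g hg => by
      simpa using N.mul_mem hg (hQN (hdiff g hg))) le_rfl
  obtain ⟨α, hα, hαe⟩ := hw.exists_aut hwr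
  haveI := finite_of_le hNS
  -- `α` is a `p`-element
  obtain ⟨k, hk⟩ : ∃ k, α ^ p ^ k = 1 := by
    refine exists_pow_eq_one_of_stabilizes (hS.to_le hNS) (n := 1)
      (fun i => if i = 0 then Q.subgroupOf N else ⊤) (fun i hi => ?_) rfl ⟨0, fun x hx => ?_⟩
      fun i hi x hx => ?_
    · obtain rfl : i = 0 := by omega
      simp
    · rw [if_pos rfl, Subgroup.mem_subgroupOf] at hx
      refine Subtype.ext ?_
      simpa [hαe] using hfix _ hx
    · obtain rfl : i = 0 := by omega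
      rw [if_pos rfl, Subgroup.mem_subgroupOf, Subgroup.coe_mul, Subgroup.coe_inv, hαe]
      exact hdiff _ x.2
  obtain ⟨N', hN'a, -, hN'c, -⟩ := exists_good_conj hS hF hNS
  obtain ⟨u₀, hu₀, hu₀r⟩ := isConj_iff.mp hN'c
  obtain ⟨φ, hφ, hφe⟩ := hu₀
  obtain ⟨e, he⟩ := exists_equiv (Q := N') hφ (SetLike.coe_injective (by rw [← MapFn.image_eq_range hφe, hu₀r]))
  have hαp : IsPGroup p (Subgroup.zpowers α) := by
    haveI := finite_mulAut hNS
    obtain ⟨l, -, hl⟩ := (Nat.dvd_prime_pow (Fact.out : p.Prime)).mp (orderOf_dvd_of_pow_eq_one hk)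
    exact IsPGroup.of_card (by rw [Nat.card_zpowers, hl])
  obtain ⟨β, hβ, hβA⟩ := FullyAutomized.exists_conj hN'a
    (A := (Subgroup.zpowers α).map (MulAut.congr e).toMonoidHom)
    ((Subgroup.map_mono (Subgroup.zpowers_le.mpr hα)).trans (map_autGroup hφ he).le) (hαp.map _)
  obtain ⟨h, hh, hhe⟩ := mem_autInducedBy.mp (hβA _ ⟨α, Subgroup.mem_zpowers α, rfl⟩)
  obtain ⟨b, hb, hbr, hbe⟩ := exists_mapFn_of_aut hN'a.1 hβ
  have hu₀N : ∀ x ∈ N, u₀ x ∈ N' := fun x hx => mem_of_image hu₀r hx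
  have hu : MapFn F N (b ∘ u₀) := MapFn.comp ⟨φ, hφ, hφe⟩ hb hu₀N
  have hur : (b ∘ u₀) '' N = (N' : Set Ω) := image_comp hu₀r hbr
  have hue : ∀ x : N, (b ∘ u₀) x = ((β (e x) : N') : Ω) := fun x => by
    rw [← hbe]
    show b (u₀ (x : Ω)) = b ((e x : N') : Ω)
    rw [he, hφe]
  have hkey : ∀ x ∈ N, (b ∘ u₀) (w x) = h * (b ∘ u₀) x * h⁻¹ := by
    intro x hx
    have h1 := hhe (β (e ⟨x, hx⟩))
    rw [MulAut.mul_apply, MulAut.mul_apply, MulAut.inv_apply, MulEquiv.symm_apply_apply,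
      ← hue ⟨x, hx⟩] at h1
    have h2 := hue (α ⟨x, hx⟩)
    rw [hαe] at h2
    rw [h2, ← h1]
    simp [MulAut.congr]
  obtain ⟨Q', -, hQ'⟩ := (hu.mono hQN).exists_image
  have hh' : h ∈ Q' := by
    refine hQ.2 Q' ((hu.mono hQN).isConj hQ') (mem_centralizerIn'.mpr ⟨hh, fun y => ?_⟩)
    obtain ⟨x, hx, hxy⟩ := exists_of_image hQ' y.2
    rw [← hxy, ← hkey x (hQN hx), hfix x hx]
  obtain ⟨z, hz, hzh⟩ := exists_of_image hQ' hh'
  refine ⟨z, hz, fun g hg => hu.injOn (mem_of_image hwr hg)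
    (N.mul_mem (N.mul_mem (hQN hz) hg) (N.inv_mem (hQN hz))) ?_⟩
  rw [hkey g hg, hu.map_conj (hQN hz) hg, hzh]

/-- For saturated `E ≤ F`, a map of `F` whose restriction to an `F`-centric subgroup is a map of `E`
is a map of `E`. -/
theorem mapFn_of_centric_restrict {E : FusionSystem S} (hS : IsPGroup p S) (hF : F.IsSaturated p)
    (hE : E.IsSaturated p) (hle : E ≤ F) (hQ : F.IsCentric Q) (hQR : Q ≤ R) {f : Ω → Ω}
    (hf : MapFn F R f) (h : MapFn E Q f) : MapFn E R f := by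
  suffices H : ∀ (n : ℕ) (Q : Subgroup Ω), Nat.card R - Nat.card Q < n → F.IsCentric Q → Q ≤ R →
      MapFn E Q f → MapFn E R f from H _ Q (Nat.lt_succ_self _) hQ hQR h
  intro n
  induction n with
  | zero => intro Q h; omega
  | succ n ih =>
  intro Q hn hQ hQR h
  have hleF : ∀ (P : Subgroup Ω) g, MapFn E P g → MapFn F P g :=
    fun P => hom_subset_iff_mapFn.mp (hle P)
  by_cases hQReq : Q = R
  · exact hQReq ▸ h
  have hRS := hf.le_S
  haveI := finite_of_le hRS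
  set N := normalizerIn R Q with hNdef
  have hQN : Q < N := Fusion.lt_normalizerIn hS hRS (lt_of_le_of_ne hQR hQReq)
  have hNR : N ≤ R := inf_le_left
  have hNS : N ≤ normalizerIn S Q := inf_le_inf_right _ hRS
  obtain ⟨Q', hQ'S, hQ'⟩ := h.exists_image
  have hQ'E : E.IsCentric Q' := by
    refine ⟨hQ'S, fun W hW => hQ.2 W ?_⟩
    obtain ⟨g, hg, hgr⟩ := isConj_iff.mp hW
    exact (hf.mono hQR).isConj hQ' |> fun h1 => Fusion.isConj_trans h1 ((hleF _ _ hg).isConj hgr)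
  obtain ⟨g, hg, hge⟩ := h.exists_extension
    (receptive_of_fullyCentralized hS hE (isFullyCentralized_of_centric hQ'E)) hQ' hQN.le hNS
    fun x hx => ⟨f x, hf.mem_S (hNR hx), fun y hy => hf.map_conj (hNR hx) (hQR hy)⟩
  obtain ⟨M, hMS, hM⟩ := hg.exists_image
  obtain ⟨g', hg', hg'r, hg'₁, hg'₂⟩ := hg.exists_inv hM
  have hmM : ∀ x ∈ N, f x ∈ M := by
    intro x hx
    have h1 : (g x)⁻¹ * f x ∈ centralizerIn S Q' := by
      refine mem_centralizerIn'.mpr ⟨S.mul_mem (S.inv_mem (hg.mem_S hx)) (hf.mem_S (hNR hx)), fun y => ?_⟩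
      obtain ⟨z, hz, hzy⟩ := exists_of_image hQ' y.2
      have e1 := hg.map_conj hx (hQN.le hz)
      rw [hge z hz, hge _ (conj_mem_of_normalizer hx.2 hz), hf.map_conj (hNR hx) (hQR hz)] at e1
      rw [← hzy]
      calc (g x)⁻¹ * f x * f z * ((g x)⁻¹ * f x)⁻¹ = (g x)⁻¹ * (f x * f z * (f x)⁻¹) * g x := by group
        _ = f z := by rw [e1]; group
    obtain ⟨z, hz, hze⟩ := exists_of_image hQ' (IsCentric.centralizerIn_le' hQ'E h1)
    have h2 := M.mul_mem (mem_of_image hM hx) (mem_of_image hM (hQN.le hz))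
    rwa [hge z hz, hze, mul_inv_cancel_left] at h2
  obtain ⟨z, hz, hzw⟩ := exists_conj_of_fixed hS hF hQ hQN.le hNS
    ((hf.mono hNR).comp (hleF _ _ hg') hmM) fun x hx => by
      show g' (f x) = x
      rw [← hge x hx, hg'₁ x (hQN.le hx)]
  have hfN : MapFn E N f := by
    refine ((mapFn_conj (hNR.trans hRS) (hQ.1 hz)).comp hg fun x hx => ?_).congr fun x hx => ?_
    · exact N.mul_mem (N.mul_mem (hQN.le hz) hx) (N.inv_mem (hQN.le hz))
    · show g (z * x * z⁻¹) = f x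
      rw [← hzw x hx]
      exact hg'₂ _ (hmM x hx)
  have hlt := card_lt_card (hNR.trans hRS) hQN
  have hNc := Subgroup.card_le_of_le hNR
  exact ih N (by omega) (IsCentric.of_le hQ hQN.le (hNR.trans hRS)) hNR hfN

/-- Frattini argument: if `Aut_E(Q)` is normal in `Aut_F(Q)` for the fully normalized centric radical
subgroups and the automizers of `S` agree then `E = F`. -/
theorem mapFn_of_normal_automizers {E : FusionSystem S} (hS : IsPGroup p S) (hF : F.IsSaturated p)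
    (hle : E ≤ F) (htop : F.autGroup S ≤ E.autGroup S)
    (hnorm : ∀ Q : Subgroup Ω, F.IsFullyNormalized Q → F.IsCentric Q → F.IsRadical p Q →
      ∀ a ∈ F.autGroup Q, ∀ b ∈ E.autGroup Q, a * b * a⁻¹ ∈ E.autGroup Q)
    (P : Subgroup Ω) (f : Ω → Ω) : MapFn F P f → MapFn E P f := by
  refine fun hf => alperin_induction hS hF (fun P f => MapFn E P f) (fun _ h e => h.congr e)
    (fun _ h hR => h.mono hR) (fun _ h₁ _ h₂ hm => h₁.comp h₂ hm) ?_ ?_ P f hf
  · intro P R f g hf h hr hg hinv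
    obtain ⟨g', hg', -, hg'₁, -⟩ := h.exists_inv hr
    exact hg'.congr fun y hy => by
      obtain ⟨x, hx, rfl⟩ := exists_of_image hr hy
      rw [hinv x hx, hg'₁ x hx]
  intro Q hn hc hr big a ha har
  have hQS := hn.1
  obtain ⟨α, hα, hαe⟩ := ha.exists_aut har
  by_cases hQeq : Q = S
  · subst hQeq
    obtain ⟨g, hg, -, hge⟩ := exists_mapFn_of_aut hQS (htop hα)
    exact hg.congr fun x hx => (hge ⟨x, hx⟩).trans (hαe ⟨x, hx⟩)
  haveI := finite_mulAut hQS
  obtain ⟨hQa, hQr⟩ := fullyNormalized_good hS hF hn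
  obtain ⟨T, hT⟩ := hQa.2
  have hEF : E.autGroup Q ≤ F.autGroup Q := fun x hx => by
    rw [mem_autGroup_iff_mapFn hQS] at hx ⊢
    obtain ⟨g, hg, hge⟩ := hx
    exact ⟨g, hom_subset_iff_mapFn.mp (hle Q) g hg, hge⟩
  haveI hBn : ((E.autGroup Q).subgroupOf (F.autGroup Q)).Normal :=
    ⟨fun b hb a => hnorm Q hn hc hr a a.2 b hb⟩
  have hTB : (T : Subgroup (F.autGroup Q)) ≤ (E.autGroup Q).subgroupOf (F.autGroup Q) := fun x hx => by
    rw [hT] at hx
    exact Subgroup.mem_subgroupOf.mpr (autInducedBy_le_autGroup hQS (Subgroup.mem_subgroupOf.mp hx))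
  let TB := T.subtype hTB
  have hmap : (TB : Subgroup _).map ((E.autGroup Q).subgroupOf (F.autGroup Q)).subtype =
      (T : Subgroup (F.autGroup Q)) := by
    rw [Sylow.coe_subtype, Subgroup.map_subgroupOf_eq_of_le hTB]
  have hfr : (⟨α, hα⟩ : F.autGroup Q) ∈ (E.autGroup Q).subgroupOf (F.autGroup Q) ⊔
      Subgroup.normalizer ((T : Subgroup (F.autGroup Q)) : Set (F.autGroup Q)) := by
    rw [sup_comm, ← hmap, Sylow.normalizer_sup_eq_top TB]
    exact Subgroup.mem_top _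
  obtain ⟨κ, hκ, ν, hν, hκν⟩ := Subgroup.mem_sup_of_normal_left.mp hfr
  obtain ⟨k, hk, hkr, hke⟩ := exists_mapFn_of_aut hQS (Subgroup.mem_subgroupOf.mp hκ)
  obtain ⟨n, hnu, hnr, hne⟩ := exists_mapFn_of_aut hQS ν.2
  obtain ⟨w, hw, hwe⟩ := hnu.exists_extension hQr hnr (le_normalizerIn hQS) le_rfl fun g hg => by
    obtain ⟨a, ha, hae⟩ := exists_autInducedBy hg.1 hg.2
    have h1 : (⟨a, autInducedBy_le_autGroup hQS ha⟩ : F.autGroup Q) ∈ (T : Subgroup (F.autGroup Q)) := by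
      rw [hT]; exact ha
    have h2 := (Subgroup.mem_normalizer_iff.mp hν _).mp h1
    rw [hT] at h2
    obtain ⟨s, hs, hse⟩ := mem_autInducedBy.mp (Subgroup.mem_subgroupOf.mp h2)
    refine ⟨s, hs, fun x hx => ?_⟩
    have h3 := hse ((ν : MulAut Q) ⟨x, hx⟩)
    rw [Subgroup.coe_mul, Subgroup.coe_mul, Subgroup.coe_inv, MulAut.mul_apply, MulAut.mul_apply,
      MulAut.inv_apply, MulEquiv.symm_apply_apply, ← hne ⟨x, hx⟩, ← hne, hae] at h3
    exact h3
  have hwE := (big _ w hw (card_lt_card normalizerIn_le (lt_normalizerIn' hS hQS hQeq))).mono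
    (le_normalizerIn hQS)
  refine ((hwE.congr hwe).comp hk fun x hx => mem_of_image hnr hx).congr fun x hx => ?_
  show k (n x) = a x
  rw [hne ⟨x, hx⟩, hke, ← hαe ⟨x, hx⟩]
  have := congrArg (fun z : F.autGroup Q => ((z : MulAut Q) ⟨x, hx⟩ : Ω)) hκν
  simpa using this

theorem exists_minimal_centric (hP : F.IsCentric P) :
    ∃ Q, Q ≤ P ∧ F.IsCentric Q ∧ ∀ R : Subgroup Ω, R < Q → ¬ F.IsCentric R := by
  suffices H : ∀ (n : ℕ) (P : Subgroup Ω), Nat.card P < n → F.IsCentric P →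
      ∃ Q, Q ≤ P ∧ F.IsCentric Q ∧ ∀ R : Subgroup Ω, R < Q → ¬ F.IsCentric R from
    H _ P (Nat.lt_succ_self _) hP
  intro n
  induction n with
  | zero => intro P h; omega
  | succ n ih =>
  intro P hn hP
  by_cases h : ∀ R : Subgroup Ω, R < P → ¬ F.IsCentric R
  · exact ⟨P, le_rfl, hP, h⟩
  push Not at h
  obtain ⟨R, hRP, hR⟩ := h
  have := card_lt_card hP.1 hRP
  obtain ⟨Q, hQ, hQ'⟩ := ih R (by omega) hR
  exact ⟨Q, hQ.trans hRP.le, hQ'⟩

end CfsgLib.FusionNormal
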