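import Cfsg.Agent.Lib.FusionNormal.Maps

/-!
# Subsystems cut out by a predicate on maps
-/

namespace CfsgLib.FusionNormal

open Cfsg Cfsg.FusionSystem CfsgLib.Fusion

variable {Ω : Type*} [Group Ω] {S : Subgroup Ω}

/-- A predicate on the maps of `F` closed under the operations of a fusion system. -/
structure MapPred (F : FusionSystem S) where
  /-- the predicate -/
  pred : Subgroup Ω → (Ω → Ω) → Prop
  congr : ∀ {P : Subgroup Ω} {f g : Ω → Ω}, pred P f → (∀ x ∈ P, f x = g x) → pred P g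
  conj : ∀ {P : Subgroup Ω} {g : Ω}, P ≤ S → g ∈ S → pred P fun x => g * x * g⁻¹
  comp : ∀ {P Q : Subgroup Ω} {f g : Ω → Ω}, MapFn F P f → pred P f → MapFn F Q g → pred Q g →
    (∀ x ∈ P, f x ∈ Q) → pred P (g ∘ f)
  inv : ∀ {P Q : Subgroup Ω} {f g : Ω → Ω}, MapFn F P f → pred P f → f '' P = (Q : Set Ω) →
    MapFn F Q g → (∀ x ∈ P, g (f x) = x) → pred Q g

/-- The subsystem of the maps satisfying the predicate. -/
def MapPred.sub {F : FusionSystem S} (C : MapPred F) : FusionSystem S where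
  Hom P := {φ | φ ∈ F.Hom P ∧ ∃ f : Ω → Ω, (∀ x : P, φ x = f x) ∧ C.pred P f}
  le_of_mem h := F.le_of_mem h.1
  injective_of_mem h := F.injective_of_mem h.1
  conj_mem hP hg := ⟨F.conj_mem hP hg, _, fun _ => rfl, C.conj hP hg⟩
  comp_mem := by
    rintro P Q φ ψ ⟨hφ, f, hf, hCf⟩ ⟨hψ, g, hg, hCg⟩ h
    refine ⟨F.comp_mem hφ hψ h, g ∘ f, fun x => ?_, C.comp ⟨φ, hφ, hf⟩ hCf ⟨ψ, hψ, hg⟩ hCg
      fun x hx => by rw [← hf ⟨x, hx⟩]; exact h _⟩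
    show ψ _ = g (f x)
    rw [hg, ← hf]
    rfl
  inv_mem := by
    rintro P φ ⟨hφ, f, hf, hCf⟩
    obtain ⟨ψ, hψ, h⟩ := F.inv_mem hφ
    obtain ⟨g, hg, hge⟩ := mapFn_of_hom hψ
    refine ⟨ψ, ⟨hψ, g, hge, C.inv ⟨φ, hφ, hf⟩ hCf (MapFn.image_eq_range hf) hg fun x hx => ?_⟩, h⟩
    have := h ⟨x, hx⟩
    rw [hge] at this
    change g (φ ⟨x, hx⟩) = x at this
    rwa [hf] at this

theorem MapPred.mapFn_sub {F : FusionSystem S} (C : MapPred F) {P : Subgroup Ω} {f : Ω → Ω} :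
    MapFn C.sub P f ↔ MapFn F P f ∧ C.pred P f := by
  constructor
  · rintro ⟨φ, ⟨hφ, g, hg, hC⟩, he⟩
    exact ⟨⟨φ, hφ, he⟩, C.congr hC fun x hx => (hg ⟨x, hx⟩).symm.trans (he ⟨x, hx⟩)⟩
  · rintro ⟨⟨φ, hφ, he⟩, hC⟩
    exact ⟨φ, ⟨hφ, f, he, hC⟩, he⟩

theorem MapPred.sub_le {F : FusionSystem S} (C : MapPred F) : C.sub ≤ F := fun _ _ h => h.1

theorem MapPred.le_autGroup {F : FusionSystem S} (C : MapPred F) {R : Subgroup Ω} (hR : R ≤ S)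
    (h : ∀ f, MapFn F R f → C.pred R f) : F.autGroup R ≤ C.sub.autGroup R := by
  intro α hα
  rw [mem_autGroup_iff_mapFn hR] at hα ⊢
  obtain ⟨f, hf, he⟩ := hα
  exact ⟨f, C.mapFn_sub.mpr ⟨hf, h f hf⟩, he⟩

theorem mapFn_of_le {E F : FusionSystem S} (h : E ≤ F) {P : Subgroup Ω} {f : Ω → Ω}
    (hf : MapFn E P f) : MapFn F P f :=
  hom_subset_iff_mapFn.mp (h P) f hf

end CfsgLib.FusionNormal
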