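import Cfsg.Agent.Lib.Fusion.ModelExists
import Cfsg.Agent.Lib.Fusion.Ext
import Cfsg.Agent.Lib.Fusion.GroupLift
import Cfsg.Agent.Lib.PCore.PSolvable

/-!
# Systems of `p`-solvable groups
-/

set_option autoImplicit false

namespace CfsgLib.FusionNormal

open Cfsg Cfsg.FusionSystem CfsgLib.Fusion

universe u

variable {Ω : Type u} [Group Ω] {S : Subgroup Ω} {F : FusionSystem S} {p : ℕ}
  {G : Type*} [Group G] {ι : S →* G}

/-- Passing to the quotient by a normal subgroup of order prime to `p`. -/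
theorem isRealizedBy_mk' [Finite G] [Fact p.Prime] (hF : F.IsRealizedBy ι) (T : Sylow p G)
    (hT : (T : Subgroup G) = ι.range) (K : Subgroup G) [K.Normal]
    (hK : (Nat.card K).Coprime p) : F.IsRealizedBy ((QuotientGroup.mk' K).comp ι) := by
  have hker : ∀ s : S, ι s ∈ K → s = 1 := by
    intro s hs
    obtain ⟨k, hk⟩ := IsPGroup.iff_card.mp T.isPGroup'
    have h1 : orderOf (ι s) ∣ p ^ k := by
      rw [← hk, hT]; exact Subgroup.orderOf_dvd_natCard _ ⟨s, rfl⟩
    have h3 : ι s = 1 := orderOf_eq_one_iff.mp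
      (Nat.eq_one_of_dvd_coprimes (hK.pow_right k) (Subgroup.orderOf_dvd_natCard _ hs) h1)
    exact hF.1 (h3.trans (map_one ι).symm)
  refine ⟨(injective_iff_map_eq_one _).mpr fun s hs => hker s ((QuotientGroup.eq_one_iff _).mp hs),
    fun P hP φ hφ => ⟨fun h => ?_, ?_⟩⟩
  · obtain ⟨g, hg⟩ := (hF.2 P hP φ hφ).mp h
    exact ⟨QuotientGroup.mk' K g, fun x => by simp [hg x]⟩
  · rintro ⟨γ, hγ⟩
    obtain ⟨g, hgγ, hg⟩ := FusionGroupLift.exists_conj_lift T K ((P.subgroupOf S).map ι)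
      (by rw [hT]; exact Subgroup.map_le_range _ _) γ (by
        rintro _ ⟨s, hs, rfl⟩
        exact ⟨ι ⟨φ ⟨s, hs⟩, hφ _⟩, by rw [hT]; exact ⟨_, rfl⟩, hγ ⟨s, hs⟩⟩)
    refine (hF.2 P hP φ hφ).mpr ⟨g, fun x => ?_⟩
    have h1 := hg (ι ⟨x, hP x.2⟩) ⟨⟨x, hP x.2⟩, x.2, rfl⟩
    rw [hT] at h1
    obtain ⟨c, hc⟩ := h1
    rw [← hc]
    refine congrArg ι (inv_mul_eq_one.mp (hker _ ?_))
    refine (QuotientGroup.eq_one_iff _).mp ?_
    have h2 : (QuotientGroup.mk' K) (ι c) = (QuotientGroup.mk' K) (ι ⟨φ x, hφ x⟩) := by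
      have h3 := hγ x
      simp only [MonoidHom.comp_apply] at h3
      rw [h3, hc, map_mul, map_mul, map_inv, ← hgγ]; rfl
    show (QuotientGroup.mk' K) (ι (_⁻¹ * c)) = 1
    rw [map_mul, map_inv, map_mul, map_inv, h2, inv_mul_cancel]

variable [Finite S] [Fact p.Prime]

/-- In a model, the largest normal `p`-subgroup is the image of the core of the system. -/
theorem core_eq_of_model (hG : F.IsModel p G ι) :
    F.core = ((pCore p G).comap ι).map S.subtype := by
  have := model_core_normal (p := p) (G := G)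
  refine le_antisymm ?_ (le_sSup (isNormal_of_realized hG.2.1 _ (model_core_le hG)))
  have hc := FusionExt.isNormal_core F
  have hle : (F.core.subgroupOf S).map ι ≤ pCore p G :=
    le_sSup ⟨normal_image_of_isNormal hG hc,
      (model_range_isPGroup hG).to_le (Subgroup.map_le_range _ _)⟩
  intro x hx
  exact ⟨⟨x, hc.1 hx⟩, hle ⟨⟨x, hc.1 hx⟩, hx, rfl⟩, rfl⟩

/-- A model is `p`-solvable exactly when the automizer of the core is. -/
theorem isPSolvable_model_iff (hG : F.IsModel p G ι) :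
    IsPSolvable p G ↔ IsPSolvable p ↥(F.autGroup F.core) := by
  have : Finite G := hG.1
  have := model_core_normal (p := p) (G := G)
  set N := pCore p G with hN
  set C := F.core with hC
  have hCS : C ≤ S := (FusionExt.isNormal_core F).1
  have hCe : C = (N.comap ι).map S.subtype := core_eq_of_model hG
  have hmem : ∀ x : C, ι ⟨x, hCS x.2⟩ ∈ N := fun x => by
    obtain ⟨c, hc, hcx⟩ := hCe.le x.2
    rw [show (⟨(x : Ω), hCS x.2⟩ : S) = c from Subtype.ext hcx.symm]
    exact hc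
  let e₀ : C →* N :=
    { toFun := fun x => ⟨ι ⟨x, hCS x.2⟩, hmem x⟩
      map_one' := Subtype.ext (map_one ι)
      map_mul' := fun x y => Subtype.ext (map_mul ι ⟨x, hCS x.2⟩ ⟨y, hCS y.2⟩) }
  have he₀ : Function.Bijective e₀ := by
    refine ⟨fun x y h => Subtype.ext ?_, fun n => ?_⟩
    · exact congrArg (fun s : S => (s : Ω)) (hG.2.1.1 (congrArg Subtype.val h))
    · obtain ⟨c, hc⟩ := model_core_le hG n.2
      refine ⟨⟨c, hCe.ge ⟨c, show ι c ∈ N by rw [hc]; exact n.2, rfl⟩⟩, Subtype.ext hc⟩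
  let e : C ≃* N := MulEquiv.ofBijective e₀ he₀
  let Ψ : G →* MulAut C := (MulAut.congr e.symm).toMonoidHom.comp MulAut.conjNormal
  have hΨ : ∀ (g : G) (x : C), ι ⟨(Ψ g x : C), hCS (Ψ g x).2⟩ = g * ι ⟨x, hCS x.2⟩ * g⁻¹ := by
    intro g x
    have h1 : ∀ y : C, ι ⟨y, hCS y.2⟩ = (e y : G) := fun y => rfl
    rw [h1, h1]
    simp only [Ψ, MonoidHom.comp_apply, MulEquiv.coe_toMonoidHom, MulAut.congr, MulEquiv.coe_mk,
      Equiv.coe_fn_mk, MulEquiv.trans_apply, MulEquiv.symm_symm, MulEquiv.apply_symm_apply,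
      MulAut.conjNormal_apply]
  have hker : Ψ.ker ≤ N := fun g hg => hG.2.2.2 <| Subgroup.mem_centralizer_iff.mpr fun n hn => by
    obtain ⟨x, hx⟩ := e.surjective ⟨n, hn⟩
    have h1 := hΨ g x
    rw [MonoidHom.mem_ker.mp hg, MulAut.one_apply] at h1
    have h2 : ι ⟨x, hCS x.2⟩ = n := congrArg Subtype.val hx
    rw [h2, eq_mul_inv_iff_mul_eq] at h1
    exact h1
  have hrange : Ψ.range = F.autGroup C := by
    refine le_antisymm ?_ fun α hα => ?_
    · rintro _ ⟨g, rfl⟩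
      obtain ⟨φ, hφ, hφe⟩ := realized_exists_map hG.2.1 hCS g fun x => ⟨_, hΨ g x⟩
      refine (mem_autGroup hCS).mpr (restrict_of le_rfl hφ fun x => ?_)
      exact (congrArg (fun s : S => (s : Ω)) (hG.2.1.1 (a₁ := ⟨φ x, apply_mem_S hφ x⟩)
        (a₂ := ⟨(Ψ g x : C), hCS (Ψ g x).2⟩) ((hφe x _).trans (hΨ g x).symm))).symm
    · obtain ⟨g, hg⟩ := realized_conj hG.2.1 ((mem_autGroup hCS).mp hα)
      refine ⟨g, MulEquiv.ext fun x => Subtype.ext ?_⟩
      exact congrArg (fun s : S => (s : Ω)) (hG.2.1.1 (a₁ := ⟨_, hCS (Ψ g x).2⟩) (a₂ := ⟨_, hCS (α x).2⟩)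
        ((hΨ g x).trans (hg x).symm))
  constructor
  · intro h
    rw [← hrange]
    exact PCore.isPSolvable_of_surjective Ψ.rangeRestrict Ψ.rangeRestrict_surjective h
  · intro h
    rw [← hrange] at h
    refine PCore.isPSolvable_extension Ψ.ker
      (PCore.isPSolvable_of_isPGroup ((PCore.pCore_isPGroup (p := p) (G := G)).to_le hker)) ?_
    exact PCore.isPSolvable_of_equiv (QuotientGroup.quotientKerEquivRange Ψ).symm h

/-- A `p`-solvable realizing group gives a `p`-solvable model. -/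
theorem exists_pSolvable_model [Finite G] (hsol : IsPSolvable p G) (hF : F.IsRealizedBy ι)
    (T : Sylow p G) (hT : (T : Subgroup G) = ι.range) :
    IsPSolvable p (G ⧸ pPrimeCore p G) ∧
      F.IsModel p (G ⧸ pPrimeCore p G) ((QuotientGroup.mk' (pPrimeCore p G)).comp ι) := by
  have hq := PCore.isPSolvable_quotient hsol (pPrimeCore p G)
  refine ⟨hq, inferInstance, isRealizedBy_mk' hF T hT _ PCore.pPrimeCore_coprime,
    ⟨T.mapSurjective (QuotientGroup.mk'_surjective _), ?_⟩,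
    PCore.centralizer_pCore_le hq PCore.pPrimeCore_quotient_pPrimeCore⟩
  rw [Sylow.coe_mapSurjective, hT, MonoidHom.range_comp]

end CfsgLib.FusionNormal
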