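import Cfsg.Agent.Lib.FusionNormal.TateLift
import Mathlib.GroupTheory.Frattini

/-!
# Tate's theorem for saturated fusion systems
-/

set_option autoImplicit false
set_option linter.style.haveILetI false

namespace CfsgLib.FusionNormal

open Cfsg Cfsg.FusionSystem CfsgLib.Fusion
open scoped IsMulCommutative commutatorElement

universe u

variable {Ω : Type u} [Group Ω] {S : Subgroup Ω} {F : FusionSystem S} {p : ℕ}
variable [Finite S] [Fact p.Prime]

/-- If the hyperfocal subgroup lies in `Φ(S) T' [S,S]` for a normal subgroup `T'` of `S`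
contained in it, it equals `T'`. -/
theorem hyperfocal_eq_of_le_frattini (hS : IsPGroup p S) (hF : F.IsSaturated p) {T' : Subgroup S}
    [T'.Normal] (hT' : T' ≤ (F.hyperfocalSubgroup p).subgroupOf S)
    (hle : (F.hyperfocalSubgroup p).subgroupOf S ≤ frattini S ⊔ T' ⊔ commutator S) :
    (F.hyperfocalSubgroup p).subgroupOf S = T' := by
  set T := (F.hyperfocalSubgroup p).subgroupOf S with hT
  haveI hTn : T.Normal := ⟨fun n hn g => hyperfocal_conj_mem g.2 hn⟩
  by_contra hne
  haveI : Group.IsNilpotent S := hS.isNilpotent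
  set N := T' ⊔ ⁅T, (⊤ : Subgroup S)⁆ with hN
  haveI : N.Normal := by rw [hN]; infer_instance
  have hNT : ¬ T ≤ N := by
    intro h
    obtain ⟨m, hm⟩ := Subgroup.nilpotent_iff_lowerCentralSeries.mp (inferInstance : Group.IsNilpotent S)
    have key : ∀ i, T ≤ T' ⊔ (⊤ : Subgroup S).lowerCentralSeries i := by
      intro i
      induction i with
      | zero => simp
      | succ i ih =>
        refine h.trans (sup_le le_sup_left ?_)
        rw [Subgroup.commutator_le]
        intro t ht g _
        haveI : ((⊤ : Subgroup S).lowerCentralSeries i).Normal := inferInstance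
        obtain ⟨a, ha, b, hb, rfl⟩ := Subgroup.mem_sup_of_normal_left.mp (ih ht)
        have e : ⁅a * b, g⁆ = a * ⁅b, g⁆ * a⁻¹ * ⁅a, g⁆ := by simp [commutatorElement_def, mul_assoc]
        rw [e]
        haveI : ((⊤ : Subgroup S).lowerCentralSeries (i + 1)).Normal := inferInstance
        refine mul_mem (Subgroup.mem_sup_right (Subgroup.Normal.conj_mem inferInstance _
          (Subgroup.commutator_mem_commutator hb (Subgroup.mem_top g)) a)) (Subgroup.mem_sup_left ?_)
        rw [commutatorElement_def, mul_assoc, mul_assoc, ← mul_assoc g]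
        exact mul_mem ha (Subgroup.Normal.conj_mem inferInstance _ (inv_mem ha) g)
    have h1 := key m
    rw [hm, sup_bot_eq] at h1
    exact hne (le_antisymm h1 hT')
  let θ : S →* S ⧸ N := QuotientGroup.mk' N
  have hA : IsPGroup p (S ⧸ N) := hS.to_quotient N
  have hc : ∀ t : S, (t : Ω) ∈ F.hyperfocalSubgroup p → θ t ∈ Subgroup.center (S ⧸ N) := by
    intro t ht
    refine Subgroup.mem_center_iff.mpr fun a => ?_
    obtain ⟨s, rfl⟩ := QuotientGroup.mk'_surjective N a
    show θ s * θ t = θ t * θ s
    rw [← commutatorElement_eq_one_iff_mul_comm, ← map_commutatorElement, QuotientGroup.mk'_apply,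
      QuotientGroup.eq_one_iff]
    refine Subgroup.mem_sup_right ?_
    rw [Subgroup.commutator_comm]
    exact Subgroup.commutator_mem_commutator (Subgroup.mem_top s) ht
  have hZc : T.map θ ≤ Subgroup.center (S ⧸ N) := by
    rintro _ ⟨t, ht, rfl⟩; exact hc t ht
  obtain ⟨v, hv⟩ := exists_central_hom hS hF hA θ (T.map θ) hZc fun t ht => ⟨t, ht, rfl⟩
  haveI : IsMulCommutative ↥(T.map θ) :=
    ⟨⟨fun a b => Subtype.ext (Subgroup.mem_center_iff.mp (hZc b.2) a)⟩⟩
  have hker : frattini S ⊔ T' ⊔ commutator S ≤ frattini S ⊔ v.ker := by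
    refine sup_le (sup_le le_sup_left ?_) ?_
    · intro t ht
      refine Subgroup.mem_sup_right (MonoidHom.mem_ker.mpr (Subtype.ext ?_))
      rw [hv t (hT' ht)]
      exact (QuotientGroup.eq_one_iff t).mpr (Subgroup.mem_sup_left ht)
    · exact le_trans (Abelianization.commutator_subset_ker v) le_sup_right
  -- the values on the hyperfocal subgroup exhaust the target, so `v` is trivial
  have htop : v.ker ⊔ frattini S = ⊤ := by
    refine eq_top_iff.mpr fun s _ => ?_
    obtain ⟨t, ht, hte⟩ := (v s).2
    have h1 : v t = v s := Subtype.ext ((hv t ht).trans hte)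
    have h2 : s = s * t⁻¹ * t := by group
    rw [h2]
    refine mul_mem (Subgroup.mem_sup_left ?_) (sup_comm v.ker (frattini S) ▸ hker (hle ht))
    rw [MonoidHom.mem_ker, map_mul, map_inv, h1, mul_inv_cancel]
  have hv1 : v.ker = ⊤ := frattini_nongenerating htop
  refine hNT fun t ht => (QuotientGroup.eq_one_iff t).mp ?_
  show θ t = 1
  rw [← hv t ht, MonoidHom.mem_ker.mp (hv1.ge (Subgroup.mem_top t))]
  rfl

end CfsgLib.FusionNormal
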