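import Cfsg.Agent.Lib.Fusion.Transfer
import Cfsg.Agent.Lib.Fusion.Ext
import Cfsg.Agent.Lib.Fusion.Hyperfocal

/-!
# The transfer on elements fixed by all maps of a system

On elements fixed by every map of the system the transfer of any homomorphism is its `|X/S|`-th power.
-/

namespace CfsgLib.FusionNormal

open Cfsg Cfsg.FusionSystem CfsgLib.Fusion CfsgLib.FusionExt CfsgLib.Fusion.StableBiset MulAction

universe u

variable {Ω : Type u} [Group Ω] {S : Subgroup Ω} {F : FusionSystem S} {p : ℕ}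

/-- Every map fixes the elements of the centre in its source. -/
theorem center_fixed [Finite S] {P : Subgroup Ω} {φ : P →* Ω} (hφ : φ ∈ F.Hom P) (x : P)
    (hx : (x : Ω) ∈ F.center) : φ x = x := by
  obtain ⟨-, h⟩ := isCentral_center F
  obtain ⟨ψ, -, hψ, hfix⟩ := h P φ hφ
  have e : Subgroup.inclusion (le_sup_left : P ≤ P ⊔ F.center) x
      = Subgroup.inclusion (le_sup_right : F.center ≤ P ⊔ F.center) ⟨x, hx⟩ := rfl
  rw [← hψ x, e, hfix]

/-- The transfer on a subgroup of elements fixed by all maps. -/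
theorem transfer_eq_pow_of_fixed [Finite S] (B : StableBiset F p) {A : Type*} [CommGroup A]
    (h : S →* A) (C : Subgroup S)
    (hC : ∀ (P : Subgroup Ω) (φ : P →* Ω) (hφ : φ ∈ F.Hom P) (x : P),
      (⟨x, le_S hφ x.2⟩ : S) ∈ C → φ x = x)
    (a : S) (ha : a ∈ C) : B.transfer h a = h a ^ Nat.card B.Orb := by
  classical
  let _ := Fintype.ofFinite B.Orb
  let _ : MulAction (↥C × ↥S) B.X := MulAction.compHom B.X (C.subtype.prodMap (MonoidHom.id S))
  have hact : ∀ (g : ↥C × ↥S) (x : B.X), g • x = (((g.1 : S), g.2) : ↥S × ↥S) • x := fun _ _ => rfl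
  let d : ↥C × ↥S →* A :=
    { toFun := fun g => h g.1 * (h g.2)⁻¹
      map_one' := by simp
      map_mul' := fun g g' => by simp [mul_comm, mul_assoc, mul_left_comm] }
  let base : B.X → B.X := fun x => (Quotient.mk (MulAction.orbitRel (↥C × ↥S) B.X) x).out
  have hbase : ∀ x, ∃ g : ↥C × ↥S, g • base x = x := by
    intro x
    have : base x ∈ orbit (↥C × ↥S) x := Quotient.mk_out (s := MulAction.orbitRel (↥C × ↥S) B.X) x
    obtain ⟨g, hg⟩ := this
    exact ⟨g⁻¹, by rw [← hg]; simp⟩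
  choose gg hgg using hbase
  have hstab : ∀ (x : B.X) (g : ↥C × ↥S), g • x = x → d g = 1 := by
    intro x g hg
    obtain ⟨P, ψ, hψ, φ, hφ, he⟩ := B.isTw_stab x
    obtain ⟨y, hy₁, hy₂⟩ := he.le hg
    show h g.1 * (h g.2)⁻¹ = 1
    rw [mul_inv_eq_one]
    refine congrArg h (Subtype.ext ?_)
    change ((g.1 : S) : Ω) = ψ y at hy₁
    change (g.2 : Ω) = φ y at hy₂
    obtain ⟨ψ', hψ', hinv⟩ := F.inv_mem hψ
    obtain ⟨χ, hχ, hχe⟩ : ∃ χ ∈ F.Hom ψ.range, ∀ z : ψ.range, χ z = φ ⟨ψ' z, by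
        obtain ⟨_, w, rfl⟩ := z; rw [hinv]; exact w.2⟩ :=
      ⟨_, F.comp_mem hψ' hφ fun z => by obtain ⟨_, w, rfl⟩ := z; rw [hinv]; exact w.2, fun z => rfl⟩
    have h1 := hC _ χ hχ ⟨ψ y, y, rfl⟩ (by
      have : (⟨ψ y, apply_mem_S hψ y⟩ : S) = (g.1 : S) := Subtype.ext hy₁.symm
      exact this ▸ g.1.2)
    rw [hχe] at h1
    have h2 : φ y = ψ y := by
      refine Eq.trans ?_ h1
      exact congrArg φ (Subtype.ext (hinv y).symm)
    exact hy₁.trans (h2.symm.trans hy₂.symm)
  have hg : ∀ (g : ↥C × ↥S) (x : B.X), d (gg (g • x)) = d g * d (gg x) := by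
    intro g x
    have hb : base (g • x) = base x :=
      congrArg Quotient.out (Quotient.sound (s := MulAction.orbitRel (↥C × ↥S) B.X) ⟨g, rfl⟩)
    have h1 : ((gg (g • x))⁻¹ * (g * gg x)) • base x = base x := by
      rw [mul_smul, mul_smul, hgg, inv_smul_eq_iff, ← hb, hgg]
    have h2 := hstab _ _ h1
    rw [map_mul, map_inv, inv_mul_eq_one, map_mul] at h2
    exact h2
  have hc : ∀ o, h (B.coeff a o) = h a * d (gg (B.pt o)) * (d (gg (B.pt (B.perm a o))))⁻¹ := by
    intro o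
    rw [← B.coeff_spec a o,
      show ((a, B.coeff a o) : ↥S × ↥S) • B.pt o = ((⟨a, ha⟩, B.coeff a o) : ↥C × ↥S) • B.pt o from
        (hact (⟨a, ha⟩, B.coeff a o) (B.pt o)).symm, hg]
    show _ = _ * _ * (h a * (h (B.coeff a o))⁻¹ * _)⁻¹
    simp [mul_comm, mul_left_comm]
  rw [transfer_apply]
  simp only [hc, Finset.prod_mul_distrib, Finset.prod_inv_distrib]
  rw [show ∏ o, d (gg (B.pt (B.perm a o))) = ∏ o, d (gg (B.pt o)) from
    Equiv.prod_comp (B.permEquiv a) fun o => d (gg (B.pt o))]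
  rw [mul_assoc, mul_inv_cancel, mul_one, Finset.prod_const, Finset.card_univ, Nat.card_eq_fintype_card]

/-- A central element in the focal subgroup is killed by every homomorphism from `S` to an abelian
`p`-group. -/
theorem map_center_inf_focal_eq_one [Finite S] [Fact p.Prime] (hS : IsPGroup p S)
    (hF : F.IsSaturated p) {A : Type*} [CommGroup A] (h : S →* A) (a : S)
    (hz : (a : Ω) ∈ F.center) (hf : (a : Ω) ∈ F.focalSubgroup) : h a = 1 := by
  obtain ⟨B⟩ := exists_biset hS hF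
  have h1 : B.transfer h a = 1 := B.focalSubgroup_subgroupOf_le_ker h (Subgroup.mem_subgroupOf.mpr hf)
  rw [transfer_eq_pow_of_fixed B h (F.center.subgroupOf S)
    (fun P φ hφ x hx => center_fixed hφ x hx) a hz] at h1
  obtain ⟨k, hk⟩ := hS a
  have h2 : orderOf (h a) ∣ p ^ k := orderOf_dvd_of_pow_eq_one (by rw [← map_pow, hk, map_one])
  have h3 : orderOf (h a) ∣ Nat.card B.Orb := orderOf_dvd_of_pow_eq_one h1
  obtain ⟨j, -, hj⟩ := (Nat.dvd_prime_pow Fact.out).mp h2
  rcases Nat.eq_zero_or_pos j with rfl | hj0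
  · simpa using orderOf_eq_one_iff.mp (by simpa using hj)
  · exact absurd ((dvd_pow_self p hj0.ne').trans (hj ▸ h3)) B.not_dvd_card_orb

theorem focal_inf_center_eq [Finite S] [Fact p.Prime] (hS : IsPGroup p S) (hF : F.IsSaturated p) :
    F.focalSubgroup ⊓ F.center = ⁅S, S⁆ ⊓ F.center := by
  refine le_antisymm ?_ (inf_le_inf_right _ (commutator_le_focal F))
  rintro x ⟨hf, hz⟩
  refine ⟨?_, hz⟩
  have hx : x ∈ S := focalSubgroup_le F hf
  have h := map_center_inf_focal_eq_one hS hF (Abelianization.of : S →* Abelianization S) ⟨x, hx⟩ hz hf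
  have h' : (⟨x, hx⟩ : S) ∈ commutator S := by
    rw [← Abelianization.ker_of]; exact h
  have h3 := Subgroup.mem_map_of_mem S.subtype h'
  rwa [Subgroup.map_subtype_commutator] at h3

end CfsgLib.FusionNormal
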