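import Cfsg.Agent.Lib.FusionNormal.Supersoluble
import Mathlib.GroupTheory.FiniteAbelian.Basic
import Mathlib.Data.ZMod.Basic

/-!
# Abelian `p`-groups with distinct invariants

An abelian `p`-group has all its `p'`-automorphism groups abelian of exponent dividing `p - 1`
exactly when its invariants are distinct.
-/

namespace CfsgLib.FusionNormal

open Cfsg Cfsg.FusionSystem CfsgLib.Fusion CfsgLib.FusionExtend
open scoped commutatorElement

section Abstract

variable {X : Type*} [CommGroup X] {p : ℕ}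

/-- Two elements of order dividing `p` and of the same height differ by a power modulo greater height. -/
def OneDimLayers (p : ℕ) (X : Type*) [CommGroup X] : Prop :=
  ∀ (k : ℕ) (x u : X), x ^ p = 1 → u ^ p = 1 → x ∈ (powMonoidHom (p ^ k) : X →* X).range →
    u ∈ (powMonoidHom (p ^ k) : X →* X).range → x ∉ (powMonoidHom (p ^ (k + 1)) : X →* X).range →
      ∃ c : ℕ, u * (x ^ c)⁻¹ ∈ (powMonoidHom (p ^ (k + 1)) : X →* X).range

theorem apply_mem_pow_range {b : MulAut X} {k : ℕ} {x : X} (hx : x ∈ (powMonoidHom k : X →* X).range) :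
    b x ∈ (powMonoidHom k : X →* X).range := by
  obtain ⟨y, rfl⟩ := hx
  exact ⟨b y, by simp⟩

variable [Finite X] [Fact p.Prime]

/-- An automorphism of order prime to `p` trivial on every layer is trivial. -/
theorem eq_one_of_layers_trivial (hX : IsPGroup p X) (f : MulAut X) (hf : (orderOf f).Coprime p)
    (h : ∀ (k : ℕ) (x : X), x ^ p = 1 → x ∈ (powMonoidHom (p ^ k) : X →* X).range →
      x⁻¹ * f x ∈ (powMonoidHom (p ^ (k + 1)) : X →* X).range) : f = 1 := by
  obtain ⟨E, hE⟩ := hX.exists_card_eq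
  have homega : ∀ j k, k + j = E → ∀ x : X, x ^ p = 1 → x ∈ (powMonoidHom (p ^ k) : X →* X).range → f x = x := by
    intro j
    induction j with
    | zero =>
      rintro k hk _ - ⟨y, rfl⟩
      rw [show k = E by omega, powMonoidHom_apply, ← hE, pow_card_eq_one', map_one]
    | succ j ih =>
      intro k hk x hx hxk
      exact fix_of_step hX f hf (ih (k + 1) (by omega) _ (by rw [mul_pow, inv_pow, ← map_pow, hx, map_one, inv_one, one_mul]) (h k x hx hxk))
  have hall : ∀ m (x : X), x ^ p ^ m = 1 → f x = x := by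
    intro m
    induction m with
    | zero => intro x hx; rw [pow_zero, pow_one] at hx; rw [hx, map_one]
    | succ m ih =>
      intro x hx
      have h2 : f (x ^ p) = x ^ p := ih _ (by rw [← pow_mul, ← pow_succ']; exact hx)
      refine fix_of_step hX f hf (homega E 0 (by omega) _ ?_ ⟨_, pow_one _⟩)
      rw [mul_pow, ← map_pow, h2, inv_pow, inv_mul_cancel]
  refine MulEquiv.ext fun x => hall E x ?_
  rw [← hE]; exact pow_card_eq_one'

/-- With one-dimensional layers the `p'`-subgroups of the automorphism group are abelian of exponent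
dividing `p - 1`. -/
theorem comm_of_layers (hX : IsPGroup p X) (hl : OneDimLayers p X) (H : Subgroup (MulAut X))
    (hH : (Nat.card H).Coprime p) : IsMulCommutative H ∧ ∀ h ∈ H, h ^ (p - 1) = 1 := by
  have hco : ∀ f ∈ H, (orderOf f).Coprime p := fun f hf =>
    hH.coprime_dvd_left ((Subgroup.orderOf_coe (⟨f, hf⟩ : H)) ▸ orderOf_dvd_natCard _)
  have hinv : ∀ {b : MulAut X} {k : ℕ} {x : X}, b x ∈ (powMonoidHom k : X →* X).range →
      x ∈ (powMonoidHom k : X →* X).range := fun {b k x} hx => by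
    have := apply_mem_pow_range (b := b⁻¹) hx
    simpa [MulAut.inv_def] using this
  -- scalars
  have hsc : ∀ (b : MulAut X) (k : ℕ) (x : X), x ^ p = 1 → x ∈ (powMonoidHom (p ^ k) : X →* X).range →
      x ∉ (powMonoidHom (p ^ (k + 1)) : X →* X).range →
      ∃ c : ℕ, c.Coprime p ∧ b x * (x ^ c)⁻¹ ∈ (powMonoidHom (p ^ (k + 1)) : X →* X).range := by
    intro b k x hx hxk hx'
    obtain ⟨c, hc⟩ := hl k x (b x) hx (by rw [← map_pow, hx, map_one]) hxk (apply_mem_pow_range hxk) hx'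
    refine ⟨c, ((Fact.out : p.Prime).coprime_iff_not_dvd.mpr ?_).symm, hc⟩
    rintro ⟨q, rfl⟩
    rw [pow_mul, hx, one_pow, inv_one, mul_one] at hc
    exact hx' (hinv hc)
  refine ⟨⟨⟨fun a b => ?_⟩⟩, fun h hh => ?_⟩
  · have hcomm : ⁅(a : MulAut X), (b : MulAut X)⁆ ∈ H :=
      H.mul_mem (H.mul_mem (H.mul_mem a.2 b.2) (H.inv_mem a.2)) (H.inv_mem b.2)
    have h1 := eq_one_of_layers_trivial hX _ (hco _ hcomm) fun k x hx hxk => ?_
    · exact Subtype.ext (commutatorElement_eq_one_iff_mul_comm.mp h1)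
    set W := (powMonoidHom (p ^ (k + 1)) : X →* X).range with hW
    by_cases hx' : x ∈ W
    · exact W.mul_mem (W.inv_mem hx') (apply_mem_pow_range hx')
    let π := QuotientGroup.mk' W
    have hcong : ∀ (f : MulAut X) (y z : X), π y = π z → π (f y) = π (f z) := fun f y z hyz => by
      refine QuotientGroup.eq.mpr ?_
      rw [← map_inv, ← map_mul]
      exact apply_mem_pow_range (QuotientGroup.eq.mp hyz)
    set z := ((a : MulAut X)⁻¹ * (b : MulAut X)⁻¹) x with hz
    have hzp : z ^ p = 1 := by rw [hz, ← map_pow, hx, map_one]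
    have hzk : z ∈ (powMonoidHom (p ^ k) : X →* X).range := apply_mem_pow_range hxk
    have hz' : z ∉ W := fun h => hx' (hinv h)
    have hx2 : (b : MulAut X) ((a : MulAut X) z) = x := by simp [hz, MulAut.inv_def]
    have hz2 : ⁅(a : MulAut X), (b : MulAut X)⁆ x = (a : MulAut X) ((b : MulAut X) z) := by
      simp [hz, commutatorElement_def]
    obtain ⟨ca, -, hca⟩ := hsc a k z hzp hzk hz'
    obtain ⟨cb, -, hcb⟩ := hsc b k z hzp hzk hz'
    have hab : ∀ (f g : MulAut X) (c d : ℕ), f z * (z ^ c)⁻¹ ∈ W → g z * (z ^ d)⁻¹ ∈ W →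
        π (f (g z)) = π z ^ (c * d) := by
      intro f g c d hc hd
      have hv : ∀ (f : MulAut X) (c : ℕ), f z * (z ^ c)⁻¹ ∈ W → π (f z) = π z ^ c := fun f c hc => by
        rw [← map_pow]
        exact ((QuotientGroup.eq (s := W)).mpr (by rwa [mul_comm] : (z ^ c)⁻¹ * f z ∈ W)).symm
      rw [hcong f (g z) (z ^ d) (by rw [hv g d hd, map_pow]), map_pow, map_pow, hv f c hc, ← pow_mul]
    refine QuotientGroup.eq.mp ?_
    show π x = π _
    rw [hz2]
    conv_lhs => rw [← hx2]
    rw [hab _ _ _ _ hca hcb, hab _ _ _ _ hcb hca, mul_comm]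
  · refine eq_one_of_layers_trivial hX _ (hco _ (H.pow_mem hh _)) fun k x hx hxk => ?_
    set W := (powMonoidHom (p ^ (k + 1)) : X →* X).range with hW
    by_cases hx' : x ∈ W
    · exact W.mul_mem (W.inv_mem hx') (apply_mem_pow_range hx')
    obtain ⟨c, hcp, hc⟩ := hsc h k x hx hxk hx'
    let π := QuotientGroup.mk' W
    have hval : π (h x) = π x ^ c := by
      rw [← map_pow]
      exact ((QuotientGroup.eq (s := W)).mpr (by rwa [mul_comm] : (x ^ c)⁻¹ * h x ∈ W)).symm
    have hpow : ∀ n : ℕ, π ((h ^ n) x) = π x ^ c ^ n := by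
      intro n
      induction n with
      | zero => simp
      | succ n ih =>
        rw [pow_succ', MulAut.mul_apply]
        have h1 : π (h ((h ^ n) x)) = π (h (x ^ c ^ n)) := by
          refine QuotientGroup.eq.mpr ?_
          rw [← map_inv, ← map_mul]
          exact apply_mem_pow_range (QuotientGroup.eq.mp (ih.trans (map_pow π x _).symm))
        rw [h1, map_pow, map_pow, hval, ← pow_mul, ← pow_succ']
    have hxp : π x ^ p = 1 := by rw [← map_pow, hx, map_one]
    refine QuotientGroup.eq.mp ?_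
    show π x = π ((h ^ (p - 1)) x)
    rw [hpow]
    conv_lhs => rw [← pow_one (π x)]
    refine (pow_eq_pow_iff_modEq.mpr (Nat.ModEq.of_dvd (orderOf_dvd_of_pow_eq_one hxp) ?_)).symm
    rw [← Nat.totient_prime (Fact.out : p.Prime)]
    exact Nat.ModEq.pow_totient hcp

end Abstract

section Product

variable {p : ℕ} [Fact p.Prime] {ι : Type*} (b : ι → ℕ)

theorem zmod_p_torsion {n : ℕ} (hn : 1 ≤ n) (z : ZMod (p ^ n)) (hz : (p : ZMod (p ^ n)) * z = 0) :
    ∃ c : ℕ, z = ((c * p ^ (n - 1) : ℕ) : ZMod (p ^ n)) := by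
  have : NeZero (p ^ n) := ⟨pow_ne_zero _ (Fact.out : p.Prime).ne_zero⟩
  have h1 : p ^ n ∣ p * z.val := by
    rw [← ZMod.natCast_eq_zero_iff, Nat.cast_mul, ZMod.natCast_zmod_val]; exact hz
  have hn' : p ^ n = p * p ^ (n - 1) := by rw [← pow_succ']; congr 1; omega
  obtain ⟨c, hc⟩ : p ^ (n - 1) ∣ z.val := Nat.dvd_of_mul_dvd_mul_left (Fact.out : p.Prime).pos (hn' ▸ h1)
  exact ⟨c, by rw [← ZMod.natCast_zmod_val z, hc, mul_comm]⟩

theorem oneDimLayers_pi [Finite ι] (hb : Function.Injective b) (hb1 : ∀ i, 1 ≤ b i) :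
    OneDimLayers p ((i : ι) → Multiplicative (ZMod (p ^ b i))) := by
  intro k x u hx hu hxk huk hx'
  have hmem : ∀ (j : ℕ) (v : (i : ι) → Multiplicative (ZMod (p ^ b i))),
      v ∈ (powMonoidHom (p ^ j) : _ →* _).range ↔
        ∀ i, ∃ w : ZMod (p ^ b i), ((p ^ j : ℕ) : ZMod (p ^ b i)) * w = (v i).toAdd := by
    intro j v
    constructor
    · rintro ⟨y, rfl⟩ i
      exact ⟨(y i).toAdd, by rw [powMonoidHom_apply, Pi.pow_apply, toAdd_pow, nsmul_eq_mul]⟩
    · intro h
      choose w hw using h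
      refine ⟨fun i => Multiplicative.ofAdd (w i), funext fun i => Multiplicative.toAdd.injective ?_⟩
      rw [powMonoidHom_apply, Pi.pow_apply, toAdd_pow, nsmul_eq_mul, toAdd_ofAdd, hw]
  have key : ∀ (v : (i : ι) → Multiplicative (ZMod (p ^ b i))), v ^ p = 1 →
      v ∈ (powMonoidHom (p ^ k) : _ →* _).range → ∀ i,
      (∃ w : ZMod (p ^ b i), ((p ^ (k + 1) : ℕ) : ZMod (p ^ b i)) * w = (v i).toAdd) ∨
        (b i = k + 1 ∧ ∃ c : ℕ, ¬ p ∣ c ∧ (v i).toAdd = ((c * p ^ k : ℕ) : ZMod (p ^ b i))) := by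
    intro v hv hvk i
    have h2 : (p : ZMod (p ^ b i)) * (v i).toAdd = 0 := by
      have h3 := congrArg Multiplicative.toAdd (congrFun hv i)
      rwa [Pi.pow_apply, toAdd_pow, nsmul_eq_mul, Pi.one_apply, toAdd_one] at h3
    obtain ⟨c, hc⟩ := zmod_p_torsion (hb1 i) _ h2
    rcases lt_trichotomy (b i) (k + 1) with hlt | heq | hgt
    · refine Or.inl ⟨0, ?_⟩
      obtain ⟨w, hw⟩ := (hmem k v).mp hvk i
      rw [← hw, mul_zero, (ZMod.natCast_eq_zero_iff _ _).mpr (pow_dvd_pow p (by omega : b i ≤ k)), zero_mul]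
    · by_cases hd : p ∣ c
      · obtain ⟨q, rfl⟩ := hd
        refine Or.inl ⟨0, ?_⟩
        rw [hc, mul_zero]
        refine ((ZMod.natCast_eq_zero_iff _ _).mpr ?_).symm
        rw [mul_right_comm, show p * p ^ (b i - 1) = p ^ b i by rw [← pow_succ']; congr 1; omega]
        exact dvd_mul_right _ _
      · exact Or.inr ⟨heq, c, hd, by rw [hc, heq, Nat.add_sub_cancel]⟩
    · refine Or.inl ⟨((c * p ^ (b i - 1 - (k + 1)) : ℕ) : ZMod (p ^ b i)), ?_⟩
      rw [hc, ← Nat.cast_mul, mul_left_comm, ← pow_add]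
      congr 3; omega
  obtain ⟨i₀, hi₀, cx, hcx, hxi⟩ : ∃ i, b i = k + 1 ∧ ∃ c : ℕ, ¬ p ∣ c ∧ (x i).toAdd = ((c * p ^ k : ℕ) : ZMod (p ^ b i)) := by
    by_contra hne
    refine hx' ((hmem _ _).mpr fun i => ?_)
    rcases key x hx hxk i with h | h
    · exact h
    · exact absurd ⟨i, h⟩ hne
  obtain ⟨cu, hui⟩ : ∃ c : ℕ, (u i₀).toAdd = ((c * p ^ k : ℕ) : ZMod (p ^ b i₀)) := by
    rcases key u hu huk i₀ with ⟨w, hw⟩ | ⟨-, c, -, hc⟩
    · refine ⟨0, ?_⟩
      rw [← hw, (ZMod.natCast_eq_zero_iff _ _).mpr (pow_dvd_pow p (by omega : b i₀ ≤ k + 1)), zero_mul,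
        zero_mul, Nat.cast_zero]
    · exact ⟨c, hc⟩
  obtain ⟨t, ht⟩ : ∃ t : ℕ, t * cx ≡ cu [MOD p] := by
    have hne : (cx : ZMod p) ≠ 0 := fun h => hcx ((ZMod.natCast_eq_zero_iff _ _).mp h)
    refine ⟨((cu : ZMod p) / cx).val, (ZMod.natCast_eq_natCast_iff _ _ _).mp ?_⟩
    rw [Nat.cast_mul, ZMod.natCast_zmod_val, div_mul_cancel₀ _ hne]
  refine ⟨t, (hmem _ _).mpr fun i => ?_⟩
  have hcomp : ((u * (x ^ t)⁻¹) i).toAdd = (u i).toAdd - (t : ZMod (p ^ b i)) * (x i).toAdd := by
    rw [Pi.mul_apply, Pi.inv_apply, Pi.pow_apply, toAdd_mul, toAdd_inv, toAdd_pow, nsmul_eq_mul, sub_eq_add_neg]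
  rw [hcomp]
  by_cases hi : i = i₀
  · subst hi
    refine ⟨0, ?_⟩
    rw [mul_zero, hui, hxi, eq_comm, sub_eq_zero, ← Nat.cast_mul, ZMod.natCast_eq_natCast_iff, ← mul_assoc, hi₀, pow_succ',
      ]
    exact (ht.symm.mul_right' _)
  · rcases key x hx hxk i with ⟨w, hw⟩ | ⟨h, -⟩
    · rcases key u hu huk i with ⟨w', hw'⟩ | ⟨h, -⟩
      · exact ⟨w' - (t : ZMod (p ^ b i)) * w, by rw [mul_sub, hw', mul_left_comm, hw]⟩
      · exact absurd (hb (h.trans hi₀.symm)) hi
    · exact absurd (hb (h.trans hi₀.symm)) hi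

end Product

section Repeated

variable {C K : Type*} [CommGroup C] [CommGroup K]

/-- A repeated factor gives a non-abelian `p'`-group, or one of exponent not dividing `p - 1`, of
automorphisms. -/
theorem exists_bad_subgroup {p : ℕ} [Fact p.Prime] [Finite C] [Finite K] (hC : IsPGroup p C) (hne : Nontrivial C) :
    ∃ H : Subgroup (MulAut ((C × C) × K)), (Nat.card H).Coprime p ∧
      ¬ (IsMulCommutative H ∧ ∀ h ∈ H, h ^ (p - 1) = 1) := by
  have : Finite (MulAut ((C × C) × K)) :=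
    Finite.of_injective (fun f : MulAut ((C × C) × K) => (f : _ → _)) DFunLike.coe_injective
  obtain ⟨g, hg⟩ := exists_ne (1 : C)
  by_cases h2 : p = 2
  · subst h2
    let R : MulAut ((C × C) × K) :=
      { toFun := fun v => ((v.1.2, v.1.1⁻¹ * v.1.2⁻¹), v.2)
        invFun := fun v => ((v.1.1⁻¹ * v.1.2⁻¹, v.1.1), v.2)
        left_inv := fun v => by simp [mul_comm, mul_left_comm]
        right_inv := fun v => by simp [mul_comm, mul_left_comm]
        map_mul' := fun v w => by simp [mul_comm, mul_left_comm, mul_assoc] }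
    have h3 : R ^ 3 = 1 := MulEquiv.ext fun v => by
      simp [R, pow_succ, mul_comm, mul_left_comm]
    have hR : R ≠ 1 := fun h => hg (by
      have := congrArg (fun v : (C × C) × K => v.1.1) (DFunLike.congr_fun h ((1, g), 1))
      simpa [R] using this)
    refine ⟨Subgroup.zpowers R, ?_, fun ⟨_, h⟩ => hR (by simpa using h R (Subgroup.mem_zpowers R))⟩
    rw [Nat.card_zpowers]
    exact Nat.Coprime.coprime_dvd_left (orderOf_dvd_of_pow_eq_one h3) (by norm_num)
  let R : MulAut ((C × C) × K) :=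
    { toFun := fun v => ((v.1.2⁻¹, v.1.1), v.2)
      invFun := fun v => ((v.1.2, v.1.1⁻¹), v.2)
      left_inv := fun v => by simp
      right_inv := fun v => by simp
      map_mul' := fun v w => by simp [mul_comm] }
  let T : MulAut ((C × C) × K) :=
    { toFun := fun v => ((v.1.2, v.1.1), v.2)
      invFun := fun v => ((v.1.2, v.1.1), v.2)
      left_inv := fun v => by simp
      right_inv := fun v => by simp
      map_mul' := fun v w => by simp }
  have hT : T * T = 1 := MulEquiv.ext fun v => by simp [T]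
  have hR4 : R ^ (4 : ℕ) = 1 := MulEquiv.ext fun v => by simp [R, pow_succ]
  have hTR : T * R * T = R⁻¹ := MulEquiv.ext fun v => by simp [R, T, MulAut.inv_def]
  have hTRz : ∀ i : ℤ, T * R ^ i = R ^ (-i) * T := by
    intro i
    have h1 : MulAut.conj T (R ^ i) = R ^ (-i) := by
      rw [map_zpow, zpow_neg, ← inv_zpow, MulAut.conj_apply, inv_eq_of_mul_eq_one_right hT, hTR]
    rw [← h1, MulAut.conj_apply, inv_mul_cancel_right]
  let H : Subgroup (MulAut ((C × C) × K)) :=
    { carrier := {f | ∃ i : ℤ, f = R ^ i ∨ f = R ^ i * T}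
      one_mem' := ⟨0, Or.inl (zpow_zero R).symm⟩
      mul_mem' := by
        rintro a b ⟨i, rfl | rfl⟩ ⟨j, rfl | rfl⟩
        · exact ⟨i + j, Or.inl (zpow_add R i j).symm⟩
        · exact ⟨i + j, Or.inr (by rw [← mul_assoc, zpow_add])⟩
        · exact ⟨i - j, Or.inr (by rw [mul_assoc, hTRz, ← mul_assoc, ← zpow_add, sub_eq_add_neg])⟩
        · exact ⟨i - j, Or.inl (by rw [mul_assoc, ← mul_assoc T, hTRz, mul_assoc (R ^ (-j)), hT, mul_one,
            ← zpow_add, sub_eq_add_neg])⟩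
      inv_mem' := by
        rintro a ⟨i, rfl | rfl⟩
        · exact ⟨-i, Or.inl (zpow_neg R i).symm⟩
        · exact ⟨i, Or.inr (by
            rw [mul_inv_rev, inv_eq_of_mul_eq_one_right hT, ← zpow_neg, hTRz, neg_neg])⟩ }
  have hH2 : IsPGroup 2 H := by
    rintro ⟨f, i, rfl | rfl⟩
    · refine ⟨2, Subtype.ext ?_⟩
      show (R ^ i) ^ (2 ^ 2) = 1
      rw [← zpow_natCast, ← zpow_mul, mul_comm, zpow_mul, zpow_natCast,
        show (2 : ℕ) ^ 2 = 4 by norm_num, hR4, one_zpow]
    · refine ⟨1, Subtype.ext ?_⟩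
      show (R ^ i * T) ^ (2 ^ 1) = 1
      rw [pow_one, pow_two, mul_assoc, ← mul_assoc T, hTRz, mul_assoc (R ^ (-i)), hT, mul_one, ← zpow_add,
        add_neg_cancel, zpow_zero]
  refine ⟨H, ?_, fun ⟨hc, _⟩ => ?_⟩
  · have : Fact (Nat.Prime 2) := ⟨Nat.prime_two⟩
    obtain ⟨k, hk⟩ := hH2.exists_card_eq
    rw [hk]
    exact Nat.Coprime.pow_left k ((Nat.coprime_primes Nat.prime_two Fact.out).mpr (Ne.symm h2))
  · have h1 := congrArg Subtype.val (hc.is_comm.comm (⟨R, 1, Or.inl (zpow_one R).symm⟩ : H)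
      ⟨T, 0, Or.inr (by rw [zpow_zero, one_mul])⟩)
    have h3 := congrArg (fun v : (C × C) × K => v.1.1) (DFunLike.congr_fun h1 ((g, 1), 1))
    have h4 : g⁻¹ = g := by simpa [R, T] using h3
    have h5 : g ^ 2 = 1 := by rw [pow_two]; nth_rewrite 1 [← h4]; exact inv_mul_cancel g
    obtain ⟨k, hk⟩ := hC g
    exact hg (orderOf_eq_one_iff.mp (Nat.eq_one_of_dvd_coprimes
      (Nat.Coprime.pow_right k ((Nat.coprime_primes Nat.prime_two Fact.out).mpr (Ne.symm h2)))
      (orderOf_dvd_of_pow_eq_one h5) (orderOf_dvd_of_pow_eq_one hk)))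

end Repeated

theorem comm_exp_transport {X Y : Type*} [Group X] [Group Y] {p : ℕ} (e : X ≃* Y)
    (h : ∀ H : Subgroup (MulAut Y), (Nat.card H).Coprime p → IsMulCommutative H ∧ ∀ f ∈ H, f ^ (p - 1) = 1)
    (H : Subgroup (MulAut X)) (hH : (Nat.card H).Coprime p) :
    IsMulCommutative H ∧ ∀ f ∈ H, f ^ (p - 1) = 1 := by
  let E := MulAut.congr e
  obtain ⟨h1, h2⟩ := h (H.map E.toMonoidHom)
    (by rwa [← Nat.card_congr (H.equivMapOfInjective E.toMonoidHom E.injective).toEquiv])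
  refine ⟨⟨⟨fun a b => Subtype.ext (E.injective ?_)⟩⟩, fun f hf => E.injective ?_⟩
  · show E ((a : MulAut X) * b) = E ((b : MulAut X) * a)
    rw [map_mul, map_mul]
    exact congrArg Subtype.val (h1.is_comm.comm (⟨E a, a, a.2, rfl⟩ : H.map E.toMonoidHom) ⟨E b, b, b.2, rfl⟩)
  · rw [map_pow, map_one]
    exact h2 _ ⟨f, hf, rfl⟩

universe u

variable {Ω : Type u} [Group Ω] {S : Subgroup Ω}

theorem forall_chain_iff_invariants [Finite S] {p : ℕ} [Fact p.Prime] (hS : IsPGroup p S)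
    (hab : IsMulCommutative ↥S) :
    (∀ F : FusionSystem S, F.IsSaturated p → HasCyclicChain F) ↔
      ¬ ∃ (n : ℕ) (H : Type) (_ : CommGroup H), 0 < n ∧
        Nonempty (↥S ≃* (Multiplicative (ZMod (p ^ n)) × Multiplicative (ZMod (p ^ n))) × H) := by
  classical
  have hnormal : ∀ F : FusionSystem S, F.IsSaturated p → F.IsNormal S := fun F hF =>
    isNormal_of_abelian hS hF sc_self (by
      rw [eq_bot_iff, Subgroup.commutator_le]
      intro g hg h hh
      rw [Subgroup.mem_bot, commutatorElement_eq_one_iff_mul_comm]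
      exact congrArg Subtype.val (hab.is_comm.comm (⟨g, hg⟩ : S) ⟨h, hh⟩))
  rw [forall_chain_iff hS]
  constructor
  · rintro ⟨-, hH⟩ ⟨n, K, _, hn, ⟨e⟩⟩
    have : NeZero (p ^ n) := ⟨pow_ne_zero _ (Fact.out : p.Prime).ne_zero⟩
    have : Finite ((Multiplicative (ZMod (p ^ n)) × Multiplicative (ZMod (p ^ n))) × K) := Finite.of_equiv _ e.toEquiv
    have : Finite K := Finite.of_surjective (Prod.snd : (Multiplicative (ZMod (p ^ n)) × Multiplicative (ZMod (p ^ n))) × K → K)
      fun k => ⟨((1, 1), k), rfl⟩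
    have : Fact (1 < p ^ n) := ⟨Nat.one_lt_pow hn.ne' (Fact.out : p.Prime).one_lt⟩
    obtain ⟨H, hHc, hbad⟩ := exists_bad_subgroup (C := Multiplicative (ZMod (p ^ n))) (K := K) (p := p)
      (IsPGroup.of_card (n := n) (by rw [Nat.card_congr Multiplicative.toAdd, Nat.card_zmod])) inferInstance
    exact hbad (comm_exp_transport e.symm hH H hHc)
  · intro hno
    refine ⟨hnormal, ?_⟩
    let _ : CommGroup S := { mul_comm := hab.is_comm.comm }
    obtain ⟨ι, _, n, hn1, ⟨e⟩⟩ := CommGroup.equiv_prod_multiplicative_zmod_of_finite S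
    have hpi : IsPGroup p ((i : ι) → Multiplicative (ZMod (n i))) := hS.of_equiv e
    have : Finite ((i : ι) → Multiplicative (ZMod (n i))) := Finite.of_equiv _ e.toEquiv
    have hb : ∀ i, ∃ b : ℕ, n i = p ^ b ∧ 1 ≤ b := by
      intro i
      obtain ⟨k, hk⟩ := hpi (Pi.mulSingle i (Multiplicative.ofAdd (1 : ZMod (n i))))
      have h1 := congrArg Multiplicative.toAdd (congrFun hk i)
      rw [Pi.pow_apply, Pi.mulSingle_eq_same, toAdd_pow, toAdd_ofAdd, nsmul_eq_mul, mul_one, Pi.one_apply, toAdd_one,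
        ZMod.natCast_eq_zero_iff] at h1
      obtain ⟨b, -, hb⟩ := (Nat.dvd_prime_pow Fact.out).mp h1
      refine ⟨b, hb, Nat.one_le_iff_ne_zero.mpr fun h0 => ?_⟩
      have := hn1 i
      rw [hb, h0, pow_zero] at this
      exact lt_irrefl _ this
    choose b hb hb1 using hb
    obtain rfl : n = fun i => p ^ b i := funext hb
    have hinj : Function.Injective b := by
      intro i j hij
      by_contra hne
      refine hno ⟨b i, (k : {k : ι // k ≠ i ∧ k ≠ j}) → Multiplicative (ZMod (p ^ b k)), inferInstance, hb1 i, ⟨e.trans ?_⟩⟩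
      let c : Multiplicative (ZMod (p ^ b j)) ≃* Multiplicative (ZMod (p ^ b i)) :=
        AddEquiv.toMultiplicative (ZMod.ringEquivCongr (congrArg (p ^ ·) hij.symm)).toAddEquiv
      let f : ((k : ι) → Multiplicative (ZMod (p ^ b k))) →*
          (Multiplicative (ZMod (p ^ b i)) × Multiplicative (ZMod (p ^ b i))) ×
            ((k : {k : ι // k ≠ i ∧ k ≠ j}) → Multiplicative (ZMod (p ^ b k))) :=
        { toFun := fun v => ((v i, c (v j)), fun k => v k)
          map_one' := by ext <;> simp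
          map_mul' := fun v w => by ext <;> simp }
      refine MulEquiv.ofBijective f ⟨fun v w h => ?_, fun w => ?_⟩
      · funext k
        by_cases hki : k = i
        · subst hki; exact congrArg (fun z => z.1.1) h
        by_cases hkj : k = j
        · subst hkj; exact c.injective (congrArg (fun z => z.1.2) h)
        exact congrFun (congrArg Prod.snd h) ⟨k, hki, hkj⟩
      · refine ⟨fun k => if hki : k = i then hki.symm ▸ w.1.1 else
          if hkj : k = j then hkj.symm ▸ c.symm w.1.2 else w.2 ⟨k, hki, hkj⟩, ?_⟩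
        refine Prod.ext (Prod.ext ?_ ?_) (funext fun k => ?_)
        · simp [f]
        · simp [f, Ne.symm hne]
        · simp [f, k.2.1, k.2.2]
    intro H hH
    exact comm_exp_transport e (fun H' hH' => comm_of_layers hpi (oneDimLayers_pi b hinj hb1) H' hH') H hH

end CfsgLib.FusionNormal
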