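import Cfsg.Agent.Lib.FusionNormal.Abelian
import Cfsg.Agent.Lib.FusionNormal.SmallChar
import Mathlib.Data.ZMod.Basic

/-!
# Abelian `2`-groups with distinct invariants

Their automorphism groups are `2`-groups, so that all saturated systems over them are inner.
-/

namespace CfsgLib.FusionNormal

open Cfsg Cfsg.FusionSystem CfsgLib.Fusion CfsgLib.FusionExtend

theorem zmod_two_torsion {b : ℕ} (hb : 1 ≤ b) (z : ZMod (2 ^ b)) (hz : 2 * z = 0) :
    z = 0 ∨ z = ((2 ^ (b - 1) : ℕ) : ZMod (2 ^ b)) := by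
  have : NeZero (2 ^ b) := ⟨pow_ne_zero _ two_ne_zero⟩
  have h1 : 2 ^ b ∣ 2 * z.val := by
    rw [← ZMod.natCast_eq_zero_iff, Nat.cast_mul, ZMod.natCast_zmod_val, Nat.cast_ofNat]; exact hz
  have hb' : 2 ^ b = 2 * 2 ^ (b - 1) := by rw [← pow_succ']; congr 1; omega
  obtain ⟨c, hc⟩ : 2 ^ (b - 1) ∣ z.val := Nat.dvd_of_mul_dvd_mul_left two_pos (hb' ▸ h1)
  have hlt := z.val_lt
  have hc2 : c < 2 := by
    by_contra h
    have : 2 ^ (b - 1) * 2 ≤ 2 ^ (b - 1) * c := Nat.mul_le_mul_left _ (by omega)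
    omega
  interval_cases c
  · exact Or.inl (by rw [← ZMod.natCast_zmod_val z, hc, mul_zero, Nat.cast_zero])
  · exact Or.inr (by rw [← ZMod.natCast_zmod_val z, hc, mul_one])

variable {n : ℕ} (a : Fin n → ℕ)

/-- The product of the cyclic groups of orders `2 ^ a i`. -/
abbrev TwoProd : Type := Multiplicative ((i : Fin n) → ZMod (2 ^ a i))

/-- `x` is a `2 ^ k`-th power. -/
def InPow (k : ℕ) (x : TwoProd a) : Prop := ∃ y : TwoProd a, y ^ 2 ^ k = x

theorem inPow_iff {k : ℕ} {x : TwoProd a} :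
    InPow a k x ↔ ∀ i, ∃ w : ZMod (2 ^ a i), ((2 ^ k : ℕ) : ZMod (2 ^ a i)) * w = x.toAdd i := by
  constructor
  · rintro ⟨y, rfl⟩ i
    exact ⟨y.toAdd i, by rw [toAdd_pow, Pi.smul_apply, nsmul_eq_mul]⟩
  · intro h
    choose w hw using h
    refine ⟨Multiplicative.ofAdd w, Multiplicative.toAdd.injective (funext fun i => ?_)⟩
    rw [toAdd_pow, Pi.smul_apply, nsmul_eq_mul, toAdd_ofAdd, hw]

variable {a}

/-- Two involutions of the same height have product of greater height. -/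
theorem inPow_mul (ha : StrictMono a) (ha1 : ∀ i, 1 ≤ a i) {k : ℕ} {x u : TwoProd a}
    (hx : x ^ 2 = 1) (hu : u ^ 2 = 1) (hxk : InPow a k x) (huk : InPow a k u)
    (hx' : ¬ InPow a (k + 1) x) (hu' : ¬ InPow a (k + 1) u) : InPow a (k + 1) (x * u) := by
  have key : ∀ v : TwoProd a, v ^ 2 = 1 → InPow a k v → ∀ i,
      (∃ w : ZMod (2 ^ a i), ((2 ^ (k + 1) : ℕ) : ZMod (2 ^ a i)) * w = v.toAdd i) ∨
        (a i = k + 1 ∧ v.toAdd i = ((2 ^ k : ℕ) : ZMod (2 ^ a i))) := by
    intro v hv hvk i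
    have h2 : 2 * v.toAdd i = 0 := by
      have := congrArg (fun z : TwoProd a => z.toAdd i) hv
      simpa [toAdd_pow, two_mul, two_nsmul] using this
    rcases zmod_two_torsion (ha1 i) _ h2 with h0 | h1
    · exact Or.inl ⟨0, by rw [h0, mul_zero]⟩
    rcases lt_trichotomy (a i) (k + 1) with hlt | heq | hgt
    · refine Or.inl ⟨0, ?_⟩
      obtain ⟨w, hw⟩ := (inPow_iff a).mp hvk i
      rw [← hw, mul_zero, (ZMod.natCast_eq_zero_iff _ _).mpr (pow_dvd_pow 2 (by omega : a i ≤ k)),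
        zero_mul]
    · exact Or.inr ⟨heq, by rw [h1, heq, Nat.add_sub_cancel]⟩
    · refine Or.inl ⟨((2 ^ (a i - 1 - (k + 1)) : ℕ) : ZMod (2 ^ a i)), ?_⟩
      rw [← Nat.cast_mul, ← pow_add, h1]
      congr 2; omega
  have pick : ∀ v : TwoProd a, v ^ 2 = 1 → InPow a k v → ¬ InPow a (k + 1) v →
      ∃ i, a i = k + 1 ∧ v.toAdd i = ((2 ^ k : ℕ) : ZMod (2 ^ a i)) := by
    intro v hv hvk hv'
    by_contra hne
    refine hv' ((inPow_iff a).mpr fun i => ?_)
    rcases key v hv hvk i with h | h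
    · exact h
    · exact absurd ⟨i, h⟩ hne
  obtain ⟨i₀, hi₀, hxi⟩ := pick x hx hxk hx'
  obtain ⟨i₁, hi₁, hui⟩ := pick u hu huk hu'
  obtain rfl : i₀ = i₁ := ha.injective (hi₀.trans hi₁.symm)
  refine (inPow_iff a).mpr fun i => ?_
  by_cases hi : i = i₀
  · subst hi
    refine ⟨1, ?_⟩
    rw [mul_one, toAdd_mul, Pi.add_apply, hxi, hui, ← Nat.cast_add, ← two_mul, ← pow_succ']
  · rcases key x hx hxk i with ⟨w, hw⟩ | ⟨h, -⟩
    · rcases key u hu huk i with ⟨w', hw'⟩ | ⟨h, -⟩
      · exact ⟨w + w', by rw [mul_add, hw, hw', toAdd_mul, Pi.add_apply]⟩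
      · exact absurd (ha.injective (h.trans hi₀.symm)) hi
    · exact absurd (ha.injective (h.trans hi₀.symm)) hi

theorem pow_two_exponent (x : TwoProd a) : x ^ 2 ^ (∑ i, a i) = 1 := by
  apply Multiplicative.toAdd.injective
  funext i
  rw [toAdd_pow, Pi.smul_apply, nsmul_eq_mul, toAdd_one, Pi.zero_apply,
    (ZMod.natCast_eq_zero_iff _ _).mpr
      (pow_dvd_pow 2 (Finset.single_le_sum (f := a) (fun _ _ => Nat.zero_le _) (Finset.mem_univ i))), zero_mul]

/-- An automorphism of odd order of a product of cyclic `2`-groups of distinct orders is trivial. -/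
theorem eq_one_of_odd_aut (ha : StrictMono a) (ha1 : ∀ i, 1 ≤ a i) (b : MulAut (TwoProd a))
    (hb : (orderOf b).Coprime 2) : b = 1 := by
  have : Fact (Nat.Prime 2) := ⟨Nat.prime_two⟩
  have hp : IsPGroup 2 (TwoProd a) := fun x => ⟨_, pow_two_exponent x⟩
  set E := ∑ i, a i
  have hpow : ∀ k x, InPow a k x → InPow a k (b x) := by
    rintro k _ ⟨y, rfl⟩; exact ⟨b y, (map_pow b y _).symm⟩
  have hpow' : ∀ k x, InPow a k (b x) → InPow a k x := by
    rintro k x ⟨y, hy⟩
    exact ⟨b.symm y, by rw [← map_pow, hy, MulEquiv.symm_apply_apply]⟩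
  have homega : ∀ j k, k + j = E → ∀ x, x ^ 2 = 1 → InPow a k x → b x = x := by
    intro j
    induction j with
    | zero =>
      intro k hk x _ hxk
      obtain ⟨y, rfl⟩ := hxk
      rw [show k = E by omega, pow_two_exponent, map_one]
    | succ j ih =>
      intro k hk x hx hxk
      by_cases hx' : InPow a (k + 1) x
      · exact ih (k + 1) (by omega) x hx hx'
      have hbx : (b x) ^ 2 = 1 := by rw [← map_pow, hx, map_one]
      have h1 := inPow_mul ha ha1 hx hbx hxk (hpow k x hxk) hx' (fun h => hx' (hpow' _ _ h))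
      refine fix_of_step hp b hb ?_
      have hxi : x⁻¹ = x := inv_eq_of_mul_eq_one_right (by rwa [← pow_two])
      rw [hxi]
      exact ih (k + 1) (by omega) _ (by rw [mul_pow, hx, hbx, one_mul]) h1
  have hall : ∀ m x, x ^ 2 ^ m = 1 → b x = x := by
    intro m
    induction m with
    | zero => intro x hx; rw [pow_zero, pow_one] at hx; rw [hx, map_one]
    | succ m ih =>
      intro x hx
      have h2 : b (x ^ 2) = x ^ 2 := ih _ (by rw [← pow_mul, ← pow_succ']; exact hx)
      refine fix_of_step hp b hb (homega E 0 (by omega) _ ?_ ⟨_, pow_one _⟩)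
      rw [mul_pow, ← map_pow, h2, inv_pow, inv_mul_cancel]
  exact MulEquiv.ext fun x => hall E x (pow_two_exponent x)

universe u

variable {Ω : Type u} [Group Ω] {S : Subgroup Ω}

/-- Saturated systems over abelian `2`-groups with distinct invariants are inner. -/
theorem eq_inner_of_distinct_invariants [Finite S] (ha : StrictMono a) (ha1 : ∀ i, 1 ≤ a i)
    (e : ↥S ≃* TwoProd a) (F : FusionSystem S) (hF : F.IsSaturated 2) (P : Subgroup Ω) :
    F.Hom P = (innerFusionSystem S).Hom P := by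
  have : Fact (Nat.Prime 2) := ⟨Nat.prime_two⟩
  have hS : IsPGroup 2 S := fun x => ⟨∑ i, a i, e.injective (by rw [map_pow, pow_two_exponent, map_one])⟩
  have hab : ∀ x ∈ S, ∀ y ∈ S, x * y = y * x := fun x hx y hy =>
    congrArg Subtype.val (e.injective (a₁ := ⟨x, hx⟩ * ⟨y, hy⟩) (a₂ := ⟨y, hy⟩ * ⟨x, hx⟩)
      (by rw [map_mul, map_mul, mul_comm]))
  have hN : F.IsNormal S := isNormal_of_abelian hS hF sc_self (by
    rw [eq_bot_iff, Subgroup.commutator_le]
    intro g hg h hh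
    rw [Subgroup.mem_bot, commutatorElement_eq_one_iff_mul_comm]
    exact hab g hg h hh)
  have htriv : ∀ α ∈ F.autGroup S, α = 1 := by
    intro α hα
    have hd := not_dvd_card_autGroup_self hF hab
    have ho : (orderOf α).Coprime 2 := by
      refine Nat.coprime_comm.mp (Nat.prime_two.coprime_iff_not_dvd.mpr fun h => hd (h.trans ?_))
      exact (Subgroup.orderOf_coe (⟨α, hα⟩ : F.autGroup S)) ▸ orderOf_dvd_natCard _
    have h1 := eq_one_of_odd_aut ha ha1 (MulAut.congr e α) (by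
      exact (orderOf_injective (MulAut.congr e).toMonoidHom (MulAut.congr e).injective α).symm ▸ ho)
    exact (MulAut.congr e).injective (h1.trans (map_one _).symm)
  refine Set.Subset.antisymm (fun φ hφ => ?_) (inner_le F P)
  obtain ⟨α, hα, hαe⟩ := (isNormal_iff_maps_extend hS hF le_rfl).mp hN P (le_S hφ) φ hφ
  exact ⟨le_S hφ, 1, S.one_mem, fun x => by rw [← hαe, htriv α hα]; simp⟩

end CfsgLib.FusionNormal
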