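import Cfsg.Agent.Lib.FusionNormal.TransferCentral
import Cfsg.Agent.Lib.Fusion.Normal

/-!
# The centre as a direct factor of `Z(S)` when `Z(S)` lies in the core
-/

namespace CfsgLib.FusionNormal

open Cfsg Cfsg.FusionSystem CfsgLib.Fusion CfsgLib.FusionExt
open scoped IsMulCommutative

universe u

variable {Ω : Type u} [Group Ω] {S : Subgroup Ω} {F : FusionSystem S} {p : ℕ}

/-- The centre of a system lies in the centre of `S`. -/
theorem center_le_centralizerIn [Finite S] (F : FusionSystem S) : F.center ≤ centralizerIn S S := by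
  intro z hz
  have hzS : z ∈ S := (isCentral_center F).1 hz
  refine mem_centralizerIn'.mpr ⟨hzS, fun y => ?_⟩
  have := center_fixed (F.conj_mem le_rfl y.2) ⟨z, hzS⟩ hz
  rw [conjHom_apply, mul_inv_eq_iff_eq_mul] at this
  rw [← this, mul_inv_cancel_right]

theorem exists_center_complement [Finite S] [Fact p.Prime] (hS : IsPGroup p S)
    (hF : F.IsSaturated p) {Q : Subgroup Ω} (hQ : F.IsNormal Q) (hZ : centralizerIn S S ≤ Q) :
    ∃ K : Subgroup Ω, K ≤ centralizerIn S S ∧ F.center ⊓ K = ⊥ ∧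
      F.center ⊔ K = centralizerIn S S := by
  classical
  have hQS : Q ≤ S := hQ.1
  have := finite_of_le hQS
  have := finite_mulAut hQS
  obtain ⟨Q', hQc, hQa, -⟩ := hF Q hQS
  obtain rfl : Q' = Q := by
    obtain ⟨φ, hφ, rfl⟩ := hQc
    refine Fusion.eq_of_le_of_card_le ?_ (card_range hφ).ge
    rintro _ ⟨x, rfl⟩
    exact StronglyClosed.apply_mem (IsNormal.stronglyClosed hQ) hφ x x.2
  obtain ⟨-, hQa⟩ := hQa
  set A := F.autGroup Q' with hA
  obtain ⟨T, hT⟩ := hQa
  let _ := Fintype.ofFinite (A ⧸ (T : Subgroup A))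
  have hact : ∀ (α : MulAut Q') (c : Subgroup.center Q'), α c ∈ Subgroup.center Q' := by
    intro α c
    refine Subgroup.mem_center_iff.mpr fun g => ?_
    obtain ⟨h, rfl⟩ := α.surjective g
    rw [← map_mul, ← map_mul, Subgroup.mem_center_iff.mp c.2 h]
  let act : A → Subgroup.center Q' →* Subgroup.center Q' := fun α =>
    { toFun := fun c => ⟨(α : MulAut Q') c, hact α c⟩
      map_one' := Subtype.ext (map_one _)
      map_mul' := fun c d => Subtype.ext (map_mul _ _ _) }
  let N : Subgroup.center Q' →* Subgroup.center Q' :=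
    { toFun := fun c => ∏ o : A ⧸ (T : Subgroup A), act o.out c
      map_one' := Finset.prod_eq_one fun o _ => map_one _
      map_mul' := fun c d => by simp only [map_mul, Finset.prod_mul_distrib] }
  let j : Subgroup.center Q' →* Ω := (Q'.subtype).comp (Subgroup.center Q').subtype
  have hj : Function.Injective j := Q'.subtype_injective.comp (Subgroup.center Q').subtype_injective
  set Z₀ : Subgroup (Subgroup.center Q') := (centralizerIn S S).comap j with hZ₀
  have hlift : ∀ z ∈ centralizerIn S S, ∃ c ∈ Z₀, j c = z := by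
    intro z hz
    have hzc : (⟨z, hZ hz⟩ : Q') ∈ Subgroup.center Q' := Subgroup.mem_center_iff.mpr fun g =>
      Subtype.ext ((mem_centralizerIn'.mp hz).2 ⟨g, hQS g.2⟩ |> fun h => by
        have h' : z * (g : Ω) * z⁻¹ = g := h
        exact ((mul_inv_eq_iff_eq_mul.mp h').symm))
    exact ⟨⟨⟨z, hZ hz⟩, hzc⟩, hz, rfl⟩
  have hTfix : ∀ t ∈ (T : Subgroup A), ∀ c ∈ Z₀, act t c = c := by
    intro t ht c hc
    obtain ⟨g, hg, hge⟩ := mem_autInducedBy.mp (Subgroup.mem_subgroupOf.mp (hT.le ht))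
    apply hj
    have h1 : (j c) * g * (j c)⁻¹ = g := (mem_centralizerIn'.mp hc).2 ⟨g, hg⟩
    show (((t : MulAut Q') c : Q') : Ω) = j c
    rw [hge]
    show g * j c * g⁻¹ = j c
    rw [mul_inv_eq_iff_eq_mul] at h1 ⊢
    exact h1.symm
  have hfix : ∀ (β : A), ∀ c ∈ Z₀, act β (N c) = N c := by
    intro β c hc
    show act β (∏ o : A ⧸ (T : Subgroup A), act o.out c) = _
    rw [map_prod]
    refine (Finset.prod_congr rfl fun o _ => ?_).trans
      (Equiv.prod_comp (MulAction.toPerm β) fun o : A ⧸ (T : Subgroup A) => act o.out c)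
    have h1 : ((β • o).out)⁻¹ * (β * o.out) ∈ (T : Subgroup A) := by
      rw [← QuotientGroup.eq, QuotientGroup.out_eq', ← MulAction.Quotient.coe_smul_out]
      rfl
    calc act β (act o.out c) = act (β • o).out (act ((β • o).out⁻¹ * (β * o.out)) c) := by
            apply Subtype.ext
            simp [act]
      _ = act (MulAction.toPerm β o).out c := by rw [hTfix _ h1 c hc]; rfl
  have hcen : ∀ c ∈ Z₀, j (N c) ∈ F.center := by
    intro c hc
    refine (le_sSup (a := Subgroup.zpowers (j (N c))) ?_ : _ ≤ F.center) (Subgroup.mem_zpowers _)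
    refine (isCentral_iff hS hF).mpr ⟨Subgroup.zpowers_le.mpr (hQS (N c : Q').2), ?_⟩
    rintro w hw y ⟨φ, hφ, rfl⟩
    obtain ⟨k, hk⟩ := Subgroup.mem_zpowers_iff.mp hw
    have hwQ : w ∈ Q' := Subgroup.zpowers_le.mpr (N c : Q').2 hw
    obtain ⟨ψ, hψ, hψe, hψQ⟩ := hQ.2 _ φ hφ
    obtain ⟨χ, hχ, hχr, hχe⟩ := exists_restrict hψ le_sup_right hψQ
    obtain ⟨β, hβ, hβe⟩ := Fusion.exists_aut hχ hχr
    have h1 : χ ⟨w, hwQ⟩ = w := by
      rw [← hβe]
      have e : (⟨w, hwQ⟩ : Q') = ((N c ^ k : Subgroup.center Q') : Q') := Subtype.ext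
        (hk.symm.trans (by simp [j]))
      have h2 : act ⟨β, hβ⟩ (N c ^ k) = N c ^ k := by rw [map_zpow, hfix _ c hc]
      rw [e]
      have h3 := congrArg (fun d : Subgroup.center Q' => ((d : Q') : Ω)) h2
      exact h3.trans (congrArg Subtype.val e.symm)
    rw [← hψe]
    exact ((apply_eq_of_coe_eq rfl).trans (hχe ⟨w, hwQ⟩).symm).trans h1
  have hpow : ∀ c ∈ Z₀, j c ∈ F.center → N c = c ^ (T : Subgroup A).index := by
    intro c hc hcz
    show ∏ o : A ⧸ (T : Subgroup A), act o.out c = _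
    rw [Finset.prod_eq_pow_card (b := c), Finset.card_univ, ← Nat.card_eq_fintype_card]
    · rfl
    intro o _
    apply hj
    exact center_fixed ((mem_autGroup hQS).mp o.out.2) (c : Q') hcz
  refine ⟨(Z₀ ⊓ N.ker).map j, ?_, ?_, ?_⟩
  · rintro _ ⟨c, hc, rfl⟩; exact hc.1
  · rw [eq_bot_iff]
    rintro z ⟨hz, c, ⟨hc, hck⟩, rfl⟩
    rw [Subgroup.mem_bot]
    have h1 : c ^ (T : Subgroup A).index = 1 := (hpow c hc hz).symm.trans hck
    obtain ⟨k, hk⟩ := hS ⟨j c, hQS (c : Q').2⟩
    have h2 : c ^ p ^ k = 1 := hj (by rw [map_pow, map_one]; simpa using congrArg Subtype.val hk)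
    have h3 : Nat.Coprime ((T : Subgroup A).index) (p ^ k) :=
      ((Nat.coprime_comm.mp ((Fact.out : p.Prime).coprime_iff_not_dvd.mpr T.not_dvd_index))).pow_right k
    have h4 : c = 1 := by
      rw [← orderOf_eq_one_iff]
      exact Nat.eq_one_of_dvd_coprimes h3 (orderOf_dvd_of_pow_eq_one h1) (orderOf_dvd_of_pow_eq_one h2)
    rw [h4, map_one]
  · refine le_antisymm (sup_le (center_le_centralizerIn F) ?_) fun z hz => ?_
    · rintro _ ⟨c, hc, rfl⟩; exact hc.1
    obtain ⟨c, hc, rfl⟩ := hlift z hz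
    obtain ⟨k, hk⟩ := hS ⟨j (N c), hQS (N c : Q').2⟩
    have h2 : N c ^ p ^ k = 1 := hj (by rw [map_pow, map_one]; simpa using congrArg Subtype.val hk)
    have h3 : Nat.Coprime ((T : Subgroup A).index) (orderOf (N c)) :=
      Nat.Coprime.coprime_dvd_right (orderOf_dvd_of_pow_eq_one h2)
        (((Nat.coprime_comm.mp ((Fact.out : p.Prime).coprime_iff_not_dvd.mpr T.not_dvd_index))).pow_right k)
    obtain ⟨m, hm⟩ := exists_pow_eq_self_of_coprime h3
    have hd : N c ^ m ∈ Z₀ := by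
      have := center_le_centralizerIn F (hcen c hc)
      exact Z₀.pow_mem this m
    have e : j c = j (N c ^ m) * j ((N c ^ m)⁻¹ * c) := by rw [← map_mul, mul_inv_cancel_left]
    rw [e]
    refine Subgroup.mul_mem _ (Subgroup.mem_sup_left ?_) (Subgroup.mem_sup_right ⟨_, ⟨?_, ?_⟩, rfl⟩)
    · rw [map_pow]; exact F.center.pow_mem (hcen c hc) m
    · exact Z₀.mul_mem (Z₀.inv_mem hd) hc
    · show N _ = 1
      rw [map_mul, map_inv]
      have hcm : j (N c ^ m) ∈ F.center := by rw [map_pow]; exact F.center.pow_mem (hcen c hc) m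
      rw [hpow _ hd hcm, ← pow_mul, mul_comm m, pow_mul, hm, inv_mul_cancel]

end CfsgLib.FusionNormal
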