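import Cfsg.Agent.Lib.FusionNormal.ZJCriterion

/-!
# A constrained non-inner subsystem of a non-inner system, `p` odd
-/

set_option autoImplicit false
set_option linter.style.haveILetI false

namespace CfsgLib.FusionNormal

open Cfsg Cfsg.FusionSystem CfsgLib.Fusion

universe u

variable {Ω : Type u} [Group Ω] {S : Subgroup Ω} {p : ℕ}

theorem autP_of_inner {F : FusionSystem S} (hS : IsPGroup p S)
    (h : ∀ P, F.Hom P = (innerFusionSystem S).Hom P) : AutP F p := by
  intro P hP f hf hfP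
  obtain ⟨φ, hφ, hφe⟩ := hf
  rw [h] at hφ
  obtain ⟨-, g, hg, hge⟩ := hφ
  exact conj_pPower hS hg hfP fun x hx => (hφe ⟨x, hx⟩).symm.trans (hge ⟨x, hx⟩)

variable [Finite S] [Fact p.Prime]

/-- For a normal subgroup `X` of `S`, the maps normalizing `X` form a saturated system over `S`. -/
theorem exists_normalizer_self {F : FusionSystem S} (hS : IsPGroup p S) (hF : F.IsSaturated p)
    {X : Subgroup Ω} (hXS : X ≤ S) (hXn : S ≤ Subgroup.normalizer (X : Set Ω)) :
    ∃ E : FusionSystem S, E ≤ F ∧ E.IsSaturated p ∧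
      (¬ F.IsNormal X → mapCount E < mapCount F) ∧ (AutP E p → AutPAt F p X) := by
  obtain ⟨ha, hr⟩ := fullyNormalized_good hS hF (isFullyNormalized_of_normal hXS hXn)
  refine ⟨extSystem F hXS ⊤ S (isKNormalizer_top_self hXn), fun P φ hφ => hφ.1, ?_, ?_, ?_⟩
  · refine extSystem_saturated hS hF hr ?_ (isKNormalizer_top_self hXn)
    rw [top_inf_eq, top_inf_eq]
    exact (fullyAutomized_iff.mp ha).2
  · intro hnn
    refine mapCount_lt (fun P φ hφ => hφ.1) ?_
    by_contra h
    push Not at h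
    exact hnn (isNormal_of_extHom hXS h)
  · intro hA P hP f hf hfP hfX
    refine hA P hP f ?_ hfP
    obtain ⟨χ, hχ, hχe⟩ := hf.mono (le_sup_left : P ≤ P ⊔ X)
    obtain ⟨ψ, hψ, hψe⟩ := hf
    obtain ⟨κ, hκ⟩ := (map_eq_iff_exists_aut hψ).mp (SetLike.coe_injective (by
      rw [← hfX]
      ext y
      simp only [SetLike.mem_coe, mem_map_subgroupOf]
      constructor
      · rintro ⟨x, hx, rfl⟩; exact ⟨x, hx, (hψe x).symm⟩
      · rintro ⟨x, hx, rfl⟩; exact ⟨⟨x, Subgroup.mem_sup_right hx⟩, hx, hψe _⟩))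
    exact ⟨χ, ⟨hχ, hP, apply_mem_S hχ, ψ, hψ, fun x => (hψe _).trans (hχe x).symm,
      κ, Subgroup.mem_top _, hκ⟩, hχe⟩

/-- For odd `p` a saturated system that is not inner contains a constrained one that is not. -/
theorem exists_constrained_sub (hp : p ≠ 2) (hS : IsPGroup p S) :
    ∀ (m : ℕ) (E : FusionSystem S), mapCount E = m → E.IsSaturated p → ¬ AutP E p →
      ∃ C : FusionSystem S, C ≤ E ∧ C.IsConstrained p ∧ ¬ AutP C p := by
  intro m
  induction m using Nat.strong_induction_on with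
  | _ m ih =>
  intro E hm hE hne
  subst hm
  by_cases hX : ∀ X : Subgroup Ω, X ≤ S → S ≤ Subgroup.normalizer (X : Set Ω) → ¬ E.IsNormal X →
      AutPAt E p X
  swap
  · push Not at hX
    obtain ⟨X, hXS, hXn, hnn, hA⟩ := hX
    obtain ⟨E', hle, hE', hlt, hA'⟩ := exists_normalizer_self hS hE hXS hXn
    obtain ⟨C, hC, hC'⟩ := ih _ (hlt hnn) E' rfl hE' fun h => hA (hA' h)
    exact ⟨C, fun P => (hC P).trans (hle P), hC'⟩
  refine ⟨E, fun P => subset_rfl, ⟨hE, E.core, FusionExt.isNormal_core E, ?_⟩, hne⟩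
  set Q := E.core with hQdef
  have hQ : E.IsNormal Q := FusionExt.isNormal_core E
  have hmax : ∀ X, E.IsNormal X → X ≤ Q := fun X hX => le_core hX
  refine ⟨hQ.1, fun X hXc => ?_⟩
  have : Finite Q := finite_of_le hQ.1
  obtain ⟨f, hf, hfX⟩ := isConj_iff.mp hXc
  obtain rfl : X = Q := Fusion.eq_of_le_of_card_le (fun y hy => by
    obtain ⟨x, hx, rfl⟩ := exists_of_image hfX hy
    obtain ⟨χ, hχ, hχe⟩ := hf
    rw [← hχe ⟨x, hx⟩]
    exact (Fusion.IsNormal.stronglyClosed hQ).2 Q le_rfl χ hχ _) (by rw [MapFn.card_image hf hfX])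
  by_contra hR
  have hSc : E.StronglyClosed S := ⟨le_rfl, fun R _ φ hφ x => apply_mem_S hφ x⟩
  have hSQ : ¬ S ≤ Q := fun h => hR (centralizerIn_le.trans h)
  have hQn : S ≤ Subgroup.normalizer (Q : Set Ω) :=
    Fusion.StronglyClosed.le_normalizer (Fusion.IsNormal.stronglyClosed hQ)
  haveI : (Q.subgroupOf S).Normal := (Subgroup.normal_subgroupOf_iff_le_normalizer hQ.1).mpr hQn
  let θ : S →* S ⧸ Q.subgroupOf S := QuotientGroup.mk' _
  have hk : ∀ s : S, θ s = 1 ↔ (s : Ω) ∈ Q := fun s => QuotientGroup.eq_one_iff s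
  obtain ⟨hD', H'⟩ := autPAt_factor hS hE hSc hQ hmax hk hSQ hX
  have hF' := FusionFactor.factorSystem_isFactorSystem (θ := θ) hk (Fusion.IsNormal.stronglyClosed hQ)
  have hA' := autP_of_autPAt_centerJ hp _ _ (hS.of_surjective θ.rangeRestrict θ.rangeRestrict_surjective)
    _ (FusionFactor.isSaturated_factor hS hE (Fusion.IsNormal.stronglyClosed hQ) hF') rfl rfl _ hD' H'
  refine hne (autP_of_factor hS hE hQ hF' hA' (autP_normal_of_not_centric hS hE hQ ?_))
  refine hX _ (sup_le hQ.1 centralizerIn_le) ?_ fun h => hR (le_sup_right.trans (hmax _ h))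
  intro g hg
  haveI : Finite ↥(Q ⊔ centralizerIn S Q) := finite_of_le (sup_le hQ.1 centralizerIn_le)
  refine mem_normalizer_of_forall fun x hx => ?_
  have h : Q ⊔ centralizerIn S Q ≤ (Q ⊔ centralizerIn S Q).comap (MulAut.conj g).toMonoidHom := by
    refine sup_le (fun a ha => ?_) fun a ha => ?_
    · exact Subgroup.mem_sup_left (conj_mem_of_normalizer (hQn hg) ha)
    · refine Subgroup.mem_sup_right (mem_centralizerIn.mpr
        ⟨S.mul_mem (S.mul_mem hg ha.1) (S.inv_mem hg), fun y hy => ?_⟩)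
      have hy' : g⁻¹ * y * g ∈ Q := by
        have := conj_mem_of_normalizer (hQn (S.inv_mem hg)) hy
        simpa using this
      have h1 := (mem_centralizerIn.mp ha).2 _ hy'
      show y * (g * a * g⁻¹) = (g * a * g⁻¹) * y
      calc y * (g * a * g⁻¹) = g * ((g⁻¹ * y * g) * a) * g⁻¹ := by group
        _ = g * (a * (g⁻¹ * y * g)) * g⁻¹ := by rw [h1]
        _ = _ := by group
  exact h hx

end CfsgLib.FusionNormal
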