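import Cfsg.Agent.Lib.FusionNormal.Build

/-!
# Strongly `p`-embedded subgroups: conjugacy control
-/

namespace CfsgLib.FusionNormal

open Cfsg
open scoped Pointwise

variable {X : Type*} [Group X] [Finite X] {p : ℕ} [Fact p.Prime]

theorem not_pRankLE_zero {Q : Subgroup X} (hQ : IsPGroup p Q) (hne : Q ≠ ⊥) :
    ¬ PRankLE p (1 - 1) Q := by
  intro h
  haveI : Nontrivial Q := (Subgroup.nontrivial_iff_ne_bot Q).mpr hne
  obtain ⟨a, ha⟩ := exists_prime_orderOf_dvd_card' (G := Q) p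
    (hQ.card_eq_or_dvd.resolve_left Finite.one_lt_card.ne')
  have := h (Subgroup.zpowers a) inferInstance fun b hb =>
    orderOf_dvd_iff_pow_eq_one.mp (ha ▸ orderOf_dvd_of_mem_zpowers hb)
  rw [Nat.card_zpowers, ha] at this
  exact absurd this (not_le.mpr (by simpa using (Fact.out : p.Prime).one_lt))

theorem zpowers_le_centralizer_normalizer {x c : X} (hc : c * x = x * c) :
    c ∈ Subgroup.normalizer ((Subgroup.zpowers x : Subgroup X) : Set X) :=
  Subgroup.centralizer_le_normalizer _ <| Subgroup.mem_centralizer_iff.mpr fun y hy => by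
    obtain ⟨n, rfl⟩ := Subgroup.mem_zpowers_iff.mp hy
    exact (Commute.zpow_right hc n).symm

/-- Conjugation of one nontrivial element of `P` into `P` happens only inside `Y`. -/
theorem mem_of_conj_mem {Y : Subgroup X} {P : Sylow p X}
    (hY : kGeneratedCore p 1 (P : Subgroup X) ≤ Y) {x g : X} (hx : x ∈ (P : Subgroup X)) (hx1 : x ≠ 1)
    (hgx : g * x * g⁻¹ ∈ (P : Subgroup X)) : g ∈ Y := by
  have hN : ∀ Q : Subgroup X, Q ≤ (P : Subgroup X) → Q ≠ ⊥ → Subgroup.normalizer (Q : Set X) ≤ Y :=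
    fun Q hQ hne => (le_iSup (fun Q : {Q : Subgroup X // Q ≤ (P : Subgroup X) ∧ ¬ PRankLE p (1 - 1) Q} =>
      Subgroup.normalizer ((Q : Subgroup X) : Set X)) ⟨Q, hQ, not_pRankLE_zero (P.2.to_le hQ) hne⟩).trans hY
  have hC : ∀ y, y ∈ (P : Subgroup X) → y ≠ 1 → ∀ c, c * y = y * c → c ∈ Y := fun y hy hy1 c hc =>
    hN _ (Subgroup.zpowers_le.mpr hy) (by rwa [Ne, Subgroup.zpowers_eq_bot])
      (zpowers_le_centralizer_normalizer hc)
  have hPne : (P : Subgroup X) ≠ ⊥ := fun h => hx1 (by rwa [h, Subgroup.mem_bot] at hx)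
  have hPY : (P : Subgroup X) ≤ Y := Subgroup.le_normalizer.trans (hN _ le_rfl hPne)
  set Q : Sylow p X := g⁻¹ • P with hQdef
  have hmem : ∀ y, y ∈ (Q : Subgroup X) ↔ g * y * g⁻¹ ∈ (P : Subgroup X) := fun y => by
    rw [hQdef, Sylow.coe_subgroup_smul, Subgroup.mem_pointwise_smul_iff_inv_smul_mem, map_inv,
      inv_inv]
    rfl
  have hxQ : x ∈ (Q : Subgroup X) := (hmem x).mpr hgx
  haveI : Nontrivial (Q : Subgroup X) :=
    (Subgroup.nontrivial_iff_ne_bot _).mpr fun h => hx1 (by rwa [h, Subgroup.mem_bot] at hxQ)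
  obtain ⟨z, hz, hz1⟩ :=
    (Subgroup.bot_or_exists_ne_one _).resolve_left (ne_of_gt Q.2.bot_lt_center)
  have hzc : ∀ q ∈ (Q : Subgroup X), q * (z : X) = z * q := fun q hq =>
    congrArg Subtype.val (Subgroup.mem_center_iff.mp hz ⟨q, hq⟩)
  have hzY : (z : X) ∈ Y := hC x hx hx1 z (hzc x hxQ).symm
  let PY : Sylow p Y := P.subtype hPY
  obtain ⟨T, hT⟩ := ((Q.2.to_le (Subgroup.zpowers_le.mpr z.2)).comap_of_injective Y.subtype
    Y.subtype_injective).exists_le_sylow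
  obtain ⟨e, he⟩ := MulAction.exists_smul_eq Y T PY
  have hez : (e : X) * z * (e : X)⁻¹ ∈ (P : Subgroup X) := by
    have h1 : e * ⟨z, hzY⟩ * e⁻¹ ∈ (PY : Subgroup Y) := by
      rw [← he, Sylow.coe_subgroup_smul]
      exact Subgroup.smul_mem_pointwise_smul _ (MulAut.conj e) _ (hT (Subgroup.mem_zpowers _))
    exact h1
  have hez1 : (e : X) * z * (e : X)⁻¹ ≠ 1 := fun h => hz1 (Subtype.ext (by
    calc (z : X) = (e : X)⁻¹ * ((e : X) * z * (e : X)⁻¹) * e := by group
      _ = 1 := by rw [h]; group))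
  have hQY : (Q : Subgroup X) ≤ Y := fun q hq => by
    have h1 : ((e : X) * q * (e : X)⁻¹) * ((e : X) * z * (e : X)⁻¹) =
        ((e : X) * z * (e : X)⁻¹) * ((e : X) * q * (e : X)⁻¹) := by
      calc _ = (e : X) * (q * z) * (e : X)⁻¹ := by group
        _ = (e : X) * (z * q) * (e : X)⁻¹ := by rw [hzc q hq]
        _ = _ := by group
    have h2 := Y.mul_mem (Y.mul_mem (Y.inv_mem e.2) (hC _ hez hez1 _ h1)) e.2
    rwa [show (e : X)⁻¹ * ((e : X) * q * (e : X)⁻¹) * e = q by group] at h2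
  obtain ⟨e', he'⟩ := MulAction.exists_smul_eq Y (Q.subtype hQY) PY
  have he'P : ((e' : X) • Q : Sylow p X) = P := by
    have h1 : ∀ q ∈ (Q : Subgroup X), (e' : X) * q * (e' : X)⁻¹ ∈ (P : Subgroup X) := fun q hq => by
      have h : e' * ⟨q, hQY hq⟩ * e'⁻¹ ∈ (PY : Subgroup Y) := by
        rw [← he', Sylow.coe_subgroup_smul]
        exact Subgroup.smul_mem_pointwise_smul _ (MulAut.conj e') _ hq
      exact h
    refine Sylow.ext (Subgroup.eq_of_le_of_card_ge ?_
      (by rw [Sylow.card_eq_multiplicity, Sylow.card_eq_multiplicity]))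
    intro y hy
    rw [Sylow.coe_subgroup_smul, Subgroup.mem_pointwise_smul_iff_inv_smul_mem] at hy
    have := h1 _ hy
    simpa [MulAut.smul_def, mul_assoc] using this
  rw [hQdef, smul_smul] at he'P
  have h3 := hN _ le_rfl hPne (Sylow.smul_eq_iff_mem_normalizer.mp he'P)
  have h4 := Y.mul_mem (Y.inv_mem e'.2) h3
  rw [inv_mul_cancel_left] at h4
  simpa using Y.inv_mem h4

end CfsgLib.FusionNormal
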