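import Cfsg.Agent.Lib.Fusion.BisetBuild

/-!
# Every fusion system is realized in a finite group

Park's construction: a biset with twisted stabilizers whose marks depend only on the order of the
twisted diagonal exists for every system, saturated or not; the permutations commuting with the
right action realize the system.
-/

namespace CfsgLib.FusionNormal

open Cfsg Cfsg.FusionSystem CfsgLib.Fusion CfsgLib.Fusion.Marks CfsgLib.Fusion.Twist
  CfsgLib.Fusion.BisetBuild MulAction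

universe u

variable {Ω : Type u} [Group Ω] {S : Subgroup Ω} (F : FusionSystem S)

/-- Marks of twisted diagonals larger than `k` depend only on their order. -/
def GoodU (k : ℕ) (L : Multiset (Subgroup (↥S × ↥S))) : Prop :=
  (∀ H ∈ L, IsTw F H) ∧ ∃ v : ℕ → ℕ, ∀ K, IsTw F K → k < Nat.card K → mk L K = v (Nat.card K) ∧ 0 < v (Nat.card K)

variable {F}

theorem goodU_step [Finite S] {k : ℕ} {L : Multiset (Subgroup (↥S × ↥S))} (hL : GoodU F k L) :
    ∃ L', GoodU F (k - 1) L' := by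
  classical
  cases nonempty_fintype (↥S × ↥S)
  cases nonempty_fintype (Subgroup (↥S × ↥S))
  obtain ⟨hLt, v, hv⟩ := hL
  let W := ∏ K : Subgroup (↥S × ↥S), wt K
  let T := (∑ K, mk L K) + 1
  have hW : 0 < W := Finset.prod_pos fun K _ => wt_pos K
  have hdvd : ∀ K, wt K ∣ W := fun K => Finset.dvd_prod_of_mem _ (Finset.mem_univ K)
  let R := Finset.univ.filter fun K : Subgroup (↥S × ↥S) => IsTw F K ∧ Nat.card K = k ∧ pick K = K
  have hR : ∀ K, K ∈ R ↔ IsTw F K ∧ Nat.card K = k ∧ pick K = K := by simp [R]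
  let c := fun K => W / wt K * (T - mk L K)
  refine ⟨W • L + R.val.bind fun K => Multiset.replicate (c K) K, ?_,
    fun n => if n = k then W * T else W * v n, ?_⟩
  · intro H hH
    rcases Multiset.mem_add.mp hH with h | h
    · exact hLt H (Multiset.mem_of_mem_nsmul h)
    · obtain ⟨K, hK, hKH⟩ := Multiset.mem_bind.mp h
      rw [Multiset.eq_of_mem_replicate hKH]
      exact ((hR K).mp (Finset.mem_def.mpr hK)).1
  intro J hJ hJk
  have hm : mk (W • L + R.val.bind fun K => Multiset.replicate (c K) K) J =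
      W * mk L J + ∑ K ∈ R, c K * mark J ((↥S × ↥S) ⧸ K) := by
    simp only [BisetBuild.mk, Multiset.map_add, Multiset.sum_add, Multiset.map_nsmul, Multiset.sum_nsmul,
      Multiset.map_bind, Multiset.sum_bind, Multiset.map_replicate, Multiset.sum_replicate, smul_eq_mul]
    rfl
  have hcardmap : ∀ (K : Subgroup (↥S × ↥S)) g, Nat.card (K.map (MulAut.conj g).toMonoidHom) = Nat.card K :=
    fun K g => (Nat.card_congr (K.equivMapOfInjective (MulAut.conj g).toMonoidHom (MulAut.conj g).injective).toEquiv).symm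
  by_cases hk : Nat.card J = k
  · obtain ⟨g, hg⟩ := pick_spec J
    have hp : pick J ∈ R := (hR _).mpr ⟨hg ▸ (hJ.map_conj g).1, by rw [← hg, hcardmap, hk], pick_pick J⟩
    have hsum : ∑ K ∈ R, c K * mark J ((↥S × ↥S) ⧸ K) = c (pick J) * mark J ((↥S × ↥S) ⧸ pick J) := by
      refine Finset.sum_eq_single_of_mem _ hp fun K hK hne => ?_
      by_contra hne0
      obtain ⟨g', hg'⟩ := exists_conj_le (mul_ne_zero_iff.mp hne0).2
      have he : J.map (MulAut.conj g').toMonoidHom = K :=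
        Fusion.eq_of_le_of_card_le hg' (by rw [hcardmap, hk, ((hR K).mp hK).2.1])
      exact hne (by rw [← ((hR K).mp hK).2.2, ← he, pick_map_conj])
    have hmarkJ : mark J ((↥S × ↥S) ⧸ pick J) = wt (pick J) := by
      conv_rhs => rw [wt]; arg 1; rw [← hg]
      rw [mark_map_conj]
    have hmkJ : mk L (pick J) = mk L J := by rw [← hg, mk_map_conj]
    have hle : mk L J ≤ T := (Finset.single_le_sum (fun _ _ => Nat.zero_le _) (Finset.mem_univ J)).trans (Nat.le_succ _)
    simp only []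
    rw [hm, hsum, hmarkJ, if_pos hk]
    refine ⟨?_, Nat.mul_pos hW (Nat.succ_pos _)⟩
    simp only [c]
    rw [hmkJ, mul_right_comm, Nat.div_mul_cancel (hdvd _), ← Nat.mul_add, Nat.add_sub_cancel' hle]
  · have hlt : k < Nat.card J := by omega
    obtain ⟨h1, h2⟩ := hv J hJ hlt
    simp only []
    rw [hm, if_neg hk, h1, Finset.sum_eq_zero fun K hK => ?_, add_zero]
    · exact ⟨rfl, Nat.mul_pos hW h2⟩
    by_contra hne0
    obtain ⟨g', hg'⟩ := exists_conj_le (mul_ne_zero_iff.mp hne0).2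
    have := Nat.le_of_dvd Nat.card_pos (Subgroup.card_dvd_of_le hg')
    rw [hcardmap, ((hR K).mp hK).2.1] at this
    omega

theorem exists_goodU [Finite S] (j : ℕ) : ∃ L, GoodU F (Nat.card S - j) L := by
  induction j with
  | zero =>
    refine ⟨0, by simp, fun _ => 1, fun K hK h => absurd (Nat.le_of_dvd Nat.card_pos ?_) (not_le.mpr h)⟩
    rw [← hK.card_left]; exact Subgroup.card_dvd_of_le (left_le K)
  | succ j ih =>
    obtain ⟨L, hL⟩ := ih
    obtain ⟨L', hL'⟩ := goodU_step hL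
    exact ⟨L', by rwa [Nat.sub_add_eq]⟩

/-- Every fusion system on a finite subgroup is realized in a finite group. -/
theorem exists_realization [Finite S] (F : FusionSystem S) :
    ∃ (G : Type u) (_ : Group G) (_ : Finite G) (ι : ↥S →* G), F.IsRealizedBy ι := by
  classical
  obtain ⟨L, hLt, v, hv⟩ := exists_goodU (F := F) (Nat.card S)
  rw [Nat.sub_self] at hv
  obtain ⟨l, rfl⟩ : ∃ l : List (Subgroup (↥S × ↥S)), (l : Multiset (Subgroup (↥S × ↥S))) = L :=
    ⟨L.toList, L.coe_toList⟩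
  let X := Space l
  have hmark : ∀ K, IsTw F K → mark K X = v (Nat.card K) ∧ 0 < mark K X := fun K hK => by
    obtain ⟨h1, h2⟩ := hv K hK Nat.card_pos
    rw [mark_space]; exact ⟨h1, h1.symm ▸ h2⟩
  have hstab : ∀ x : X, IsTw F (stabilizer (↥S × ↥S) x) := fun x =>
    isTw_of_mk_ne_zero hLt (by
      rw [← mark_space]
      exact Nat.card_ne_zero.mpr ⟨⟨⟨x, fun k hk => hk⟩⟩, inferInstance⟩)
  have hnot : ∀ K, ¬ IsTw F K → mark K X = 0 := fun K hK => by
    rw [mark_space]; exact not_imp_comm.mp (isTw_of_mk_ne_zero hLt) hK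
  let G : Subgroup (Equiv.Perm X) :=
    { carrier := {e | ∀ (b : S) (x : X), e (((1, b) : ↥S × ↥S) • x) = ((1, b) : ↥S × ↥S) • e x}
      one_mem' := fun b x => rfl
      mul_mem' := fun {e f} he hf b x => by
        show e (f _) = _
        rw [hf, he]; rfl
      inv_mem' := fun {e} he b x => by
        show e.symm _ = _
        rw [Equiv.symm_apply_eq, he]
        show _ = _ • e (e.symm x)
        rw [Equiv.apply_symm_apply] }
  have hcomm : ∀ (s b : S) (x : X),
      ((s, 1) : ↥S × ↥S) • ((1, b) : ↥S × ↥S) • x = ((1, b) : ↥S × ↥S) • ((s, 1) : ↥S × ↥S) • x := by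
    intro s b x
    simp only [smul_smul, Prod.mk_mul_mk, one_mul, mul_one]
  let ι : ↥S →* G :=
    { toFun := fun s => ⟨MulAction.toPerm ((s, 1) : ↥S × ↥S), fun b x => hcomm s b x⟩
      map_one' := Subtype.ext (Equiv.ext fun x => (one_smul (↥S × ↥S) x :))
      map_mul' := fun s t => Subtype.ext (Equiv.ext fun x => by
        show ((s * t, 1) : ↥S × ↥S) • x = ((s, 1) : ↥S × ↥S) • ((t, 1) : ↥S × ↥S) • x
        rw [smul_smul, Prod.mk_mul_mk, one_mul]) }
  obtain ⟨y₀, hy₀⟩ : ∃ y : X, ∀ s : S, ((s, s) : ↥S × ↥S) • y = y := by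
    have h := (hmark _ (isTw_diag (F := F) (le_refl S))).2
    obtain ⟨⟨y, hy⟩⟩ := (Nat.card_pos_iff.mp h).1
    exact ⟨y, fun s => hy _ ⟨s, rfl, rfl⟩⟩
  have hinj : Function.Injective ι := by
    rw [injective_iff_map_eq_one]
    intro s hs
    have h1 : ((s, 1) : ↥S × ↥S) ∈ stabilizer (↥S × ↥S) y₀ :=
      congrArg (fun e : G => (e : Equiv.Perm X) y₀) hs
    obtain ⟨P, ψ, hψ, φ, hφ, he⟩ := hstab y₀
    obtain ⟨x, hx₁, hx₂⟩ := he.le h1
    have : x = 1 := F.injective_of_mem hφ (by rw [map_one]; exact hx₂.symm)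
    subst this
    exact Subtype.ext (hx₁.trans (map_one ψ))
  refine ⟨G, inferInstance, inferInstance, ι, hinj, fun P hP φ hφ => ⟨fun hm => ?_, ?_⟩⟩
  · have := finite_of_le hP
    let f₁ : ↥P × ↥S →* ↥S × ↥S := (Subgroup.inclusion hP).prodMap (MonoidHom.id S)
    let f₂ : ↥P × ↥S →* ↥S × ↥S := (φ.codRestrict S hφ).prodMap (MonoidHom.id S)
    let a₁ : MulAction (↥P × ↥S) X := MulAction.compHom X f₁
    let a₂ : MulAction (↥P × ↥S) X := MulAction.compHom X f₂
    have hi₁ : Function.Injective f₁ := fun a b e =>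
      Prod.ext (Subgroup.inclusion_injective hP (congrArg Prod.fst e)) (congrArg Prod.snd e :)
    have hi₂ : Function.Injective f₂ := fun a b e =>
      Prod.ext (F.injective_of_mem hm (congrArg (fun z : ↥S × ↥S => (z.1 : Ω)) e)) (congrArg Prod.snd e :)
    have hmk : ∀ K : Subgroup (↥P × ↥S), mark (K.map f₁) X = mark (K.map f₂) X := by
      intro K
      obtain ⟨h₁, h₂⟩ := isTw_transport hm (subtype_mem (F := F) (le_refl S)) (f := f₁) (g := f₂)
        (fun n => ⟨n.1.2, n.2.2, rfl, rfl⟩) K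
      by_cases hK : IsTw F (K.map f₁)
      · rw [(hmark _ hK).1, (hmark _ (h₁ hK).1).1,
          ← Nat.card_congr (K.equivMapOfInjective f₁ hi₁).toEquiv,
          ← Nat.card_congr (K.equivMapOfInjective f₂ hi₂).toEquiv]
      · rw [hnot _ hK, hnot _ fun h => hK (h₂ h)]
    have e : ∀ (f : ↥P × ↥S →* ↥S × ↥S) (K : Subgroup (↥P × ↥S)),
        @mark _ _ K X (MulAction.compHom X f) = mark (K.map f) X := fun f K =>
      Nat.card_congr ⟨fun x => ⟨x.1, by rintro _ ⟨k, hk, rfl⟩; exact x.2 k hk⟩,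
        fun x => ⟨x.1, fun k hk => x.2 _ ⟨k, hk, rfl⟩⟩, fun _ => rfl, fun _ => rfl⟩
    obtain ⟨E, hE⟩ := @exists_equiv_of_marks (↥P × ↥S) _ _ X X a₁ a₂ _ _ fun K => by
      rw [e, e, hmk]
    have hE' : ∀ (q : P) (b : S) (x : X),
        E (((⟨q, hP q.2⟩ : S), b) • x) = ((⟨φ q, hφ q⟩ : S), b) • E x := fun q b x => hE (q, b) x
    have hEG : E ∈ G := fun b x => by
      have := hE' 1 b x
      rw [show (⟨φ 1, hφ 1⟩ : S) = 1 from Subtype.ext (map_one φ),
        show (⟨((1 : P) : Ω), hP (1 : P).2⟩ : S) = 1 from rfl] at this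
      exact this
    refine ⟨⟨E, hEG⟩, fun q => Subtype.ext (Equiv.ext fun x => ?_)⟩
    show ((⟨φ q, hφ q⟩ : S), (1 : S)) • x = E (((⟨q, hP q.2⟩ : S), (1 : S)) • E.symm x)
    rw [hE', Equiv.apply_symm_apply]
  · rintro ⟨g, hg⟩
    have hg' : ∀ (q : P) (x : X), (g : Equiv.Perm X) (((⟨q, hP q.2⟩ : S), (1 : S)) • x)
        = ((⟨φ q, hφ q⟩ : S), (1 : S)) • (g : Equiv.Perm X) x := by
      intro q x
      have h1 : ι ⟨φ q, hφ q⟩ * g = g * ι ⟨q, hP q.2⟩ := by rw [hg q, inv_mul_cancel_right]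
      exact (congrArg (fun e : G => (e : Equiv.Perm X) x) h1).symm
    obtain ⟨χ, hχ, he⟩ := (hstab ((g : Equiv.Perm X) y₀)).exists_graph
    have hmem : ∀ q : P, ((⟨φ q, hφ q⟩ : S), (⟨q, hP q.2⟩ : S)) ∈
        stabilizer (↥S × ↥S) ((g : Equiv.Perm X) y₀) := by
      intro q
      have h2 := congrArg (fun x => (g : Equiv.Perm X) x) (hy₀ ⟨q, hP q.2⟩)
      show _ = _
      refine Eq.trans ?_ h2
      show _ = (g : Equiv.Perm X) _
      rw [show (((⟨q, hP q.2⟩ : S), (⟨q, hP q.2⟩ : S)) : ↥S × ↥S) • y₀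
        = ((1 : S), (⟨q, hP q.2⟩ : S)) • ((⟨q, hP q.2⟩ : S), (1 : S)) • y₀ by
          rw [smul_smul, Prod.mk_mul_mk, one_mul, mul_one], g.2, hg', smul_smul, Prod.mk_mul_mk, one_mul, mul_one]
    obtain ⟨ψ, hψ, hψr, hψi, -⟩ := exists_inv hχ (rfl : χ.range = χ.range)
    have hval : ∀ q : P, ∃ z, χ z = (q : Ω) ∧ (z : Ω) = φ q := fun q => by
      obtain ⟨z, hz₁, hz₂⟩ := he.le (hmem q)
      exact ⟨z, hz₂.symm, hz₁.symm⟩
    have hPr : P ≤ χ.range := fun q hq => by
      obtain ⟨z, hz, -⟩ := hval ⟨q, hq⟩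
      exact ⟨z, hz⟩
    refine restrict_of hPr hψ fun q => ?_
    obtain ⟨z, hz₁, hz₂⟩ := hval q
    rw [← hz₂, ← hψi z ⟨z, rfl⟩]
    exact apply_eq_of_coe_eq hz₁

end CfsgLib.FusionNormal
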