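import Cfsg.Agent.Lib.FusionNormal.PAutAt
import Cfsg.Agent.Lib.FusionNormal.Alperin
import Cfsg.Agent.Lib.Fusion.Alperin
import Cfsg.Agent.Lib.Fusion.ExtSaturated
import Cfsg.Agent.Lib.PCore.Basic

/-!
# `p`-stability of a fusion system is local
-/

set_option autoImplicit false
set_option linter.style.haveILetI false

namespace CfsgLib.FusionNormal.Stable

open Cfsg Cfsg.FusionSystem CfsgLib.Fusion

variable {Ω : Type*} [Group Ω] {S : Subgroup Ω} {F : FusionSystem S} {P Q R U : Subgroup Ω} {p : ℕ}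

/-- The automorphisms in `O_p` of the automizer. -/
def coreAut (F : FusionSystem S) (p : ℕ) (Q : Subgroup Ω) : Subgroup (MulAut Q) :=
  (pCore p (F.autGroup Q)).map (F.autGroup Q).subtype

/-- Quadratic action of an automorphism. -/
def Quad (χ : MulAut Q) : Prop := ∀ a : Q, (χ a⁻¹) * a * (χ a⁻¹) * (χ (χ a)) = 1

theorem Quad.congr (e : P ≃* Q) {χ : MulAut P} (h : Quad χ) : Quad (MulAut.congr e χ) := by
  intro a
  obtain ⟨b, rfl⟩ := e.surjective a
  have h1 := congrArg e (h b)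
  simp only [map_mul, map_one] at h1
  simpa [MulAut.congr, map_inv] using h1

theorem finite_autGroup [Finite S] (hP : P ≤ S) : Finite (F.autGroup P) := by
  have := finite_mulAut hP
  infer_instance

theorem coreAut_congr [Finite S] {φ : P →* Ω} (hφ : φ ∈ F.Hom P) {e : P ≃* Q}
    (he : ∀ x : P, ((e x : Q) : Ω) = φ x) :
    (coreAut F p P).map (MulAut.congr e).toMonoidHom = coreAut F p Q := by
  have := finite_autGroup (F := F) (le_S hφ)
  have hm := map_autGroup hφ he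
  let ε : F.autGroup P ≃* F.autGroup Q :=
    ((MulAut.congr e).subgroupMap (F.autGroup P)).trans (MulEquiv.subgroupCongr hm)
  have hε : (MulAut.congr e).toMonoidHom.comp (F.autGroup P).subtype =
      (F.autGroup Q).subtype.comp ε.toMonoidHom := MonoidHom.ext fun _ => rfl
  rw [coreAut, coreAut, ← PCore.map_pCore_equiv ε, Subgroup.map_map, Subgroup.map_map, hε]

theorem mem_coreAut_of_le {A B : Subgroup (MulAut Q)} [Finite B] [Fact p.Prime] (hAB : A ≤ B)
    {χ : MulAut Q} (hA : χ ∈ A) (h : χ ∈ (pCore p B).map B.subtype) :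
    χ ∈ (pCore p A).map A.subtype := by
  obtain ⟨c, hc, rfl⟩ := h
  refine ⟨⟨c, hA⟩, PCore.le_pCore ((pCore_normal p B).comap (Subgroup.inclusion hAB))
    (PCore.pCore_isPGroup.comap_of_injective _ (Subgroup.inclusion_injective hAB)) ?_, rfl⟩
  exact hc

/-- Stability of all subgroups follows from that of the fully normalized ones. -/
theorem stable_all [Finite S]
    (h : ∀ Q, F.IsFullyNormalized Q → ∀ χ : MulAut Q, χ ∈ F.autGroup Q → Quad χ →
      χ ∈ coreAut F p Q) (hQ : Q ≤ S) {χ : MulAut Q} (hχ : χ ∈ F.autGroup Q) (hq : Quad χ) :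
    χ ∈ coreAut F p Q := by
  obtain ⟨Q', ⟨φ, hφ, hr⟩, hn⟩ := exists_fullyNormalized (F := F) hQ
  obtain ⟨e, he⟩ := exists_equiv hφ hr
  have h1 := h Q' hn _ (autGroup_congr_mem hφ he hχ) (hq.congr e)
  rw [← coreAut_congr hφ he] at h1
  exact (Subgroup.mem_map_iff_mem (f := (MulAut.congr e).toMonoidHom) (MulAut.congr e).injective).mp h1

/-- `R` is reached from `Q`: every automorphism of `Q` extends to one of `R`. -/
def Good (F : FusionSystem S) (Q R : Subgroup Ω) : Prop :=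
  Q ≤ R ∧ F.IsCentric R ∧ ∀ f : Ω → Ω, MapFn F Q f → f '' Q = (Q : Set Ω) →
    ∃ g, MapFn F R g ∧ g '' R = (R : Set Ω) ∧ ∀ x ∈ Q, g x = f x

variable [Finite S] [Fact p.Prime]

theorem good_base (hS : IsPGroup p S) (hF : F.IsSaturated p) (hQ : F.IsFullyNormalized Q) :
    Good F Q (Q ⊔ centralizerIn S Q) := by
  have hfc := fullyCentralized_of_receptive (fullyNormalized_good hS hF hQ).2
  have hle : Q ⊔ centralizerIn S Q ≤ S := sup_le hQ.1 centralizerIn_le
  refine ⟨le_sup_left, ⟨hle, fun X hX => ?_⟩, fun f hf hfQ => ?_⟩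
  · obtain ⟨k, hk, hkX⟩ := isConj_iff.mp hX
    obtain ⟨Q₁, hQ₁S, hQ₁⟩ := (hk.mono (le_sup_left : Q ≤ _)).exists_image
    obtain ⟨C₁, -, hC₁⟩ := (hk.mono (le_sup_right : centralizerIn S Q ≤ _)).exists_image
    have : Finite (centralizerIn S Q₁) := finite_of_le centralizerIn_le
    obtain rfl : C₁ = centralizerIn S Q₁ := Fusion.eq_of_le_of_card_le (fun y hy => by
      obtain ⟨x, hx, rfl⟩ := exists_of_image hC₁ hy
      exact hk.mem_centralizerIn le_sup_left hQ₁ (Subgroup.mem_sup_right hx) hx) (by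
      rw [MapFn.card_image (hk.mono le_sup_right) hC₁]
      exact hfc.2 Q₁ (MapFn.isConj (hk.mono le_sup_left) hQ₁))
    intro z hz
    have hz' : z ∈ centralizerIn S Q₁ := Fusion.mem_centralizerIn.mpr ⟨hz.1, fun y hy => by
      obtain ⟨x, hx, rfl⟩ := exists_of_image hQ₁ hy
      exact (Fusion.mem_centralizerIn.mp hz).2 _ (mem_of_image hkX (Subgroup.mem_sup_left hx))⟩
    obtain ⟨x, hx, rfl⟩ := exists_of_image hC₁ hz'
    exact mem_of_image hkX (Subgroup.mem_sup_right hx)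
  · obtain ⟨g, hg, hge⟩ := MapFn.extend_centralizer hS hF hfc hf hfQ
    have hgQ : g '' Q = (Q : Set Ω) := (Set.image_congr hge).trans hfQ
    refine ⟨g, hg, hg.image_eq_of_maps hle (hg.maps_sup
      (fun x hx => Subgroup.mem_sup_left (mem_of_image hgQ hx))
      fun x hx => Subgroup.mem_sup_right
        (hg.mem_centralizerIn le_sup_left hgQ (Subgroup.mem_sup_right hx) hx)) le_rfl, hge⟩

theorem good_transport (h : Good F Q U) {k : Ω → Ω} (hk : MapFn F U k) (hkU : k '' U = (R : Set Ω)) :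
    ∃ Q' : Subgroup Ω, F.IsConj Q Q' ∧ Good F Q' R := by
  obtain ⟨hQU, hUc, hext⟩ := h
  obtain ⟨Q', -, hQ'⟩ := (hk.mono hQU).exists_image
  obtain ⟨ki, hki, hkiU, hki₁, hki₂⟩ := hk.exists_inv hkU
  have hQ'R : Q' ≤ R := fun y hy => by
    obtain ⟨x, hx, rfl⟩ := exists_of_image hQ' hy
    exact mem_of_image hkU (hQU hx)
  have hkiQ : ki '' Q' = (Q : Set Ω) := by
    rw [← hQ', ← Set.image_comp]
    calc (ki ∘ k) '' Q = id '' Q := Set.image_congr fun x hx => hki₁ x (hQU hx)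
      _ = _ := Set.image_id _
  refine ⟨Q', MapFn.isConj (hk.mono hQU) hQ', hQ'R,
    ⟨(hki.le_S : R ≤ S), fun X hX => hUc.2 X (isConj_trans (MapFn.isConj hk hkU) hX)⟩,
    fun f hf hfQ => ?_⟩
  have hf₁ : MapFn F Q ((ki ∘ f) ∘ k) :=
    (hk.mono hQU).comp (hf.comp (hki.mono hQ'R) fun y hy => mem_of_image hfQ hy)
      fun x hx => mem_of_image hQ' hx
  have hf₁Q : ((ki ∘ f) ∘ k) '' Q = (Q : Set Ω) := by
    rw [Set.image_comp (ki ∘ f), hQ', Set.image_comp ki, hfQ, hkiQ]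
  obtain ⟨g, hg, hgU, hge⟩ := hext _ hf₁ hf₁Q
  refine ⟨(k ∘ g) ∘ ki, hki.comp (hg.comp hk fun y hy => mem_of_image hgU hy)
    fun x hx => mem_of_image hkiU hx, ?_, fun y hy => ?_⟩
  · rw [Set.image_comp (k ∘ g), hkiU, Set.image_comp k, hgU, hkU]
  · show k (g (ki y)) = f y
    rw [hge _ (mem_of_image hkiQ hy)]
    show k (ki (f (k (ki y)))) = f y
    rw [hki₂ y (hQ'R hy), hki₂ _ (hQ'R (mem_of_image hfQ hy))]

theorem good_step (hS : IsPGroup p S) (hF : F.IsSaturated p) (hR : F.IsFullyNormalized R)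
    (h : Good F Q R) (hr : ¬ F.IsRadical p R) : ∃ U, R < U ∧ Good F Q U := by
  obtain ⟨hQR, hRc, hext⟩ := h
  have hRS := hR.1
  obtain ⟨hRa, hRr⟩ := fullyNormalized_good hS hF hR
  obtain ⟨-, T, hT⟩ := hRa
  have := finite_autGroup (F := F) hRS
  set O := coreAut F p R with hO
  have hOS : O ≤ autInducedBy S R := by
    rintro _ ⟨a, ha, rfl⟩
    have h1 := PCore.pCore_le_sylow T ha
    rw [hT] at h1
    exact h1
  have hinn : Inn R ≤ O := fun α hα => by
    refine ⟨⟨α, inn_le_autGroup hRS hα⟩, PCore.le_pCore ((normal_inn_subgroupOf F R)) ?_ ?_, rfl⟩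
    · exact ((isPGroup_autInducedBy hS R).to_le (inn_le_autInducedBy hRS)).comap_subtype
    · exact hα
  have hne : O ≠ Inn R := fun e => hr ⟨hRS, e⟩
  obtain ⟨α, hαO, hαi⟩ := SetLike.exists_of_lt (lt_of_le_of_ne hinn (Ne.symm hne))
  set U := ((O.comap R.normalizerMonoidHom).map
    (Subgroup.normalizer (R : Set Ω)).subtype) ⊓ S with hU
  have hmemU : ∀ g : Ω, g ∈ U ↔ g ∈ S ∧
      ∃ β ∈ O, ∀ x : R, ((β x : R) : Ω) = g * x * g⁻¹ := by
    intro g
    constructor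
    · rintro ⟨⟨n, hn, rfl⟩, hgS⟩
      exact ⟨hgS, _, hn, fun x => rfl⟩
    · rintro ⟨hgS, β, hβ, hβe⟩
      have hgn := mem_normalizer_of_aut hβe
      refine ⟨⟨⟨g, hgn⟩, ?_, rfl⟩, hgS⟩
      show R.normalizerMonoidHom ⟨g, hgn⟩ ∈ O
      convert hβ using 1
      exact MulEquiv.ext fun x => Subtype.ext (hβe x).symm
  have hUS : U ≤ S := inf_le_right
  have hRU : R ≤ U := fun g hg => (hmemU g).mpr
    ⟨hRS hg, MulAut.conj ⟨g, hg⟩, hinn ⟨_, rfl⟩, fun x => rfl⟩
  have hUN : U ≤ normalizerIn S R := fun g hg => by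
    obtain ⟨hgS, β, -, hβe⟩ := (hmemU g).mp hg
    exact ⟨hgS, mem_normalizer_of_aut hβe⟩
  obtain ⟨g₀, hg₀, hg₀e⟩ := mem_autInducedBy.mp (hOS hαO)
  have hlt : R < U := lt_of_le_of_ne hRU fun e => by
    have : g₀ ∈ R := e.ge ((hmemU g₀).mpr ⟨hg₀, α, hαO, hg₀e⟩)
    exact hαi (inn_eq_autInducedBy (P := R) ▸ mem_autInducedBy.mpr ⟨g₀, this, hg₀e⟩)
  refine ⟨U, hlt, hQR.trans hRU, IsCentric.of_le hRc hRU hUS, fun f hf hfQ => ?_⟩
  obtain ⟨g, hg, hgR, hge⟩ := hext f hf hfQ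
  obtain ⟨γ, hγ, hγe⟩ := hg.exists_aut hgR
  have hconj : ∀ u ∈ U, ∃ β ∈ O, ∀ x : R, g ((x : Ω)) ∈ R ∧
      g (u * x * u⁻¹) = ((β (γ x) : R) : Ω) := by
    intro u hu
    obtain ⟨-, β, hβ, hβe⟩ := (hmemU u).mp hu
    obtain ⟨b, hb, rfl⟩ := hβ
    refine ⟨_, ⟨⟨γ, hγ⟩ * b * ⟨γ, hγ⟩⁻¹, (pCore_normal p _).conj_mem b hb _, rfl⟩, fun x =>
      ⟨mem_of_image hgR x.2, ?_⟩⟩
    rw [← hβe x, ← hγe]
    simp
  obtain ⟨g', hg', hg'e⟩ := MapFn.exists_extension hRr hg hgR hRU hUN fun u hu => by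
    obtain ⟨β, hβ, hβe⟩ := hconj u hu
    obtain ⟨s, hs, hse⟩ := mem_autInducedBy.mp (hOS hβ)
    exact ⟨s, hs, fun x hx => by rw [(hβe ⟨x, hx⟩).2, hse, hγe]⟩
  have hg'R : g' '' R = (R : Set Ω) := (Set.image_congr hg'e).trans hgR
  refine ⟨g', hg', hg'.image_eq_of_maps hUS (fun u hu => ?_) le_rfl, fun x hx =>
    (hg'e x (hQR hx)).trans (hge x hx)⟩
  obtain ⟨β, hβ, hβe⟩ := hconj u hu
  refine (hmemU _).mpr ⟨hg'.mem_S hu, β, hβ, fun y => ?_⟩
  obtain ⟨x, rfl⟩ := γ.surjective y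
  have hxu : u * (x : Ω) * u⁻¹ ∈ R := conj_mem_of_normalizer (hUN hu).2 x.2
  rw [← (hβe x).2, hγe, ← hg'e _ hxu, hg'.map_conj hu (hRU x.2), hg'e _ x.2]

/-- Every subgroup is conjugate to one whose automorphisms extend to a centric radical subgroup. -/
theorem exists_radical (hS : IsPGroup p S) (hF : F.IsSaturated p) (hQ : Q ≤ S) :
    ∃ Q' R : Subgroup Ω, F.IsConj Q Q' ∧ Good F Q' R ∧ F.IsFullyNormalized R ∧
      F.IsRadical p R := by
  have key : ∀ (m : ℕ) (Q' U : Subgroup Ω), Nat.card S - Nat.card U = m → F.IsConj Q Q' →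
      Good F Q' U → ∃ Q' R : Subgroup Ω, F.IsConj Q Q' ∧ Good F Q' R ∧ F.IsFullyNormalized R ∧
        F.IsRadical p R := by
    intro m
    induction m using Nat.strong_induction_on with
    | _ m ih =>
    intro Q' U hm hc hG
    obtain ⟨R, k, hRn, hk, hkU, -⟩ := exists_fullyNormalized_mapFn hS hF hG.2.1.1
    have hk' := hk.mono (le_normalizerIn hG.2.1.1)
    obtain ⟨Q'', hc', hG'⟩ := good_transport hG hk' hkU
    by_cases hr : F.IsRadical p R
    · exact ⟨Q'', R, isConj_trans hc hc', hG', hRn, hr⟩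
    obtain ⟨V, hlt, hV⟩ := good_step hS hF hRn hG' hr
    have hcR : Nat.card R = Nat.card U := MapFn.card_image hk' hkU
    have hcV : Nat.card R < Nat.card V := card_lt_card hV.2.1.1 hlt
    have hle : Nat.card V ≤ Nat.card S := card_le_card_S hV.2.1.1
    exact ih _ (by omega) Q'' V rfl (isConj_trans hc hc') hV
  obtain ⟨Q', hc, hn⟩ := exists_fullyNormalized (F := F) hQ
  exact key _ Q' _ rfl hc (good_base hS hF hn)

theorem normalizerSystem_le {E : FusionSystem (normalizerIn S R)}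
    (hE : F.IsNormalizerSystem R E) : E.IsSubsystemOf F := fun P φ hφ => by
  rw [hE] at hφ; exact hφ.1

/-- The two directions. -/
theorem coreAut_normalizerSystem {E : FusionSystem (normalizerIn S R)}
    (hE : F.IsNormalizerSystem R E) (hQ : Q ≤ normalizerIn S R) {χ : MulAut Q}
    (hχ : χ ∈ E.autGroup Q) (h : χ ∈ coreAut F p Q) : χ ∈ coreAut E p Q := by
  have := finite_autGroup (F := F) (hQ.trans normalizerIn_le)
  refine mem_coreAut_of_le (fun α hα => ?_) hχ h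
  exact (mem_autGroup (hQ.trans normalizerIn_le)).mpr
    (normalizerSystem_le hE Q ((mem_autGroup hQ).mp hα))

theorem stable_of_normalizers (hS : IsPGroup p S) (hF : F.IsSaturated p)
    (h : ∀ R : Subgroup Ω, F.IsFullyNormalized R → F.IsCentric R → F.IsRadical p R →
      ∀ N : FusionSystem (normalizerIn S R), F.IsNormalizerSystem R N →
        ∀ Q : Subgroup Ω, N.IsFullyNormalized Q → ∀ χ : MulAut Q, χ ∈ N.autGroup Q → Quad χ →
          χ ∈ coreAut N p Q)
    (hQ : Q ≤ S) {χ : MulAut Q} (hχ : χ ∈ F.autGroup Q) (hq : Quad χ) : χ ∈ coreAut F p Q := by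
  obtain ⟨Q', R, ⟨φ, hφ, hr⟩, ⟨hQR, hRc, hext⟩, hRn, hRr⟩ := exists_radical hS hF hQ
  set E := extSystem F hRn.1 ⊤ (normalizerIn S R) isKNormalizer_top
  have hE : F.IsNormalizerSystem R E := fun P => extHom_top F R P
  have : Finite (normalizerIn S R) := finite_of_le normalizerIn_le
  have hRN : R ≤ normalizerIn S R := le_normalizerIn hRn.1
  have hQN : Q' ≤ normalizerIn S R := hQR.trans hRN
  have heq : E.autGroup Q' = F.autGroup Q' := by
    refine le_antisymm (fun α hα => (mem_autGroup (hQR.trans hRn.1)).mpr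
      (normalizerSystem_le hE Q' ((mem_autGroup hQN).mp hα))) fun α hα => ?_
    obtain ⟨f, hf, hfQ, hfe⟩ := exists_mapFn_of_aut (hQR.trans hRn.1) hα
    obtain ⟨g, hg, hgR, hge⟩ := hext f hf hfQ
    have hgQ : MapFn E Q' g := mapFn_normalizer hE (by rwa [sup_eq_right.mpr hQR]) hQN hgR
      fun x hx => hRN (mem_of_image hgR (hQR hx))
    exact (mem_autGroup_iff_mapFn hQN).mpr ⟨g, hgQ, fun x => (hge x x.2).trans (hfe x)⟩
  obtain ⟨e, he⟩ := exists_equiv hφ hr
  have h1 := stable_all (h R hRn hRc hRr E hE) hQN (χ := MulAut.congr e χ)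
    (heq.ge (autGroup_congr_mem hφ he hχ)) (hq.congr e)
  rw [coreAut, heq, ← coreAut, ← coreAut_congr hφ he] at h1
  exact (Subgroup.mem_map_iff_mem (f := (MulAut.congr e).toMonoidHom) (MulAut.congr e).injective).mp h1

end CfsgLib.FusionNormal.Stable
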