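import Cfsg.Agent.Lib.FusionNormal.RankTwoTorus
import Cfsg.Agent.Lib.FusionNormal.Stable
import Cfsg.Agent.Lib.FusionNormal.SmallChar
import Cfsg.Agent.Lib.Fusion.EssentialRankTwo
import Cfsg.Agent.Lib.PGroup.Class2

/-!
# Radical subgroups of `p`-groups of rank two, `p ≥ 5`
-/

set_option autoImplicit false
set_option linter.style.haveILetI false

namespace CfsgLib.FusionNormal.RankTwo

open Cfsg Cfsg.FusionSystem CfsgLib.Fusion
open CfsgLib.FusionSmall (pow_val_mul)
open scoped commutatorElement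

/-- What is used of a group of rank two. -/
structure Bounds (p : ℕ) (G : Type*) [Group G] : Prop where
  mul : ∀ x y : G, x ^ p = 1 → y ^ p = 1 → (x * y) ^ p = 1
  exp : ∀ H : Subgroup G, (∀ x ∈ H, x ^ p = 1) → Nat.card H ≤ p ^ 3
  abel : ∀ H : Subgroup G, IsElementaryAbelian p H → Nat.card H ≤ p ^ 2

theorem Bounds.of_injective {p : ℕ} {G H : Type*} [Group G] [Group H] (f : H →* G)
    (hf : Function.Injective f) (h : Bounds p G) : Bounds p H where
  mul x y hx hy := hf (by
    rw [map_pow, map_mul, map_one]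
    exact h.mul _ _ (by rw [← map_pow, hx, map_one]) (by rw [← map_pow, hy, map_one]))
  exp K hK := by
    rw [Nat.card_congr (K.equivMapOfInjective f hf).toEquiv]
    refine h.exp _ ?_
    rintro _ ⟨x, hx, rfl⟩
    rw [← map_pow, hK x hx, map_one]
  abel K hK := by
    rw [Nat.card_congr (K.equivMapOfInjective f hf).toEquiv]
    refine h.abel _ ⟨⟨⟨?_⟩⟩, ?_⟩
    · rintro ⟨_, a, ha, rfl⟩ ⟨_, b, hb, rfl⟩
      exact Subtype.ext (by
        show f a * f b = f b * f a
        rw [← map_mul, ← map_mul]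
        exact congrArg f (congrArg Subtype.val (hK.1.is_comm.comm (⟨a, ha⟩ : K) ⟨b, hb⟩)))
    · rintro _ ⟨x, hx, rfl⟩
      rw [← map_pow, hK.2 x hx, map_one]

/-- The elements of order dividing `p`. -/
def omega {p : ℕ} {G : Type*} [Group G] (h : Bounds p G) : Subgroup G where
  carrier := {x | x ^ p = 1}
  one_mem' := one_pow p
  mul_mem' := fun {x y} hx hy => h.mul x y hx hy
  inv_mem' := fun {x} hx => by
    show x⁻¹ ^ p = 1
    rw [inv_pow, show x ^ p = 1 from hx, inv_one]

section Pure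

variable {G : Type*} [Group G] [Finite G] {p : ℕ} [Fact p.Prime]

theorem isSmall_odd (hp : p ≠ 2) {x : G} (h : IsSmall p x) : x ^ p = 1 :=
  h.resolve_right fun h => hp h.1

/-- No automorphism of order prime to `p` moves a fixed coset outside `Omega_1`. -/
theorem false_of_fixed (hp : p ≠ 2) (hG : IsPGroup p G) (hb : Bounds p G) (X : Subgroup G)
    (hX : ∀ x ∈ X, x ^ p = 1) (hXc : Nat.card X = p ^ 3) {τ : MulAut G}
    (hτ : (orderOf τ).Coprime p) (m : ℕ) (hfix : ∀ x ∈ X, (τ ^ m) x = x → τ x = x) {Q : Subgroup G}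
    (hQ : ∀ q ∈ Q, τ q ∈ Q) {g : G} (hσg : g⁻¹ * (τ ^ m) g ∈ Q)
    (hmove : ∀ y, g⁻¹ * y ∈ Q → τ y ≠ y) : False := by
  have hXeq : X = omega hb := Subgroup.eq_of_le_of_card_ge (fun x hx => hX x hx)
    (hXc ▸ hb.exp _ fun x hx => hx)
  set σ := τ ^ m with hσ
  have hQσ : ∀ n : ℕ, ∀ q ∈ Q, (τ ^ n) q ∈ Q := by
    intro n
    induction n with
    | zero => exact fun q hq => hq
    | succ n ih => exact fun q hq => by rw [pow_succ', MulAut.mul_apply]; exact hQ _ (ih q hq)
  obtain ⟨y, hy, hyσ⟩ := exists_fixed_mem_coset hG (σ := σ)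
    (Nat.Coprime.coprime_dvd_left (orderOf_pow_dvd m) hτ) Q (hQσ m) hσg
  let C : Subgroup G := MonoidHom.eqLocus σ.toMonoidHom (MonoidHom.id G)
  have hCinv : ∀ x ∈ C, τ x ∈ C := fun x hx => by
    show σ (τ x) = τ x
    rw [← MulAut.mul_apply, (Commute.pow_self τ m).eq, MulAut.mul_apply, show σ x = x from hx]
  refine hmove y hy (fix_of_fix_small τ hτ C (hG.to_subgroup C) hCinv (fun x hx hxs => ?_) y hyσ)
  exact hfix x (hXeq.ge (isSmall_odd hp hxs : x ∈ omega hb)) hx

omit [Fact p.Prime] in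
theorem inverts {σ : MulAut G} (hσ : σ * σ = 1) (hfpf : ∀ x : G, σ x = x → x = 1) (x : G) :
    σ x = x⁻¹ := by
  have hinj : Function.Injective fun z : G => z⁻¹ * σ z := by
    intro a b hab
    have h1 : σ (b * a⁻¹) = b * a⁻¹ := by
      rw [map_mul, map_inv]
      have hab' : a⁻¹ * σ a = b⁻¹ * σ b := hab
      calc σ b * (σ a)⁻¹ = b * (b⁻¹ * σ b) * (a⁻¹ * σ a)⁻¹ * a⁻¹ := by group
        _ = b * a⁻¹ := by rw [hab']; group
    exact (mul_inv_eq_one.mp (hfpf _ h1)).symm
  obtain ⟨z, rfl⟩ := (Finite.injective_iff_surjective.mp hinj) x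
  show σ (z⁻¹ * σ z) = (z⁻¹ * σ z)⁻¹
  rw [map_mul, map_inv, ← MulAut.mul_apply, hσ, mul_inv_rev, inv_inv]
  rfl

/-- An automorphism of order prime to `p` whose square fixes and which itself inverts `Omega_1`
inverts the group. -/
theorem inverts_of_small (hp : p ≠ 2) (hG : IsPGroup p G) {σ : MulAut G} (hσ : (orderOf σ).Coprime p)
    (h : ∀ x : G, x ^ p = 1 → σ x = x⁻¹) (x : G) : σ x = x⁻¹ := by
  have hsq : σ * σ = 1 := by
    refine MulEquiv.ext fun y => ?_
    have hco : (orderOf (σ ^ 2)).Coprime p := Nat.Coprime.coprime_dvd_left (orderOf_pow_dvd 2) hσ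
    have := fix_of_fix_small (σ ^ 2) hco ⊤ (hG.to_subgroup ⊤) (fun _ _ => Subgroup.mem_top _)
      (fun z _ hz => by
        rw [pow_two, MulAut.mul_apply, h z (isSmall_odd hp hz), map_inv, h z (isSmall_odd hp hz), inv_inv])
      y (Subgroup.mem_top y)
    rw [pow_two] at this
    exact this
  refine inverts hsq (fun y hy => ?_) x
  by_contra hy1
  obtain ⟨k, hk⟩ := IsPGroup.iff_orderOf.mp hG y
  have hk0 : k ≠ 0 := fun e => hy1 (orderOf_eq_one_iff.mp (by rw [hk, e, pow_zero]))
  set w := y ^ p ^ (k - 1) with hw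
  have hwp : w ^ p = 1 := by
    rw [hw, ← pow_mul, ← pow_succ, show k - 1 + 1 = k by omega, ← hk, pow_orderOf_eq_one]
  have hw1 : w ≠ 1 := fun e => by
    have := orderOf_dvd_of_pow_eq_one e
    rw [hk, Nat.pow_dvd_pow_iff_le_right (Fact.out : p.Prime).one_lt] at this
    omega
  have h1 : σ w = w := by rw [hw, map_pow, hy]
  rw [h w hwp, inv_eq_iff_mul_eq_one] at h1
  have h2 : w ^ 2 = 1 := by rw [pow_two]; exact h1
  exact hw1 (orderOf_eq_one_iff.mp (Nat.eq_one_of_dvd_coprimes
    ((Nat.coprime_primes (Fact.out : p.Prime) Nat.prime_two).mpr hp)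
    (orderOf_dvd_of_pow_eq_one hwp) (orderOf_dvd_of_pow_eq_one h2)))

end Pure

section Fusion

variable {Ω : Type*} [Group Ω] {S : Subgroup Ω} {F : FusionSystem S} {p : ℕ} {Q : Subgroup Ω}

/-- The data found at a radical subgroup: it is elementary abelian of order `p ^ 2`, its normalizer
is of exponent `p` and order `p ^ 3`, with an automorphism diagonal on it. -/
structure Pearl (F : FusionSystem S) (p : ℕ) (Q : Subgroup Ω) : Prop where
  card : Nat.card Q = p ^ 2
  card_normalizer : Nat.card (normalizerIn S Q) = p ^ 3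
  exp_normalizer : ∀ x ∈ normalizerIn S Q, x ^ p = 1
  torus : ∀ a : ZMod p, a ≠ 0 → (∀ b : ZMod p, b ≠ 0 → ∃ k : ℕ, a ^ k = b) →
    ∃ (τ : MulAut (normalizerIn S Q)) (z e : normalizerIn S Q), τ ∈ F.autGroup (normalizerIn S Q) ∧
      (orderOf τ).Coprime p ∧ (∀ x : normalizerIn S Q, (x : Ω) ∈ Q → ((τ x : normalizerIn S Q) : Ω) ∈ Q) ∧
      (z : Ω) ∈ Q ∧ z ≠ 1 ∧ (∀ g : normalizerIn S Q, g * z = z * g) ∧
      (e : Ω) ∈ Q ∧ e ∉ Subgroup.zpowers z ∧ τ z = z ^ a.val ∧ τ e = e ^ (a⁻¹).val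

variable [Finite S] [Fact p.Prime]

theorem pearl_of_radical (hp : 5 ≤ p) (hS : IsPGroup p S) (hF : F.IsSaturated p) (hb : Bounds p S)
    (hn : F.IsFullyNormalized Q) (hc : F.IsCentric Q) (hr : F.IsRadical p Q) (hne : Q ≠ S) :
    Pearl F p Q := by
  classical
  have hp2 : p ≠ 2 := by omega
  have hQS := hn.1
  have := finite_of_le hQS
  have := finite_mulAut hQS
  have hQp := hS.to_le hQS
  obtain ⟨hFA, hrec⟩ := fullyNormalized_good hS hF hn
  have hbQ : Bounds p Q := hb.of_injective (Subgroup.inclusion hQS) (Subgroup.inclusion_injective hQS)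
  set X := omega hbQ with hX
  have hXexp : ∀ x ∈ X, x ^ p = 1 := fun x hx => hx
  have hXinv : ∀ (e : MulAut Q), X.map e.toMonoidHom = X := fun e => by
    ext x
    constructor
    · rintro ⟨y, hy, rfl⟩
      show (e y) ^ p = 1
      rw [← map_pow, hXexp y hy, map_one]
    · intro hx
      exact ⟨e.symm x, show (e.symm x) ^ p = 1 by rw [← map_pow, hXexp x hx, map_one], by simp⟩
  -- the commutator subgroup of `X`
  set Zc := commutator X with hZc
  have hXc3 : Nat.card X ≤ p ^ 3 := hbQ.exp _ hXexp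
  have hXp : IsPGroup p X := hQp.to_subgroup X
  have hcases : (IsMulCommutative X ∧ Zc = ⊥ ∧ Nat.card X ≤ p ^ 2) ∨
      (Zc = Subgroup.center X ∧ Nat.card Zc = p ∧ Nat.card X = p ^ 3) := by
    by_cases hab : IsMulCommutative X
    · refine Or.inl ⟨hab, (commutator_eq_bot_iff_center_eq_top X).mpr (eq_top_iff.mpr fun x _ =>
        Subgroup.mem_center_iff.mpr fun y => hab.is_comm.comm y x), hbQ.abel X ⟨hab, hXexp⟩⟩
    right
    obtain ⟨k, hk⟩ := IsPGroup.iff_card.mp hXp
    have hk3 : k ≤ 3 := (Nat.pow_le_pow_iff_right (Fact.out : p.Prime).one_lt).mp (hk ▸ hXc3)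
    have hk3' : k = 3 := by
      by_contra h
      refine hab ⟨⟨fun x y => ?_⟩⟩
      interval_cases k
      · exact (Nat.card_eq_one_iff_unique.mp (hk.trans (pow_zero p))).1.elim _ _
      · haveI := isCyclic_of_prime_card (hk.trans (pow_one p))
        exact (IsCyclic.commGroup (α := X)).mul_comm x y
      · exact IsPGroup.commutative_of_card_eq_prime_sq hk x y
      · exact (h rfl).elim
    subst hk3'
    have hnc : ¬ IsCyclic (X ⧸ Subgroup.center X) := fun hcy => hab ⟨⟨fun x y =>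
      commutative_of_cyclic_center_quotient (QuotientGroup.mk' (Subgroup.center X)) (by simp) x y⟩⟩
    have hne' : Nat.card (X ⧸ Subgroup.center X) ∣ p ^ 3 := hk ▸ Subgroup.card_quotient_dvd_card _
    haveI : Nontrivial X := Finite.one_lt_card_iff_nontrivial.mp
      (hk ▸ Nat.one_lt_pow (by norm_num) (Fact.out : p.Prime).one_lt)
    have hZne : Nat.card (Subgroup.center X) ≠ 1 := fun h => by
      have := hXp.center_nontrivial
      have := Finite.one_lt_card_iff_nontrivial.mpr this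
      omega
    have hmul := Subgroup.card_eq_card_quotient_mul_card_subgroup (Subgroup.center X)
    rw [hk] at hmul
    obtain ⟨i, hi, hi'⟩ := (Nat.dvd_prime_pow (Fact.out : p.Prime)).mp hne'
    have hi2 : i = 2 := by
      interval_cases i
      · exact absurd (by rw [pow_zero] at hi'; haveI := (Nat.card_eq_one_iff_unique.mp hi').1; infer_instance) hnc
      · exact absurd (isCyclic_of_prime_card (hi'.trans (pow_one p))) hnc
      · rfl
      · exfalso
        rw [hi'] at hmul
        have hpos : 0 < p ^ 3 := pow_pos (Fact.out : p.Prime).pos 3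
        exact hZne (Nat.eq_of_mul_eq_mul_left hpos (by rw [← hmul, mul_one])).symm
    subst hi2
    have hZp : Nat.card (Subgroup.center X) = p := by
      rw [hi', pow_succ] at hmul
      exact (Nat.eq_of_mul_eq_mul_left (pow_pos (Fact.out : p.Prime).pos 2) hmul).symm
    have hle : Zc ≤ Subgroup.center X := by
      have hcm := IsPGroup.commutative_of_card_eq_prime_sq hi'
      rw [hZc, commutator_def, Subgroup.commutator_le]
      intro a _ b _
      rw [← QuotientGroup.eq_one_iff, ← QuotientGroup.mk'_apply, map_commutatorElement,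
        commutatorElement_eq_one_iff_mul_comm]
      exact hcm _ _
    have hZcne : Zc ≠ ⊥ := fun h => hab ⟨⟨fun x y => (Subgroup.mem_center_iff.mp
      (((commutator_eq_bot_iff_center_eq_top X).mp h).ge (Subgroup.mem_top y)) x)⟩⟩
    have hZeq : Zc = Subgroup.center X := by
      refine Subgroup.eq_of_le_of_card_ge hle ?_
      rw [hZp]
      have h1 : Nat.card Zc ∣ p := hZp ▸ Subgroup.card_dvd_of_le hle
      rcases (Nat.dvd_prime (Fact.out : p.Prime)).mp h1 with h | h
      · exact absurd (Subgroup.card_eq_one.mp h) hZcne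
      · omega
    exact ⟨hZeq, hZeq ▸ hZp, hk⟩
  -- the action on `K = X / [X, X]`
  let res : MulAut Q →* MulAut X :=
    { toFun := fun e => (e.subgroupMap X).trans (MulEquiv.subgroupCongr (hXinv e))
      map_one' := MulEquiv.ext fun x => Subtype.ext rfl
      map_mul' := fun e f => MulEquiv.ext fun x => Subtype.ext rfl }
  have hZinv : ∀ e : MulAut X, Zc.map (e : X ≃* X).toMonoidHom = Zc := fun e =>
    Subgroup.characteristic_iff_map_eq.mp inferInstance e
  let K := X ⧸ Zc
  let mkK : MulAut X →* MulAut K :=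
    { toFun := fun e => QuotientGroup.congr Zc Zc e (hZinv e)
      map_one' := MulEquiv.ext fun x => by
        obtain ⟨x, rfl⟩ := QuotientGroup.mk_surjective x
        rfl
      map_mul' := fun e f => MulEquiv.ext fun x => by
        obtain ⟨x, rfl⟩ := QuotientGroup.mk_surjective x
        rfl }
  let π : MulAut Q →* MulAut K := mkK.comp res
  have hπ : ∀ (e : MulAut Q) (x : X) (hx : e (x : Q) ∈ X),
      π e (QuotientGroup.mk x) = QuotientGroup.mk (⟨e (x : Q), hx⟩ : X) := fun e x hx => rfl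
  have hmem : ∀ (e : MulAut Q) (x : X), e (x : Q) ∈ X := fun e x => (hXinv e).le ⟨x, x.2, rfl⟩
  set A := F.autGroup Q with hA
  -- coprime automorphisms in the kernel are trivial
  have hker1 : ∀ e : MulAut Q, (orderOf e).Coprime p → π e = 1 → e = 1 := by
    intro e he hπe
    have hco : (orderOf (res e)).Coprime p := he.coprime_dvd_left (orderOf_map_dvd res e)
    have hmod : ∀ x : X, x⁻¹ * res e x ∈ Zc := fun x => by
      have h1 := DFunLike.congr_fun hπe (QuotientGroup.mk x : K)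
      rw [hπ e x (hmem e x)] at h1
      exact QuotientGroup.eq.mp h1.symm
    have hZfix : ∀ c ∈ Zc, res e c = c := by
      intro c hc
      rcases hcases with ⟨-, h0, -⟩ | ⟨hZ, -, -⟩
      · rw [h0, Subgroup.mem_bot] at hc; rw [hc, map_one]
      · rw [hZc, commutator_eq_closure] at hc
        induction hc using Subgroup.closure_induction with
        | one => rw [map_one]
        | mul a b _ _ ha hb => rw [map_mul, ha, hb]
        | inv a _ ha => rw [map_inv, ha]
        | mem c hc =>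
          obtain ⟨a, b, rfl⟩ := hc
          have ha : ∀ g, g * (a⁻¹ * res e a) = (a⁻¹ * res e a) * g :=
            Subgroup.mem_center_iff.mp (hZ ▸ hmod a)
          have hb : ∀ g, g * (b⁻¹ * res e b) = (b⁻¹ * res e b) * g :=
            Subgroup.mem_center_iff.mp (hZ ▸ hmod b)
          rw [map_commutatorElement]
          obtain ⟨za, hae, ha⟩ : ∃ z, res e a = a * z ∧ ∀ g, g * z = z * g :=
            ⟨_, (mul_inv_cancel_left _ _).symm, ha⟩
          obtain ⟨zb, hbe, hb⟩ : ∃ z, res e b = b * z ∧ ∀ g, g * z = z * g :=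
            ⟨_, (mul_inv_cancel_left _ _).symm, hb⟩
          rw [hae, hbe, commutatorElement_def, commutatorElement_def, mul_inv_rev, mul_inv_rev]
          calc a * za * (b * zb) * (za⁻¹ * a⁻¹) * (zb⁻¹ * b⁻¹)
              = a * (za * (b * zb)) * za⁻¹ * a⁻¹ * zb⁻¹ * b⁻¹ := by group
            _ = a * ((b * zb) * za) * za⁻¹ * a⁻¹ * zb⁻¹ * b⁻¹ := by rw [ha]
            _ = a * b * (zb * a⁻¹) * zb⁻¹ * b⁻¹ := by group
            _ = a * b * (a⁻¹ * zb) * zb⁻¹ * b⁻¹ := by rw [hb]
            _ = _ := by group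
    have hXfix : ∀ x : X, res e x = x := fun x => fix_of_step hXp _ hco (hZfix _ (hmod x))
    refine MulEquiv.ext fun q => fix_of_fix_small e he ⊤ (hQp.to_subgroup ⊤)
      (fun _ _ => Subgroup.mem_top _) (fun z _ hz => ?_) q (Subgroup.mem_top q)
    exact congrArg Subtype.val (hXfix ⟨z, isSmall_odd hp2 hz⟩)
  -- the kernel consists of inner automorphisms
  have hinnle : Inn Q ≤ A := inn_le_autGroup hQS
  have hAS : autInducedBy S Q ≤ A := autInducedBy_le_autGroup hQS
  have hcore : ∀ B : Subgroup A, B.Normal → IsPGroup p B → B.map A.subtype ≤ Inn Q := fun B hB hBp => by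
    rw [← hr.2]
    exact Subgroup.map_mono (PCore.le_pCore hB hBp)
  set πA : A →* MulAut K := π.comp A.subtype with hπA
  have hkerp : IsPGroup p πA.ker := fun a => by
    obtain ⟨k, m, hm, hkm⟩ := Nat.exists_eq_pow_mul_and_not_dvd (orderOf_pos (a : MulAut Q)).ne' p
      (Fact.out : p.Prime).ne_one
    refine ⟨k, Subtype.ext (Subtype.ext ?_)⟩
    show ((a : A) : MulAut Q) ^ p ^ k = 1
    refine hker1 _ (Nat.Coprime.coprime_dvd_left (orderOf_dvd_of_pow_eq_one (n := m) ?_)
      ((Fact.out : p.Prime).coprime_iff_not_dvd.mpr hm).symm) ?_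
    · rw [← pow_mul, ← hkm, pow_orderOf_eq_one]
    · rw [map_pow, show π ((a : A) : MulAut Q) = 1 from a.2, one_pow]
  have hkerI : ∀ a : MulAut Q, a ∈ A → π a = 1 → a ∈ Inn Q := fun a ha h1 =>
    hcore _ inferInstance hkerp ⟨⟨a, ha⟩, h1, rfl⟩
  -- `N_S(Q)` is larger
  have hlt := lt_normalizerIn' hS hQS hne
  obtain ⟨g, hg, hgQ⟩ := SetLike.exists_of_lt hlt
  obtain ⟨cg, hcg, hcge⟩ := exists_autInducedBy (K := S) hg.1 hg.2
  have hCQ : centralizerIn S Q ≤ Q := hc.2 Q (isConj_refl hQS)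
  have hgI : cg ∉ Inn Q := fun h => hgQ ((mem_inn_iff_mem hQS hCQ hg.1 hcge).mp h)
  have hu1 : π cg ≠ 1 := fun h => hgI (hkerI cg (hAS hcg) h)
  set P₁ := (autInducedBy S Q).map π with hP₁
  have hP₁p : IsPGroup p P₁ := (isPGroup_autInducedBy hS Q).map π
  have hKle : Nat.card K ≤ p ^ 2 := by
    rcases hcases with ⟨-, -, h⟩ | ⟨-, h1, h2⟩
    · exact (Nat.le_of_dvd Nat.card_pos (Subgroup.card_quotient_dvd_card _)).trans h
    · have h3 := Subgroup.card_eq_card_quotient_mul_card_subgroup Zc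
      rw [h1, h2, pow_succ] at h3
      exact le_of_eq (Nat.eq_of_mul_eq_mul_right (Fact.out : p.Prime).pos h3).symm
  have : Finite (MulAut K) := Finite.of_injective (fun f : MulAut K => (f : K → K)) DFunLike.coe_injective
  have hKc : Nat.card K = p ^ 2 := by
    obtain ⟨i, hi⟩ := IsPGroup.iff_card.mp (hXp.to_quotient Zc)
    have hi2 : i ≤ 2 := (Nat.pow_le_pow_iff_right (Fact.out : p.Prime).one_lt).mp (hi ▸ hKle)
    by_contra hne2
    refine hu1 ?_
    obtain ⟨j, hj⟩ := hP₁p ⟨π cg, ⟨cg, hcg, rfl⟩⟩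
    have hj' : π cg ^ p ^ j = 1 := congrArg Subtype.val hj
    refine MulEquiv.ext fun x => ?_
    interval_cases i
    · exact (Nat.card_eq_one_iff_unique.mp (hi.trans (pow_zero p))).1.elim _ _
    · haveI := isCyclic_of_prime_card (hi.trans (pow_one p))
      have hexpK : ∀ k : K, k ^ p = 1 := fun k => by
        have := pow_card_eq_one' (G := K) (x := k)
        rwa [hi, pow_one] at this
      obtain ⟨w, hw⟩ := IsCyclic.exists_generator (α := K)
      obtain ⟨r, hr'⟩ := pow_eq_of_zpowers (hexpK w) (hw (π cg w))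
      obtain ⟨n, hn⟩ := Subgroup.mem_zpowers_iff.mp (hw x)
      have hpow : ∀ i : ℕ, (π cg ^ i) w = w ^ (r ^ i).val := by
        intro i
        induction i with
        | zero => simp [ZMod.val_one]
        | succ i ih => rw [pow_succ', MulAut.mul_apply, ih, map_pow, ← hr', ← pow_val_mul (hexpK w), pow_succ']
      have h1 := hpow (p ^ j)
      rw [hj', MulAut.one_apply, ZMod.pow_card_pow, hr'] at h1
      rw [← hn, map_zpow, ← h1]
      rfl
    · exact absurd hi hne2
  have hP₁le : Nat.card P₁ ≤ p := card_aut_le hKc P₁ hP₁p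
  -- inner automorphisms act trivially
  have hinn1 : ∀ a ∈ Inn Q, π a = 1 := by
    by_contra hcon
    push Not at hcon
    obtain ⟨a, ha, ha1⟩ := hcon
    have hle : (Inn Q).map π ≤ P₁ := Subgroup.map_mono (inn_le_autInducedBy hQS)
    have heq : (Inn Q).map π = P₁ := by
      refine Subgroup.eq_of_le_of_card_ge hle (hP₁le.trans ?_)
      obtain ⟨k, hk⟩ := IsPGroup.iff_card.mp (hP₁p.to_le hle)
      rw [hk]
      refine Nat.le_self_pow (fun h0 => ha1 ?_) p
      rw [h0, pow_zero] at hk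
      exact Subgroup.mem_bot.mp ((Subgroup.card_eq_one.mp hk).le ⟨a, ha, rfl⟩)
    obtain ⟨b, hb, hbe⟩ := heq.ge ⟨cg, hcg, rfl⟩
    refine hgI ?_
    have h1 := hkerI (b⁻¹ * cg) (A.mul_mem (A.inv_mem (hinnle hb)) (hAS hcg)) (by
      rw [map_mul, map_inv, hbe, inv_mul_cancel])
    have := (Inn Q).mul_mem hb h1
    rwa [mul_inv_cancel_left] at this
  set Abar := πA.range with hAbar
  have hcoreK : pCore p Abar = ⊥ := by
    set B := (pCore p Abar).comap πA.rangeRestrict with hB
    have hBp : IsPGroup p B := PCore.pCore_isPGroup.comap_of_ker_isPGroup _ (by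
      rw [MonoidHom.ker_rangeRestrict]; exact hkerp)
    have hBI := hcore B ((pCore_normal p _).comap _) hBp
    refine eq_bot_iff.mpr fun c hc => Subgroup.mem_bot.mpr ?_
    obtain ⟨a, rfl⟩ := πA.rangeRestrict_surjective c
    exact Subtype.ext (hinn1 _ (hBI ⟨a, hc, rfl⟩))
  have hP₁c : Nat.card P₁ = p := by
    refine le_antisymm hP₁le ?_
    obtain ⟨k, hk⟩ := IsPGroup.iff_card.mp hP₁p
    rw [hk]
    refine Nat.le_self_pow (fun h0 => hu1 ?_) p
    rw [h0, pow_zero] at hk
    exact Subgroup.mem_bot.mp ((Subgroup.card_eq_one.mp hk).le ⟨cg, hcg, rfl⟩)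
  have hup : π cg ^ p = 1 := by
    have := congrArg Subtype.val (pow_card_eq_one' (G := P₁) (x := ⟨π cg, cg, hcg, rfl⟩))
    rwa [hP₁c] at this
  have hzP : Subgroup.zpowers (π cg) = P₁ := by
    refine Subgroup.eq_of_le_of_card_ge ((Subgroup.zpowers_le).mpr ⟨cg, hcg, rfl⟩) ?_
    rw [Nat.card_zpowers, orderOf_eq_prime hup hu1, hP₁c]
  obtain ⟨x, y, m, hx, hx1, hy, hyx, hm, hux, huy, htor⟩ := exists_torus hKc Abar hcoreK
    (u := π cg) ⟨⟨cg, hAS hcg⟩, rfl⟩ hup hu1
  -- the normalizer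
  set N := normalizerIn S Q with hN
  have hNS : N ≤ S := normalizerIn_le
  have hQN : Q ≤ N := le_normalizerIn hQS
  have := finite_of_le hNS
  have := finite_mulAut hNS
  have hNp := hS.to_le hNS
  let ν : N →* MulAut K := π.comp (Q.normalizerMonoidHom.comp (Subgroup.inclusion inf_le_right))
  have hνP : ν.range = P₁ := by
    refine le_antisymm ?_ ?_
    · rintro _ ⟨n, rfl⟩
      exact ⟨_, mem_autInducedBy.mpr ⟨n, n.2.1, fun q => rfl⟩, rfl⟩
    · rintro _ ⟨a, ha, rfl⟩
      obtain ⟨s, hs, hse⟩ := mem_autInducedBy.mp ha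
      refine ⟨⟨s, hs, mem_normalizer_of_aut hse⟩, congrArg π ?_⟩
      exact MulEquiv.ext fun q => Subtype.ext (hse q).symm
  have hνker : ν.ker = Q.subgroupOf N := by
    ext n
    constructor
    · intro hn1
      have h1 := hkerI _ (hAS (mem_autInducedBy.mpr ⟨(n : Ω), n.2.1, fun q => rfl⟩)) hn1
      exact (mem_inn_iff_mem hQS hCQ n.2.1 (fun q => rfl)).mp h1
    · intro hnQ
      exact hinn1 _ ((mem_inn_iff_mem hQS hCQ n.2.1 (fun q => rfl)).mpr hnQ)
  have hNc : Nat.card N = Nat.card Q * p := by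
    rw [← Subgroup.card_mul_index ν.ker, Subgroup.index_ker, hνP, hP₁c, hνker,
      Nat.card_congr (Subgroup.subgroupOfEquivOfLe hQN).toEquiv]
  -- lifting the diagonal automorphisms to the normalizer
  have hlift : ∀ a : ZMod p, a ≠ 0 → ∃ τ : MulAut N, τ ∈ F.autGroup N ∧ (orderOf τ).Coprime p ∧
      ∃ α : MulAut Q, (∀ q : Q, ((τ ⟨q, hQN q.2⟩ : N) : Ω) = α q) ∧
        π α x = x ^ a.val ∧ π α y = y ^ (a⁻¹).val := by
    intro a ha
    obtain ⟨_, ⟨⟨t₀, ht₀⟩, rfl⟩, htx, hty⟩ := htor a ha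
    change π t₀ x = _ at htx
    change π t₀ y = _ at hty
    have hconj : π t₀ * π cg * (π t₀)⁻¹ = π cg ^ (a * a).val := by
      rw [mul_inv_eq_iff_eq_mul]
      obtain ⟨h1, h2⟩ := FusionSmall.aut_pow (w := π cg) (x := x) (y := y) (z := x ^ m.val)
        (by rw [map_pow, hux]) huy hux (a * a).val
      refine aut_eq_of_basis hKc hx hx1 hyx ?_ ?_
      · rw [MulAut.mul_apply, hux, htx, MulAut.mul_apply, htx, map_pow, h2]
      · rw [MulAut.mul_apply, huy, map_mul, map_pow, htx, hty, MulAut.mul_apply, hty, map_pow, h1,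
          (show Commute y ((x ^ m.val) ^ (a * a).val) from
            IsPGroup.commutative_of_card_eq_prime_sq hKc _ _).mul_pow, ← pow_val_mul hx, ← pow_val_mul hx,
          ← pow_val_mul hx, show m * (a * a) * a⁻¹ = a * m by field_simp]
    have hnorm : ∀ b ∈ autInducedBy S Q, t₀ * b * t₀⁻¹ ∈ autInducedBy S Q := by
      intro b hb
      obtain ⟨j, hj⟩ := Subgroup.mem_zpowers_iff.mp (hzP.ge ⟨b, hb, rfl⟩)
      set c := (cg ^ (a * a).val) ^ j with hc'
      have hcm : c ∈ autInducedBy S Q := Subgroup.zpow_mem _ (Subgroup.pow_mem _ hcg _) _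
      have h1 := hkerI (c⁻¹ * (t₀ * b * t₀⁻¹)) (A.mul_mem (A.inv_mem (hAS hcm))
        (A.mul_mem (A.mul_mem ht₀ (hAS hb)) (A.inv_mem ht₀))) (by
        rw [map_mul, map_inv, map_mul, map_mul, map_inv, ← hj, inv_mul_eq_one, ← conj_zpow, hconj, hc',
          map_zpow, map_pow])
      have h2 := Subgroup.mul_mem _ hcm (inn_le_autInducedBy hQS h1)
      rwa [mul_inv_cancel_left] at h2
    obtain ⟨f, hf, hfQ, hfe⟩ := exists_mapFn_of_aut hQS ht₀
    obtain ⟨f', hf', hf'e⟩ := hf.exists_extension hrec hfQ hQN le_rfl fun n hn' => by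
      obtain ⟨b, hb, hbe⟩ := exists_autInducedBy (K := S) hn'.1 hn'.2
      obtain ⟨s, hs, hse⟩ := mem_autInducedBy.mp (hnorm b hb)
      refine ⟨s, hs, fun q hq => ?_⟩
      have h1 := hse (t₀ ⟨q, hq⟩)
      rw [MulAut.mul_apply, MulAut.mul_apply, MulAut.inv_apply, MulEquiv.symm_apply_apply, ← hfe, ← hfe,
        hbe] at h1
      exact h1
    have hf'Q : f' '' Q = (Q : Set Ω) := (Set.image_congr hf'e).trans hfQ
    have hf'N : f' '' N = (N : Set Ω) := hf'.image_eq_of_maps hNS
      (fun n hn' => hf'.mem_normalizerIn hQN hf'Q hn' hn'.2) le_rfl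
    obtain ⟨τ₀, hτ₀, hτ₀e⟩ := hf'.exists_aut hf'N
    obtain ⟨k, r, hr', hkr⟩ := Nat.exists_eq_pow_mul_and_not_dvd (orderOf_pos τ₀).ne' p
      (Fact.out : p.Prime).ne_one
    have hit : ∀ (n : ℕ) (q : Q), (((τ₀ ^ n) ⟨q, hQN q.2⟩ : N) : Ω) = ((t₀ ^ n) q : Q) := by
      intro n
      induction n with
      | zero => intro q; rfl
      | succ n ih =>
        intro q
        rw [pow_succ, MulAut.mul_apply, pow_succ, MulAut.mul_apply, ← ih (t₀ q)]
        congr 2
        exact Subtype.ext ((hτ₀e _).trans ((hf'e q q.2).trans (hfe q)))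
    have hpx : ∀ n : ℕ, (π t₀ ^ n) x = x ^ (a ^ n).val ∧ (π t₀ ^ n) y = y ^ (a⁻¹ ^ n).val := by
      intro n
      induction n with
      | zero => simp [ZMod.val_one]
      | succ n ih =>
        rw [pow_succ', MulAut.mul_apply, MulAut.mul_apply, ih.1, ih.2, map_pow, map_pow, htx, hty,
          ← pow_val_mul hx, ← pow_val_mul hy, pow_succ', pow_succ']
        exact ⟨rfl, rfl⟩
    refine ⟨τ₀ ^ p ^ k, Subgroup.pow_mem _ hτ₀ _, ?_, t₀ ^ p ^ k, hit _, ?_, ?_⟩
    · refine Nat.Coprime.coprime_dvd_left (orderOf_dvd_of_pow_eq_one (n := r) ?_)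
        ((Fact.out : p.Prime).coprime_iff_not_dvd.mpr hr').symm
      rw [← pow_mul, ← hkr, pow_orderOf_eq_one]
    · rw [map_pow, (hpx _).1, ZMod.pow_card_pow]
    · rw [map_pow, (hpx _).2, ZMod.pow_card_pow]
  -- a power acting as `-1`
  have hgen : ∀ a : ZMod p, (∀ b : ZMod p, b ≠ 0 → ∃ k : ℕ, a ^ k = b) → a ≠ 0 →
      a * a ≠ 1 ∧ ∃ n : ℕ, a ^ n = -1 := by
    intro a hga ha
    refine ⟨fun h2 => ?_, hga (-1) (by simp)⟩
    have hall : ∀ b : ZMod p, b ≠ 0 → b = 1 ∨ b = a := fun b hb => by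
      obtain ⟨k, rfl⟩ := hga b hb
      induction k with
      | zero => left; rw [pow_zero]
      | succ k ih =>
        rcases ih (pow_ne_zero k ha) with h | h
        · right; rw [pow_succ, h, one_mul]
        · left; rw [pow_succ, h, h2]
    have hv : ∀ i : ℕ, i < p → (i : ZMod p).val = i := fun i hi => ZMod.val_natCast_of_lt hi
    have h2' := hall 2 (fun h => by
      have := congrArg ZMod.val h
      rw [show (2 : ZMod p) = ((2 : ℕ) : ZMod p) by norm_num, hv 2 (by omega), ZMod.val_zero] at this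
      omega)
    have h3' := hall 3 (fun h => by
      have := congrArg ZMod.val h
      rw [show (3 : ZMod p) = ((3 : ℕ) : ZMod p) by norm_num, hv 3 (by omega), ZMod.val_zero] at this
      omega)
    have key : ∀ i j : ℕ, i < p → j < p → (i : ZMod p) = (j : ZMod p) → i = j := fun i j hi hj h => by
      rw [← hv i hi, h, hv j hj]
    rcases h2' with h2' | h2'
    · exact absurd (key 2 1 (by omega) (by omega) (by simpa using h2')) (by omega)
    · rcases h3' with h3' | h3'
      · exact absurd (key 3 1 (by omega) (by omega) (by simpa using h3')) (by omega)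
      · exact absurd (key 3 2 (by omega) (by omega) (by push_cast; rw [h2', h3'])) (by omega)
  have hcomK := IsPGroup.commutative_of_card_eq_prime_sq hKc
  have hneg : ∀ w : K, w ^ p = 1 → w ^ (-1 : ZMod p).val = w⁻¹ := fun w hw => by
    refine eq_inv_of_mul_eq_one_left ?_
    rw [show w ^ (-1 : ZMod p).val * w = w ^ (-1 : ZMod p).val * w ^ (1 : ZMod p).val by
      rw [ZMod.val_one, pow_one], ← FusionSmall.pow_val_add hw, neg_add_cancel, ZMod.val_zero, pow_zero]
  -- powers of a lift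
  have hpw : ∀ {a : ZMod p} {τ : MulAut N} {α : MulAut Q},
      (∀ q : Q, ((τ ⟨q, hQN q.2⟩ : N) : Ω) = α q) → π α x = x ^ a.val → π α y = y ^ (a⁻¹).val →
      ∀ n : ℕ, (∀ q : Q, (((τ ^ n) ⟨q, hQN q.2⟩ : N) : Ω) = (α ^ n) q) ∧
        π (α ^ n) x = x ^ (a ^ n).val ∧ π (α ^ n) y = y ^ (a⁻¹ ^ n).val := by
    intro a τ α hα hαx hαy n
    induction n with
    | zero => exact ⟨fun q => rfl, by simp [ZMod.val_one], by simp [ZMod.val_one]⟩
    | succ n ih =>
      refine ⟨fun q => ?_, ?_, ?_⟩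
      · rw [pow_succ, MulAut.mul_apply, pow_succ, MulAut.mul_apply, ← ih.1 (α q)]
        exact congrArg (fun w : N => ((τ ^ n) w : Ω)) (Subtype.ext (hα q))
      · rw [pow_succ', map_mul, MulAut.mul_apply, ih.2.1, map_pow, hαx, ← pow_val_mul hx, pow_succ']
      · rw [pow_succ', map_mul, MulAut.mul_apply, ih.2.2, map_pow, hαy, ← pow_val_mul hy, pow_succ']
  -- conjugation relation
  have hequi : ∀ {τ : MulAut N} {α : MulAut Q}, (∀ q : Q, ((τ ⟨q, hQN q.2⟩ : N) : Ω) = α q) →
      ∀ n : N, ν (τ n) * π α = π α * ν n := by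
    intro τ α hα n
    show π (Q.normalizerMonoidHom ⟨(τ n : Ω), (τ n).2.2⟩) * π α = π α * π (Q.normalizerMonoidHom ⟨(n : Ω), n.2.2⟩)
    rw [← map_mul, ← map_mul]
    congr 1
    refine MulEquiv.ext fun q => Subtype.ext ?_
    show (τ n : Ω) * (α q : Ω) * (τ n : Ω)⁻¹ = (α _ : Ω)
    rw [← hα, ← hα, ← Subgroup.coe_inv, ← Subgroup.coe_mul, ← Subgroup.coe_mul, ← map_inv, ← map_mul, ← map_mul]
    rfl
  have hνg : ν ⟨g, hg⟩ = π cg := congrArg π (MulEquiv.ext fun q => Subtype.ext (hcge q).symm)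
  have hQinv : ∀ {τ : MulAut N} {α : MulAut Q}, (∀ q : Q, ((τ ⟨q, hQN q.2⟩ : N) : Ω) = α q) →
      ∀ q : N, (q : Ω) ∈ Q → ((τ q : N) : Ω) ∈ Q := fun hα q hq => by
    rw [show q = ⟨((⟨q, hq⟩ : Q) : Ω), hQN hq⟩ from rfl, hα]
    exact Subtype.mem _
  obtain ⟨a₀, ha₀, hga₀⟩ : ∃ a : ZMod p, a ≠ 0 ∧ ∀ b : ZMod p, b ≠ 0 → ∃ k : ℕ, a ^ k = b := by
    obtain ⟨w, hw⟩ := IsCyclic.exists_generator (α := (ZMod p)ˣ)
    refine ⟨w, w.ne_zero, fun b hb => ?_⟩
    obtain ⟨k, hk⟩ := Submonoid.mem_powers_iff (Units.mk0 b hb) w |>.mp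
      (mem_powers_iff_mem_zpowers.mpr (hw _))
    exact ⟨k, by rw [← Units.val_pow_eq_pow_val, hk, Units.val_mk0]⟩
  obtain ⟨hasq, n, han⟩ := hgen a₀ hga₀ ha₀
  obtain ⟨τ, -, hτco, α, hα, hαx, hαy⟩ := hlift a₀ ha₀
  obtain ⟨hσ, hσx, hσy⟩ := hpw hα hαx hαy n
  rw [han, hneg x hx] at hσx
  rw [inv_pow, han, inv_neg, inv_one, hneg y hy] at hσy
  have hσinv : ∀ w : K, π (α ^ n) w = w⁻¹ := by
    let ι : MulAut K :=
      { toFun := fun w => w⁻¹, invFun := fun w => w⁻¹, left_inv := inv_inv, right_inv := inv_inv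
        map_mul' := fun v w => by rw [mul_inv_rev, hcomK] }
    exact fun w => DFunLike.congr_fun (aut_eq_of_basis hKc hx hx1 hyx (v := π (α ^ n)) (w := ι) hσx hσy) w
  have hσg : (((⟨g, hg⟩ : N)⁻¹ * (τ ^ n) ⟨g, hg⟩ : N) : Ω) ∈ Q := by
    have h1 : (⟨g, hg⟩ : N)⁻¹ * (τ ^ n) ⟨g, hg⟩ ∈ ν.ker := by
      rw [MonoidHom.mem_ker, map_mul, map_inv, inv_mul_eq_one]
      have h2 := hequi hσ ⟨g, hg⟩
      refine MulEquiv.ext fun w => ?_
      obtain ⟨v, rfl⟩ := (π (α ^ n)).surjective w
      have h3 := DFunLike.congr_fun h2 v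
      rw [MulAut.mul_apply, MulAut.mul_apply, hσinv (ν _ v), ← map_inv, ← hσinv v] at h3
      exact h3.symm
    rw [hνker] at h1
    exact h1
  have hmove : ∀ w : N, (((⟨g, hg⟩ : N)⁻¹ * w : N) : Ω) ∈ Q → τ w ≠ w := by
    intro w hw hτw
    have h1 : ν w = π cg := by
      have h2 : (⟨g, hg⟩ : N)⁻¹ * w ∈ ν.ker := by rw [hνker]; exact hw
      rw [MonoidHom.mem_ker, map_mul, map_inv, inv_mul_eq_one, hνg] at h2
      exact h2.symm
    have h2 := DFunLike.congr_fun (hequi hα w) y
    rw [hτw, h1, MulAut.mul_apply, MulAut.mul_apply, huy, hαy, map_mul, map_pow, map_pow, huy, hαx, hαy,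
      (show Commute y (x ^ m.val) from hcomK _ _).mul_pow, ← pow_val_mul hx, ← pow_val_mul hx,
      mul_right_inj] at h2
    have h3 := pow_val_inj hx hx1 h2
    refine hasq (mul_left_cancel₀ hm ?_)
    have hi : a₀⁻¹ * a₀ = 1 := inv_mul_cancel₀ ha₀
    first
      | linear_combination a₀ * h3 + m * hi
      | linear_combination -a₀ * h3 + m * hi
  rcases hcases with ⟨hab, hZbot, -⟩ | ⟨hZ, hZp, hXc⟩
  · -- `X` is abelian
    have hinj : Function.Injective (QuotientGroup.mk : X → K) := fun v w h => by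
      have := QuotientGroup.eq.mp h
      rw [hZbot, Subgroup.mem_bot, inv_mul_eq_one] at this
      exact this
    have hco : (orderOf (α ^ n)).Coprime p := by
      refine hτco.coprime_dvd_left (orderOf_dvd_of_pow_eq_one ?_)
      refine MulEquiv.ext fun q => Subtype.ext ?_
      have h1 := (hpw hα hαx hαy (n * orderOf τ)).1 q
      rw [pow_mul (τ), pow_right_comm, pow_orderOf_eq_one, one_pow] at h1
      rw [← pow_mul]
      exact h1.symm
    have hinvQ : ∀ q : Q, (α ^ n) q = q⁻¹ := inverts_of_small hp2 hQp hco fun q hq => by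
      have h1 := hσinv (QuotientGroup.mk (⟨q, hq⟩ : X))
      rw [hπ _ _ (hmem _ _), ← QuotientGroup.mk_inv] at h1
      exact congrArg Subtype.val (hinj h1)
    letI : CommGroup Q :=
      { (inferInstance : Group Q) with
        mul_comm := fun a b => by
          have h1 := hinvQ (a * b)
          rw [map_mul, hinvQ, hinvQ, mul_inv_rev] at h1
          have h2 := congrArg (fun w : Q => w⁻¹) h1
          simp only [mul_inv_rev, inv_inv] at h2
          exact h2.symm }
    have hinnbot : Inn Q = ⊥ := eq_bot_iff.mpr fun a ha => by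
      obtain ⟨z, hz⟩ := mem_inn.mp ha
      refine Subgroup.mem_bot.mpr (MulEquiv.ext fun q => ?_)
      rw [hz, mul_comm z q, mul_inv_cancel_right, MulAut.one_apply]
    have hcA : pCore p A = ⊥ := (Subgroup.map_eq_bot_iff_of_injective _ A.subtype_injective).mp
      (hr.2.trans hinnbot)
    have hdA : p ∣ Nat.card A := by
      have h0 : cg ^ p = 1 := by
        have h1 := hkerI (cg ^ p) (A.pow_mem (hAS hcg) p) (by rw [map_pow, hup])
        rw [hinnbot, Subgroup.mem_bot] at h1
        exact h1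
      exact orderOf_eq_prime h0 (fun h => hu1 (by rw [h, map_one])) ▸
        Subgroup.orderOf_dvd_natCard A (hAS hcg)
    have hQc : Nat.card Q = p ^ 2 := by
      have hrk : (FusionRankTwo.pw p Q 1).index ≤ p ^ 2 := by
        refine le_of_eq ?_
        have h1 := (powMonoidHom (p ^ 1) : Q →* Q).ker.card_mul_index
        rw [Subgroup.index_ker] at h1
        have h2 := (FusionRankTwo.pw p Q 1).card_mul_index
        have h3 : (powMonoidHom (p ^ 1) : Q →* Q).ker = X := by
          ext q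
          show q ^ p ^ 1 = 1 ↔ q ^ p = 1
          rw [pow_one]
        have h4 : Nat.card X = p ^ 2 := by
          have h5 := Subgroup.card_eq_card_quotient_mul_card_subgroup Zc
          rw [hKc, hZbot, Subgroup.card_bot, mul_one] at h5
          exact h5
        rw [h3, h4] at h1
        rw [← h1, mul_comm (p ^ 2)] at h2
        exact Nat.eq_of_mul_eq_mul_left Nat.card_pos h2
      rcases FusionRankTwo.classify hQp A hdA hcA hrk with ⟨-, h⟩ | ⟨h, -⟩
      · exact h
      · omega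
    have hX4 : Nat.card X = p ^ 2 := by
      have h5 := Subgroup.card_eq_card_quotient_mul_card_subgroup Zc
      rw [hKc, hZbot, Subgroup.card_bot, mul_one] at h5
      exact h5
    have hXtop : X = ⊤ := Subgroup.eq_top_of_card_eq X (hX4.trans hQc.symm)
    have hNc' : Nat.card N = p ^ 3 := by rw [hNc, hQc, ← pow_succ]
    have hbN : Bounds p N := hb.of_injective (Subgroup.inclusion hNS) (Subgroup.inclusion_injective hNS)
    have hNexp : omega hbN = ⊤ := by
      obtain ⟨h, hh, hhfix⟩ := exists_fixed_mem_coset hNp (σ := τ ^ n)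
        (Nat.Coprime.coprime_dvd_left (orderOf_pow_dvd n) hτco) (Q.subgroupOf N)
        (fun q hq => Subgroup.mem_subgroupOf.mpr (hQinv hσ q hq)) (x := ⟨g, hg⟩) hσg
      have hle : Q.subgroupOf N ≤ omega hbN := fun q hq => by
        have h1 : (⟨q, hq⟩ : Q) ^ p = 1 := hXexp _ (hXtop.ge (Subgroup.mem_top _))
        exact Subtype.ext (congrArg (fun w : Q => (w : Ω)) h1)
      have hidx : (Q.subgroupOf N).index = p := by rw [← hνker, Subgroup.index_ker, hνP, hP₁c]
      have hhp : h ^ p ∈ Q.subgroupOf N := by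
        haveI : (Q.subgroupOf N).Normal := hνker ▸ inferInstance
        rw [← hidx]; exact Subgroup.pow_index_mem _ h
      have hh1 : h ^ p = 1 := by
        have h1 : (α ^ n) ⟨(h ^ p : N), hhp⟩ = ⟨(h ^ p : N), hhp⟩ := Subtype.ext (by
          rw [← hσ]
          show (((τ ^ n) (h ^ p) : N) : Ω) = _
          rw [map_pow, hhfix])
        rw [hinvQ, inv_eq_iff_mul_eq_one, ← pow_two] at h1
        have h2 : (h ^ p) ^ 2 = 1 := Subtype.ext (congrArg (fun w : Q => (w : Ω)) h1)
        obtain ⟨k, hk⟩ := hNp (h ^ p)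
        exact orderOf_eq_one_iff.mp (Nat.eq_one_of_dvd_coprimes
          (((Nat.coprime_primes (Fact.out : p.Prime) Nat.prime_two).mpr hp2).pow_left k)
          (orderOf_dvd_of_pow_eq_one hk) (orderOf_dvd_of_pow_eq_one h2))
      have hlt' : Q.subgroupOf N < omega hbN := lt_of_le_of_ne hle fun e => hgQ (by
        have hhQ : h ∈ Q.subgroupOf N := e ▸ hh1
        have := (Q.subgroupOf N).mul_mem hhQ ((Q.subgroupOf N).inv_mem hh)
        rw [mul_inv_rev, inv_inv, ← mul_assoc, mul_inv_cancel, one_mul] at this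
        exact this)
      refine Subgroup.index_eq_one.mp ?_
      have h1 := Subgroup.index_dvd_of_le hlt'.le
      rw [hidx] at h1
      rcases (Nat.dvd_prime (Fact.out : p.Prime)).mp h1 with h2 | h2
      · exact h2
      · exfalso
        refine hlt'.ne (Subgroup.eq_of_le_of_card_ge hlt'.le ?_)
        have h3 := (omega hbN).card_mul_index
        have h4 := (Q.subgroupOf N).card_mul_index
        rw [hidx] at h4
        rw [h2] at h3
        exact le_of_eq (Nat.eq_of_mul_eq_mul_right (Fact.out : p.Prime).pos (h3.trans h4.symm))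
    refine ⟨hQc, hNc', fun w hw => congrArg Subtype.val (hNexp.ge (Subgroup.mem_top (⟨w, hw⟩ : N))),
      fun a ha hga => ?_⟩
    obtain ⟨τ', hτ'A, hτ'co, α', hα', hα'x, hα'y⟩ := hlift a ha
    obtain ⟨z, rfl⟩ := QuotientGroup.mk_surjective x
    obtain ⟨e, rfl⟩ := QuotientGroup.mk_surjective y
    have hval : ∀ (β : MulAut Q) (v w : X), π β (QuotientGroup.mk v) = QuotientGroup.mk w →
        β (v : Q) = (w : Q) := fun β v w h => by
      rw [hπ _ _ (hmem β v)] at h
      exact congrArg Subtype.val (hinj h)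
    refine ⟨τ', ⟨(z : Q), hQN (z : Q).2⟩, ⟨(e : Q), hQN (e : Q).2⟩, hτ'A, hτ'co, hQinv hα',
      (z : Q).2, fun h => hx1 ?_, fun w => ?_, (e : Q).2, fun h => hyx ?_, ?_, ?_⟩
    · rw [QuotientGroup.eq_one_iff, show z = 1 from Subtype.ext (Subtype.ext (congrArg (fun w : N => (w : Ω)) h))]
      exact Subgroup.one_mem _
    · -- centrality: `N` acts through `⟨π cg⟩`
      obtain ⟨j, hj⟩ := Subgroup.mem_zpowers_iff.mp (hzP.ge (hνP.le ⟨w, rfl⟩))
      have hfix' : (π cg ^ j) (QuotientGroup.mk z) = QuotientGroup.mk z := by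
        have hst : π cg ∈ MulAction.stabilizer (MulAut K) (QuotientGroup.mk z : K) := hux
        exact (Subgroup.zpow_mem _ hst j : π cg ^ j ∈ MulAction.stabilizer (MulAut K) (QuotientGroup.mk z : K))
      rw [hj] at hfix'
      have h1 := congrArg Subtype.val (hval (Q.normalizerMonoidHom ⟨(w : Ω), w.2.2⟩) z z hfix')
      refine Subtype.ext ?_
      have h2 : (w : Ω) * ((z : Q) : Ω) * (w : Ω)⁻¹ = ((z : Q) : Ω) := h1
      show (w : Ω) * ((z : Q) : Ω) = ((z : Q) : Ω) * (w : Ω)
      exact mul_inv_eq_iff_eq_mul.mp h2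
    · obtain ⟨j, hj⟩ := h
      refine ⟨j, ?_⟩
      show (QuotientGroup.mk z : K) ^ j = QuotientGroup.mk e
      rw [← QuotientGroup.mk_zpow]
      congr 1
      refine Subtype.ext (Subtype.ext ?_)
      have h1 := congrArg Subtype.val hj
      simpa using h1
    · have h1 := hval α' z (z ^ a.val) (by rw [hα'x, QuotientGroup.mk_pow])
      refine Subtype.ext ((hα' _).trans ?_)
      rw [h1]; rfl
    · have h1 := hval α' e (e ^ (a⁻¹).val) (by rw [hα'y, QuotientGroup.mk_pow])
      refine Subtype.ext ((hα' _).trans ?_)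
      rw [h1]; rfl
  · -- `X` is extraspecial
    exfalso
    let incl : X →* N := (Subgroup.inclusion hQN).comp X.subtype
    have hincl : Function.Injective incl :=
      (Subgroup.inclusion_injective hQN).comp X.subtype_injective
    -- the commutators are fixed
    obtain ⟨x₀, rfl⟩ := QuotientGroup.mk_surjective x
    obtain ⟨y₀, rfl⟩ := QuotientGroup.mk_surjective y
    have hx₀ : x₀ ^ p = 1 := Subtype.ext x₀.2
    have hy₀ : y₀ ^ p = 1 := Subtype.ext y₀.2
    have hz0ne : ⁅x₀, y₀⁆ ≠ 1 := by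
      intro h0
      apply hx1
      rw [QuotientGroup.eq_one_iff, hZ]
      refine Subgroup.mem_center_iff.mpr fun w => ?_
      let D : Subgroup X := Subgroup.centralizer {x₀}
      have hZD : Zc ≤ D := fun c hc => Subgroup.mem_centralizer_iff.mpr fun v hv => by
        rw [hv]; exact Subgroup.mem_center_iff.mp (hZ ▸ hc) x₀
      have hxD : x₀ ∈ D := Subgroup.mem_centralizer_iff.mpr fun v hv => by rw [hv]
      have hyD : y₀ ∈ D := Subgroup.mem_centralizer_iff.mpr fun v hv => by
        rw [hv]; exact commutatorElement_eq_one_iff_mul_comm.mp h0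
      have hDK : D.map (QuotientGroup.mk' Zc) = ⊤ := by
        refine Subgroup.eq_top_of_card_eq _ ?_
        have hzle : Subgroup.zpowers (QuotientGroup.mk x₀ : K) < D.map (QuotientGroup.mk' Zc) :=
          lt_of_le_of_ne ((Subgroup.zpowers_le).mpr ⟨x₀, hxD, rfl⟩)
            fun e => hyx (e.ge ⟨y₀, hyD, rfl⟩)
        obtain ⟨i, hi, hi'⟩ := (Nat.dvd_prime_pow (Fact.out : p.Prime)).mp
          (hKc ▸ Subgroup.card_subgroup_dvd_card (D.map (QuotientGroup.mk' Zc)))
        have hlt'' : p < Nat.card (D.map (QuotientGroup.mk' Zc)) := by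
          have hcz : Nat.card (Subgroup.zpowers (QuotientGroup.mk x₀ : K)) = p := by
            rw [Nat.card_zpowers, orderOf_eq_prime hx hx1]
          refine lt_of_le_of_ne (hcz ▸ Subgroup.card_le_of_le hzle.le) fun e => hzle.ne ?_
          exact Subgroup.eq_of_le_of_card_ge hzle.le (by rw [← e, hcz])
        rw [hi', hKc]
        interval_cases i
        · rw [pow_zero] at hi'; have := (Fact.out : p.Prime).two_le; omega
        · rw [pow_one] at hi'; omega
        · rfl
      obtain ⟨v, hv, hve⟩ := hDK.ge (Subgroup.mem_top (QuotientGroup.mk w))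
      have hw : w ∈ D := by
        have h1 : v⁻¹ * w ∈ Zc := QuotientGroup.eq.mp hve
        have := D.mul_mem hv (hZD h1)
        rwa [mul_inv_cancel_left] at this
      exact (Subgroup.mem_centralizer_iff.mp hw x₀ rfl).symm
    have hzmem : ⁅x₀, y₀⁆ ∈ Zc := by
      rw [hZc, commutator_def]; exact Subgroup.commutator_mem_commutator (Subgroup.mem_top _) (Subgroup.mem_top _)
    have hτfix : ∀ c ∈ Zc, res α c = c := by
      have hgenZ : Subgroup.zpowers ⁅x₀, y₀⁆ = Zc := by
        refine Subgroup.eq_of_le_of_card_ge ((Subgroup.zpowers_le).mpr hzmem) ?_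
        rw [hZp, Nat.card_zpowers]
        have h1 : orderOf ⁅x₀, y₀⁆ ∣ p := hZp ▸ Subgroup.orderOf_dvd_natCard Zc hzmem
        rcases (Nat.dvd_prime (Fact.out : p.Prime)).mp h1 with h | h
        · exact absurd (orderOf_eq_one_iff.mp h) hz0ne
        · omega
      have hcen : ∀ v w : X, ⁅v, w⁆ ∈ Subgroup.center X := fun v w => hZ ▸ by
        rw [hZc, commutator_def]
        exact Subgroup.commutator_mem_commutator (Subgroup.mem_top _) (Subgroup.mem_top _)
      have hfix0 : res α ⁅x₀, y₀⁆ = ⁅x₀, y₀⁆ := by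
        have hxm : x₀ ^ a₀.val * (res α x₀)⁻¹ ∈ Subgroup.center X := hZ ▸ by
          have h1 := hαx
          rw [hπ α x₀ (hmem α x₀), ← QuotientGroup.mk_pow] at h1
          have h2 : (res α x₀)⁻¹ * x₀ ^ a₀.val ∈ Zc := QuotientGroup.eq.mp h1
          have h3 := (inferInstance : Zc.Normal).conj_mem _ h2 (res α x₀)
          rwa [mul_inv_cancel_left] at h3
        have hym : y₀ ^ (a₀⁻¹).val * (res α y₀)⁻¹ ∈ Subgroup.center X := hZ ▸ by
          have h1 := hαy
          rw [hπ α y₀ (hmem α y₀), ← QuotientGroup.mk_pow] at h1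
          have h2 : (res α y₀)⁻¹ * y₀ ^ (a₀⁻¹).val ∈ Zc := QuotientGroup.eq.mp h1
          have h3 := (inferInstance : Zc.Normal).conj_mem _ h2 (res α y₀)
          rwa [mul_inv_cancel_left] at h3
        rw [map_commutatorElement]
        have key : ⁅x₀ ^ a₀.val, y₀ ^ (a₀⁻¹).val⁆ = ⁅res α x₀, res α y₀⁆ := by
          obtain ⟨c, hce, hc0⟩ : ∃ c, x₀ ^ a₀.val = c * res α x₀ ∧ ∀ v, c * v = v * c :=
            ⟨_, (inv_mul_cancel_right _ _).symm, fun v => (Subgroup.mem_center_iff.mp hxm v).symm⟩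
          obtain ⟨d, hde, hd0⟩ : ∃ d, y₀ ^ (a₀⁻¹).val = d * res α y₀ ∧ ∀ v, d * v = v * d :=
            ⟨_, (inv_mul_cancel_right _ _).symm, fun v => (Subgroup.mem_center_iff.mp hym v).symm⟩
          rw [hce, hde]
          rw [commutatorElement_def, commutatorElement_def, mul_inv_rev, mul_inv_rev]
          calc c * res α x₀ * (d * res α y₀) * ((res α x₀)⁻¹ * c⁻¹) * ((res α y₀)⁻¹ * d⁻¹)
              = c * (res α x₀ * d * res α y₀ * (res α x₀)⁻¹) * c⁻¹ * (res α y₀)⁻¹ * d⁻¹ := by group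
            _ = (res α x₀ * d * res α y₀ * (res α x₀)⁻¹) * c * c⁻¹ * (res α y₀)⁻¹ * d⁻¹ := by rw [hc0]
            _ = res α x₀ * (d * (res α y₀ * (res α x₀)⁻¹ * (res α y₀)⁻¹)) * d⁻¹ := by group
            _ = res α x₀ * ((res α y₀ * (res α x₀)⁻¹ * (res α y₀)⁻¹) * d) * d⁻¹ := by rw [hd0]
            _ = _ := by group
        rw [← key, PGroup.commutatorElement_pow_left_of_central (hcen _ _),
          PGroup.commutatorElement_pow_right_of_central (hcen _ _)]
        have hz0p : ⁅x₀, y₀⁆ ^ p = 1 := Subtype.ext ((⁅x₀, y₀⁆ : X)).2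
        rw [← pow_val_mul hz0p, inv_mul_cancel₀ ha₀, ZMod.val_one, pow_one]
      intro c hc
      obtain ⟨j, rfl⟩ := Subgroup.mem_zpowers_iff.mp (hgenZ.ge hc)
      rw [map_zpow, hfix0]
    refine false_of_fixed hp2 hNp (hb.of_injective (Subgroup.inclusion hNS) (Subgroup.inclusion_injective hNS))
      incl.range ?_ ?_ hτco n ?_ (Q := Q.subgroupOf N) (fun q hq => Subgroup.mem_subgroupOf.mpr (hQinv hα q hq))
      (g := ⟨g, hg⟩) hσg hmove
    · rintro _ ⟨v, rfl⟩
      rw [← map_pow, show v ^ p = 1 from Subtype.ext v.2, map_one]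
    · rw [← hXc]
      exact (Nat.card_congr (MonoidHom.ofInjective hincl).toEquiv).symm
    · rintro _ ⟨v, rfl⟩ hv
      have hv1 : (α ^ n) (v : Q) = (v : Q) := Subtype.ext ((hσ (v : Q)).symm.trans (congrArg Subtype.val hv))
      have hvK : (QuotientGroup.mk v : K) = (QuotientGroup.mk v : K)⁻¹ := by
        rw [← hσinv, hπ _ _ (hmem _ _)]
        exact congrArg QuotientGroup.mk (Subtype.ext hv1).symm
      have hvZ : v ∈ Zc := by
        rw [← QuotientGroup.eq_one_iff]
        have h2 : (QuotientGroup.mk v : K) ^ 2 = 1 := by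
          rw [pow_two]; nth_rewrite 2 [hvK]; rw [mul_inv_cancel]
        have hpK : (QuotientGroup.mk v : K) ^ p = 1 := by
          rw [← QuotientGroup.mk_pow, show v ^ p = 1 from Subtype.ext v.2]; rfl
        exact orderOf_eq_one_iff.mp (Nat.eq_one_of_dvd_coprimes
          ((Nat.coprime_primes (Fact.out : p.Prime) Nat.prime_two).mpr hp2)
          (orderOf_dvd_of_pow_eq_one hpK) (orderOf_dvd_of_pow_eq_one h2))
      exact Subtype.ext ((hα (v : Q)).trans (congrArg (fun w : X => ((w : Q) : Ω)) (hτfix v hvZ)))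

end Fusion

end CfsgLib.FusionNormal.RankTwo
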