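import Cfsg.Agent.Lib.FusionNormal.RankTwoRadical
import Cfsg.Agent.Lib.Fusion.Normal
import Cfsg.Agent.Lib.PLocal5.SmallRank

/-!
# `p`-groups of rank two are resistant for `p ≥ 5`
-/

set_option autoImplicit false
set_option linter.style.haveILetI false

namespace CfsgLib.FusionNormal.RankTwo

open Cfsg Cfsg.FusionSystem CfsgLib.Fusion
open scoped commutatorElement

section Pure

theorem comm_mul_left {H : Type*} [Group H] {n t e : H} (h1 : Commute n ⁅t, e⁆) (h2 : Commute n e) :
    ⁅n * t, e⁆ = ⁅t, e⁆ := by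
  calc ⁅n * t, e⁆ = n * (⁅t, e⁆ * e) * n⁻¹ * e⁻¹ := by simp [commutatorElement_def, mul_assoc]
    _ = (n * ⁅t, e⁆) * (e * n⁻¹) * e⁻¹ := by group
    _ = (⁅t, e⁆ * n) * (n⁻¹ * e) * e⁻¹ := by rw [h1.eq, (h2.inv_left).eq]
    _ = _ := by group

theorem comm_mul_central {H : Type*} [Group H] {w c q : H} (hc : ∀ g, g * c = c * g) :
    ⁅w * c, q⁆ = ⁅w, q⁆ := by
  calc ⁅w * c, q⁆ = w * (c * q) * c⁻¹ * w⁻¹ * q⁻¹ := by simp [commutatorElement_def, mul_assoc]
    _ = w * (q * c) * c⁻¹ * w⁻¹ * q⁻¹ := by rw [hc q]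
    _ = w * q * w⁻¹ * q⁻¹ := by group
    _ = _ := (commutatorElement_def w q).symm

variable {G : Type*} [Group G] [Finite G] {p : ℕ} [Fact p.Prime]

/-- An automorphism acting as a generator of `(ℤ/p)ˣ` on the centre and by its inverse on a second
generator of an elementary subgroup cannot exist on a group of order `p ^ 4` above `p ^ (1 + 2)`. -/
theorem false_of_extension (hp : 5 ≤ p) (hG : IsPGroup p G) (hG4 : Nat.card G = p ^ 4)
    (hb : Bounds p G) (N Q : Subgroup G) [N.Normal] (hN : N = omega hb) (hNc : Nat.card N = p ^ 3)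
    (hQN : Q ≤ N) (hQc : Nat.card Q = p ^ 2) {z e : G} (hz : z ∈ Q) (hz1 : z ≠ 1)
    (hzc : ∀ g ∈ N, g * z = z * g) (he : e ∈ Q) (hez : e ∉ Subgroup.zpowers z)
    (hCQ : ∀ g ∈ N, (∀ q ∈ Q, g * q = q * g) → g ∈ Q)
    (hNQ : ∀ s : G, (∀ q ∈ Q, s * q * s⁻¹ ∈ Q) → s ∈ N)
    (τ : MulAut G) {a : ZMod p} (ha : a ≠ 0) (haa : a * a ≠ 1) (hτz : τ z = z ^ a.val)
    (hτe : τ e = e ^ (a⁻¹).val) : False := by
  classical
  have hpp : p.Prime := Fact.out
  have hexpN : ∀ x ∈ N, x ^ p = 1 := fun x hx => hN.le hx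
  have hze : z ^ p = 1 := hexpN z (hQN hz)
  have hee : e ^ p = 1 := hexpN e (hQN he)
  set Z := Subgroup.zpowers z with hZ
  have hZc : Nat.card Z = p := by rw [hZ, Nat.card_zpowers, orderOf_eq_prime hze hz1]
  -- `Q` is generated by `z` and `e`
  have hQgen : Q = Z ⊔ Subgroup.zpowers e := by
    refine (Subgroup.eq_of_le_of_card_ge (sup_le ((Subgroup.zpowers_le).mpr hz)
      ((Subgroup.zpowers_le).mpr he)) ?_).symm
    rw [hQc]
    have hlt : Z < Z ⊔ Subgroup.zpowers e := lt_of_le_of_ne le_sup_left fun h =>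
      hez (h.ge (Subgroup.mem_sup_right (Subgroup.mem_zpowers e)))
    obtain ⟨i, hi⟩ := IsPGroup.iff_card.mp (hG.to_subgroup (Z ⊔ Subgroup.zpowers e))
    have h1 : p < Nat.card ↥(Z ⊔ Subgroup.zpowers e) := by
      refine lt_of_le_of_ne (hZc ▸ Subgroup.card_le_of_le hlt.le) fun h => hlt.ne ?_
      exact Subgroup.eq_of_le_of_card_ge hlt.le (by rw [← h, hZc])
    rw [hi] at h1 ⊢
    refine Nat.pow_le_pow_right hpp.pos ?_
    rcases Nat.lt_or_ge i 2 with h | h
    · exfalso; interval_cases i
      · rw [pow_zero] at h1; have := hpp.two_le; omega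
      · rw [pow_one] at h1; omega
    · exact h
  have hQcomm : ∀ q ∈ Q, ∀ q' ∈ Q, q * q' = q' * q := fun q hq q' hq' => congrArg Subtype.val
    (IsPGroup.commutative_of_card_eq_prime_sq hQc (⟨q, hq⟩ : Q) ⟨q', hq'⟩)
  -- the centre of `N`
  have hcenN : ∀ g ∈ N, (∀ h ∈ N, g * h = h * g) → g ∈ Z := by
    intro g hg hgc
    have hgQ : g ∈ Q := hCQ g hg fun q hq => hgc q (hQN hq)
    by_contra hgZ
    -- then `Q` would be central in `N`
    have hQZ : ∀ q ∈ Q, ∀ h ∈ N, q * h = h * q := by
      let C : Subgroup G := Subgroup.centralizer (N : Set G) ⊓ Q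
      have hzC : z ∈ C := ⟨Subgroup.mem_centralizer_iff.mpr fun h hh => hzc h hh, hz⟩
      have hgC : g ∈ C := ⟨Subgroup.mem_centralizer_iff.mpr fun h hh => (hgc h hh).symm, hgQ⟩
      have hlt : Z < C := lt_of_le_of_ne ((Subgroup.zpowers_le).mpr hzC) fun h => hgZ (h.ge hgC)
      have hC : C = Q := by
        refine Subgroup.eq_of_le_of_card_ge inf_le_right ?_
        obtain ⟨i, hi⟩ := IsPGroup.iff_card.mp (hG.to_subgroup C)
        have h1 : p < Nat.card C := by
          refine lt_of_le_of_ne (hZc ▸ Subgroup.card_le_of_le hlt.le) fun h => hlt.ne ?_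
          exact Subgroup.eq_of_le_of_card_ge hlt.le (by rw [← h, hZc])
        rw [hQc, hi]
        rw [hi] at h1
        refine Nat.pow_le_pow_right hpp.pos ?_
        by_contra h
        have : i ≤ 1 := by omega
        interval_cases i
        · rw [pow_zero] at h1; have := hpp.two_le; omega
        · rw [pow_one] at h1; omega
      intro q hq h hh
      exact (Subgroup.mem_centralizer_iff.mp (hC.ge hq).1 h hh).symm
    have hNleQ : N ≤ Q := fun h hh => hCQ h hh fun q hq => (hQZ q hq h hh).symm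
    have := Subgroup.card_le_of_le hNleQ
    rw [hNc, hQc, Nat.pow_le_pow_iff_right hpp.one_lt] at this
    omega
  -- `z` is central
  have hzG : ∀ g : G, g * z = z * g := by
    have hZn : Z.Normal := by
      refine ⟨fun w hw g => hcenN _ ((inferInstance : N.Normal).conj_mem w ?_ g) fun h hh => ?_⟩
      · exact (Subgroup.zpowers_le).mpr (hQN hz) hw
      · obtain ⟨k, rfl⟩ := Subgroup.mem_zpowers_iff.mp hw
        have h1 := (inferInstance : N.Normal).conj_mem h hh g⁻¹
        rw [inv_inv] at h1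
        have h2 : Commute (g⁻¹ * h * g) (z ^ k) := (show Commute (g⁻¹ * h * g) z from hzc _ h1).zpow_right k
        calc g * z ^ k * g⁻¹ * h = g * (z ^ k * (g⁻¹ * h * g)) * g⁻¹ := by group
          _ = g * (g⁻¹ * h * g * z ^ k) * g⁻¹ := by rw [h2.eq]
          _ = _ := by group
    obtain ⟨w, hwZ, hwc, hwo⟩ := CfsgLib.PGroupBasic.exists_central_orderOf_eq hG Z
      (fun h => hz1 (Subgroup.mem_bot.mp (h.le (Subgroup.mem_zpowers z))))
    have hw : Subgroup.zpowers w = Z := Subgroup.eq_of_le_of_card_ge ((Subgroup.zpowers_le).mpr hwZ)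
      (by rw [hZc, Nat.card_zpowers, hwo])
    intro g
    obtain ⟨k, hk⟩ := Subgroup.mem_zpowers_iff.mp (hw.ge (Subgroup.mem_zpowers z))
    rw [← hk]
    exact (show Commute g w from Subgroup.mem_center_iff.mp hwc g).zpow_right k
  haveI hZn : Z.Normal := ⟨fun w hw g => by
    obtain ⟨k, rfl⟩ := Subgroup.mem_zpowers_iff.mp hw
    rw [((show Commute g z from hzG g).zpow_right k).eq, mul_inv_cancel_right]
    exact hw⟩
  -- `G / N` has order `p`
  have hidx : N.index = p := by
    have h1 := N.card_mul_index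
    rw [hNc, hG4, pow_succ p 3] at h1
    exact Nat.eq_of_mul_eq_mul_left (pow_pos hpp.pos 3) h1
  have hGN : Nat.card (G ⧸ N) = p := by rw [← Subgroup.index_eq_card, hidx]
  have hderN : commutator G ≤ N := by
    haveI := isCyclic_of_prime_card hGN
    rw [commutator_def, Subgroup.commutator_le]
    intro u _ v _
    rw [← QuotientGroup.eq_one_iff, ← QuotientGroup.mk'_apply, map_commutatorElement,
      commutatorElement_eq_one_iff_mul_comm]
    exact (IsCyclic.commGroup (α := G ⧸ N)).mul_comm _ _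
  obtain ⟨s, hs⟩ : ∃ s : G, s ∉ N := by
    by_contra h
    push Not at h
    have h1 := Subgroup.card_le_of_le (fun x _ => h x : (⊤ : Subgroup G) ≤ N)
    rw [Subgroup.card_top, hG4, hNc, Nat.pow_le_pow_iff_right hpp.one_lt] at h1
    omega
  -- powers
  have hcl : Class3.SmallClass p G :=
    Or.inr ⟨by omega, SmallRank.class_three_of_card_le hG (le_of_eq hG4)⟩
  have hder : commutator G ≤ Subgroup.closure {x : G | x ^ p = 1} := fun x hx =>
    Subgroup.subset_closure (hexpN x (hderN hx))
  have hpow := Class3.mul_pow_of_commutator_le hpp hcl hder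
  set v := s ^ p with hv
  have hvN : v ∈ N := by rw [hv, ← hidx]; exact Subgroup.pow_index_mem _ s
  have hv1 : v ≠ 1 := fun h => hs (hN.ge h)
  have hvc : ∀ g : G, g * v = v * g := by
    intro g
    have h1 : (g * s * g⁻¹) ^ p = v := by
      rw [show g * s * g⁻¹ = ⁅g, s⁆ * s by simp [commutatorElement_def], hpow,
        hexpN _ (hderN (Subgroup.commutator_mem_commutator (Subgroup.mem_top _) (Subgroup.mem_top _))),
        one_mul]
    rw [conj_pow] at h1
    exact mul_inv_eq_iff_eq_mul.mp h1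
  obtain ⟨j, hj⟩ := pow_eq_of_zpowers hze (hcenN v hvN fun h _ => (hvc h).symm)
  -- the action on `G / N`
  have hτN : ∀ x ∈ N, τ x ∈ N := fun x hx => hN.ge (show (τ x) ^ p = 1 by
    rw [← map_pow, hexpN x hx, map_one])
  obtain ⟨n, hn, c, hτs⟩ : ∃ n ∈ N, ∃ c : ZMod p, τ s = n * s ^ c.val := by
    haveI := isCyclic_of_prime_card hGN
    have hs1 : (QuotientGroup.mk s : G ⧸ N) ≠ 1 := fun h => hs ((QuotientGroup.eq_one_iff s).mp h)
    have hsp : (QuotientGroup.mk s : G ⧸ N) ^ p = 1 := by
      have := pow_card_eq_one' (G := G ⧸ N) (x := QuotientGroup.mk s)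
      rwa [hGN] at this
    have hgen : Subgroup.zpowers (QuotientGroup.mk s : G ⧸ N) = ⊤ := Subgroup.eq_top_of_card_eq _
      (by rw [Nat.card_zpowers, orderOf_eq_prime hsp hs1, hGN])
    obtain ⟨c, hc⟩ := pow_eq_of_zpowers hsp (hgen.ge (Subgroup.mem_top (QuotientGroup.mk (τ s))))
    refine ⟨τ s * (s ^ c.val)⁻¹, ?_, c, (inv_mul_cancel_right _ _).symm⟩
    have h1 : (s ^ c.val)⁻¹ * τ s ∈ N := QuotientGroup.eq.mp (by rw [QuotientGroup.mk_pow]; exact hc)
    have h2 := (inferInstance : N.Normal).conj_mem _ h1 (s ^ c.val)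
    rwa [mul_inv_cancel_left] at h2
  have hca : c = a := by
    have h1 : τ v = v ^ c.val := by
      rw [hv, map_pow, hτs, hpow, hexpN n hn, one_mul, ← pow_mul, ← pow_mul, mul_comm]
    rw [← hj, map_pow, hτz, ← FusionSmall.pow_val_mul hze, ← FusionSmall.pow_val_mul hze] at h1
    have h2 := pow_val_inj hze hz1 h1
    have hj0 : j ≠ 0 := fun h => hv1 (by rw [← hj, h, ZMod.val_zero, pow_zero])
    exact (mul_left_cancel₀ hj0 (by linear_combination h2)).symm
  -- the commutator of `s` and `e`
  set w := ⁅s, e⁆ with hw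
  have hwder : w ∈ commutator G := by
    rw [commutator_def]; exact Subgroup.commutator_mem_commutator (Subgroup.mem_top _) (Subgroup.mem_top _)
  have hwN : w ∈ N := hderN hwder
  have hwQ : w ∉ Q := by
    intro hwQ
    refine hs (hNQ s fun q hq => ?_)
    have hle : Q ≤ Q.comap (MulAut.conj s).toMonoidHom := by
      conv_lhs => rw [hQgen]
      refine sup_le ((Subgroup.zpowers_le).mpr ?_) ((Subgroup.zpowers_le).mpr ?_)
      · show s * z * s⁻¹ ∈ Q
        rw [hzG, mul_inv_cancel_right]; exact hz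
      · show s * e * s⁻¹ ∈ Q
        rw [show s * e * s⁻¹ = w * e by rw [hw]; simp [commutatorElement_def]]
        exact Q.mul_mem hwQ he
    exact hle hq
  -- `G / Z` has class two on the elements concerned
  let π := QuotientGroup.mk' Z
  have hNab : ∀ g ∈ N, ∀ h ∈ N, π g * π h = π h * π g := by
    intro g hg h hh
    have hNZ : Nat.card (N.map π) = p ^ 2 := by
      have h1 := (Z.subgroupOf N).card_mul_index
      have hker : (π.comp N.subtype).ker = Z.subgroupOf N := by
        rw [← MonoidHom.comap_ker, QuotientGroup.ker_mk']; rfl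
      rw [← hker, Subgroup.index_ker, hker, MonoidHom.range_comp, Subgroup.range_subtype,
        Nat.card_congr (Subgroup.subgroupOfEquivOfLe ((Subgroup.zpowers_le).mpr (hQN hz) : Z ≤ N)).toEquiv,
        hZc, hNc, pow_succ' p 2] at h1
      exact Nat.eq_of_mul_eq_mul_left hpp.pos h1
    exact congrArg Subtype.val (IsPGroup.commutative_of_card_eq_prime_sq hNZ
      (⟨π g, g, hg, rfl⟩ : N.map π) ⟨π h, h, hh, rfl⟩)
  have hsw : π s * π w = π w * π s := by
    have h3 := hcl.class_three
    have h1 : ⁅w, s⁆ ∈ Subgroup.center G := by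
      rw [Subgroup.commutator_eq_bot_iff_le_centralizer, Subgroup.coe_top,
        Subgroup.centralizer_univ] at h3
      exact h3 (Subgroup.commutator_mem_commutator hwder (Subgroup.mem_top s))
    have h2 : ⁅w, s⁆ ∈ Z := hcenN _ (hderN (by
      rw [commutator_def]; exact Subgroup.commutator_mem_commutator (Subgroup.mem_top _) (Subgroup.mem_top _)))
      fun h _ => (Subgroup.mem_center_iff.mp h1 h).symm
    have h4 : ⁅π w, π s⁆ = 1 := by
      rw [← map_commutatorElement]; exact (QuotientGroup.eq_one_iff _).mpr h2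
    exact (commutatorElement_eq_one_iff_mul_comm.mp h4).symm
  let H : Subgroup (G ⧸ Z) := N.map π ⊔ Subgroup.zpowers (π s)
  have hwH : ∀ h ∈ H, h * π w = π w * h := fun h hh => by
    have hle : H ≤ Subgroup.centralizer {π w} := by
      refine sup_le ?_ ((Subgroup.zpowers_le).mpr (Subgroup.mem_centralizer_iff.mpr fun u hu => by
        rw [hu]; exact hsw.symm))
      rintro _ ⟨g, hg, rfl⟩
      exact Subgroup.mem_centralizer_iff.mpr fun u hu => by rw [hu]; exact hNab w hwN g hg
    exact (Subgroup.mem_centralizer_iff.mp (hle hh) (π w) rfl).symm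
  let sH : H := ⟨π s, Subgroup.mem_sup_right (Subgroup.mem_zpowers _)⟩
  let eH : H := ⟨π e, Subgroup.mem_sup_left ⟨e, hQN he, rfl⟩⟩
  have hcen : ⁅sH, eH⁆ ∈ Subgroup.center H := Subgroup.mem_center_iff.mpr fun u => Subtype.ext (by
    show (u : G ⧸ Z) * ⁅π s, π e⁆ = ⁅π s, π e⁆ * u
    rw [← map_commutatorElement]
    exact hwH _ u.2)
  set b := (a⁻¹ : ZMod p) with hb'
  -- the image of `w`
  have hτw : π (τ w) = π w := by
    have e1 : ⁅(π s) ^ c.val, (π e) ^ b.val⁆ = (π w ^ c.val) ^ b.val := by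
      have h1 : ⁅sH ^ c.val, eH ^ b.val⁆ = (⁅sH, eH⁆ ^ c.val) ^ b.val := by
        rw [PGroup.commutatorElement_pow_right_of_central
          (by rw [PGroup.commutatorElement_pow_left_of_central hcen]; exact pow_mem hcen _),
          PGroup.commutatorElement_pow_left_of_central hcen]
      have h2 := congrArg (fun u : H => (u : G ⧸ Z)) h1
      rw [hw, map_commutatorElement]
      exact h2
    have hwp : π w ^ p = 1 := by rw [← map_pow, hexpN w hwN, map_one]
    have e2 : ⁅π n * π s ^ c.val, π e ^ b.val⁆ = ⁅π s ^ c.val, π e ^ b.val⁆ := by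
      rw [CfsgLib.FusionNormal.RankTwo.comm_mul_left]
      · rw [e1]
        exact Commute.pow_right (Commute.pow_right (hNab n hn w hwN) _) _
      · exact Commute.pow_right (hNab n hn e (hQN he)) _
    rw [hw, map_commutatorElement τ, map_commutatorElement π, hτs, hτe, map_mul, map_pow, map_pow, e2, e1,
      ← FusionSmall.pow_val_mul hwp, hca, hb', mul_inv_cancel₀ ha, ZMod.val_one, pow_one, ← hw]
  -- the relation in `N`
  obtain ⟨i, hi⟩ : ∃ i : ZMod p, τ w = w * z ^ i.val := by
    obtain ⟨i, hi⟩ := pow_eq_of_zpowers hze (QuotientGroup.eq.mp hτw.symm : w⁻¹ * τ w ∈ Z)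
    exact ⟨i, by rw [hi, mul_inv_cancel_left]⟩
  have hweZ : ⁅w, e⁆ ∈ Z := by
    rw [← QuotientGroup.eq_one_iff, ← QuotientGroup.mk'_apply, map_commutatorElement,
      commutatorElement_eq_one_iff_mul_comm]
    exact hNab w hwN e (hQN he)
  obtain ⟨m, hm⟩ := pow_eq_of_zpowers hze hweZ
  have hm0 : m ≠ 0 := by
    rintro rfl
    rw [ZMod.val_zero, pow_zero, eq_comm, commutatorElement_eq_one_iff_mul_comm] at hm
    refine hwQ (hCQ w hwN fun q hq => ?_)
    have hle : Q ≤ Subgroup.centralizer {w} := by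
      rw [hQgen]
      refine sup_le ((Subgroup.zpowers_le).mpr (Subgroup.mem_centralizer_iff.mpr fun u hu => ?_))
        ((Subgroup.zpowers_le).mpr (Subgroup.mem_centralizer_iff.mpr fun u hu => ?_))
      · rw [hu]; exact hzc w hwN
      · rw [hu]; exact hm
    exact Subgroup.mem_centralizer_iff.mp (hle hq) w rfl
  have hfinal : τ ⁅w, e⁆ = ⁅w, e⁆ ^ b.val := by
    rw [map_commutatorElement, hi, hτe]
    have hzi : ∀ g : G, g * z ^ i.val = z ^ i.val * g := fun g =>
      ((show Commute g z from hzG g).pow_right _).eq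
    rw [CfsgLib.FusionNormal.RankTwo.comm_mul_central hzi]
    have hcN : (⁅(⟨w, hwN⟩ : N), ⟨e, hQN he⟩⁆ : N) ∈ Subgroup.center N :=
      Subgroup.mem_center_iff.mpr fun u => Subtype.ext (by
        show (u : G) * ⁅w, e⁆ = ⁅w, e⁆ * u
        rw [← hm]
        exact ((show Commute (u : G) z from hzG u).pow_right _).eq)
    exact congrArg (fun u : N => (u : G)) (PGroup.commutatorElement_pow_right_of_central hcN b.val)
  rw [← hm, map_pow, hτz, ← FusionSmall.pow_val_mul hze, ← FusionSmall.pow_val_mul hze] at hfinal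
  have h5 := pow_val_inj hze hz1 hfinal
  refine haa (mul_left_cancel₀ hm0 ?_)
  have hi' : a⁻¹ * a = 1 := inv_mul_cancel₀ ha
  linear_combination a * h5 + m * hi'

end Pure

section Fusion

universe u

variable {Ω : Type u} [Group Ω] {S : Subgroup Ω} {F : FusionSystem S} {p : ℕ} [Finite S] [Fact p.Prime]

theorem bounds_of_rank (hp : 5 ≤ p) (hS : IsPGroup p S)
    (hrk : ∀ E : Subgroup Ω, E ≤ S → IsElementaryAbelian p E → Nat.card E ≤ p ^ 2) : Bounds p S := by
  have hel : ∀ E : Subgroup S, IsElementaryAbelian p E → Nat.card E ≤ p ^ 2 := fun E hE => by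
    rw [Nat.card_congr (E.equivMapOfInjective S.subtype S.subtype_injective).toEquiv]
    refine hrk _ (Subgroup.map_subtype_le E) ⟨⟨⟨?_⟩⟩, ?_⟩
    · rintro ⟨_, a, ha, rfl⟩ ⟨_, b, hb, rfl⟩
      exact Subtype.ext (congrArg S.subtype (congrArg Subtype.val (hE.1.is_comm.comm (⟨a, ha⟩ : E) ⟨b, hb⟩)))
    · rintro _ ⟨x, hx, rfl⟩
      rw [← map_pow, hE.2 x hx, map_one]
  refine ⟨SmallRank.mul_pow_eq_one_rank_two (by omega) _ S rfl hS hel, fun H hH => ?_, hel⟩
  refine SmallRank.card_le_of_exponent_rank_two (fun x => Subtype.ext (hH x x.2)) fun E hE => ?_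
  rw [Nat.card_congr (E.equivMapOfInjective H.subtype H.subtype_injective).toEquiv]
  refine hel _ ⟨⟨⟨?_⟩⟩, ?_⟩
  · rintro ⟨_, a, ha, rfl⟩ ⟨_, b, hb, rfl⟩
    exact Subtype.ext (congrArg H.subtype (congrArg Subtype.val (hE.1.is_comm.comm (⟨a, ha⟩ : E) ⟨b, hb⟩)))
  · rintro _ ⟨x, hx, rfl⟩
    rw [← map_pow, hE.2 x hx, map_one]

/-- There is no centric radical subgroup other than `S`. -/
theorem eq_top_of_radical (hp : 5 ≤ p) (hS : IsPGroup p S) (hF : F.IsSaturated p) (hb : Bounds p S)
    (hnE : ¬ (Nat.card S = p ^ 3 ∧ Monoid.exponent S = p)) {Q : Subgroup Ω}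
    (hn : F.IsFullyNormalized Q) (hc : F.IsCentric Q) (hr : F.IsRadical p Q) : Q = S := by
  classical
  by_contra hne
  have hpp : p.Prime := Fact.out
  obtain ⟨hQc, hNc, hNexp, htor⟩ := pearl_of_radical hp hS hF hb hn hc hr hne
  set N := normalizerIn S Q with hN
  have hNS : N ≤ S := normalizerIn_le
  have hQS := hn.1
  have hQN : Q ≤ N := le_normalizerIn hQS
  have := finite_of_le hNS
  have hNne : N ≠ S := by
    intro h
    refine hnE ⟨h ▸ hNc, ?_⟩
    have hex : ∀ x : S, x ^ p = 1 := fun x => Subtype.ext (hNexp x (h.ge x.2))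
    rcases (Nat.dvd_prime hpp).mp (Monoid.exponent_dvd_of_forall_pow_eq_one hex) with h1 | h1
    · exfalso
      have h3 : Nat.card S = p ^ 3 := h ▸ hNc
      have := Monoid.exp_eq_one_iff.mp h1
      rw [Nat.card_eq_one_iff_unique.mpr ⟨this, inferInstance⟩] at h3
      exact absurd h3.symm (Nat.one_lt_pow (by norm_num) hpp.one_lt).ne'
    · exact h1
  -- `N` is `Ω₁(S)`
  have hNω : N.subgroupOf S = omega hb := by
    refine Subgroup.eq_of_le_of_card_ge (fun x hx => Subtype.ext (hNexp x hx)) ?_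
    rw [Nat.card_congr (Subgroup.subgroupOfEquivOfLe hNS).toEquiv, hNc]
    exact hb.exp _ fun x hx => hx
  have hmemN : ∀ x : S, x ^ p = 1 → (x : Ω) ∈ N := fun x hx => hNω.ge hx
  have hSN : S ≤ Subgroup.normalizer (N : Set Ω) := fun g hg => mem_normalizer_of_forall fun x hx => by
    have h1 : ((⟨g, hg⟩ : S) * ⟨x, hNS hx⟩ * (⟨g, hg⟩ : S)⁻¹) ^ p = 1 := by
      rw [conj_pow, show (⟨x, hNS hx⟩ : S) ^ p = 1 from Subtype.ext (hNexp x hx), mul_one, mul_inv_cancel]
    exact hmemN _ h1
  have hNN : normalizerIn S N = S := inf_eq_left.mpr hSN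
  have hnN : F.IsFullyNormalized N := ⟨hNS, fun X _ => by
    rw [hNN]; exact Nat.card_mono (S : Set Ω).toFinite (normalizerIn_le (P := X))⟩
  have hcN : F.IsCentric N := IsCentric.of_le hc hQN hNS
  have hnr : ¬ F.IsRadical p N := fun h => by
    have h1 := (pearl_of_radical hp hS hF hb hnN hcN h hNne).card
    rw [hNc] at h1
    exact absurd (Nat.pow_right_injective hpp.two_le h1) (by norm_num)
  -- the diagonal automorphism
  obtain ⟨a, ha, hga⟩ : ∃ a : ZMod p, a ≠ 0 ∧ ∀ b : ZMod p, b ≠ 0 → ∃ k : ℕ, a ^ k = b := by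
    obtain ⟨w, hw⟩ := IsCyclic.exists_generator (α := (ZMod p)ˣ)
    refine ⟨w, w.ne_zero, fun b hb => ?_⟩
    obtain ⟨k, hk⟩ := Submonoid.mem_powers_iff (Units.mk0 b hb) w |>.mp
      (mem_powers_iff_mem_zpowers.mpr (hw _))
    exact ⟨k, by rw [← Units.val_pow_eq_pow_val, hk, Units.val_mk0]⟩
  have haa : a * a ≠ 1 := by
    intro h2
    have hall : ∀ b : ZMod p, b ≠ 0 → b = 1 ∨ b = a := fun b hb => by
      obtain ⟨k, rfl⟩ := hga b hb
      induction k with
      | zero => left; rw [pow_zero]
      | succ k ih =>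
        rcases ih (pow_ne_zero k ha) with h | h
        · right; rw [pow_succ, h, one_mul]
        · left; rw [pow_succ, h, h2]
    have hv : ∀ i : ℕ, i < p → (i : ZMod p).val = i := fun i hi => ZMod.val_natCast_of_lt hi
    have key : ∀ i j : ℕ, i < p → j < p → (i : ZMod p) = (j : ZMod p) → i = j := fun i j hi hj h => by
      rw [← hv i hi, h, hv j hj]
    have h2' := hall ((2 : ℕ) : ZMod p) (fun h => absurd (key 2 0 (by omega) (by omega) (by simpa using h)) (by omega))
    have h3' := hall ((3 : ℕ) : ZMod p) (fun h => absurd (key 3 0 (by omega) (by omega) (by simpa using h)) (by omega))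
    rcases h2' with h2' | h2'
    · exact absurd (key 2 1 (by omega) (by omega) (by simpa using h2')) (by omega)
    · rcases h3' with h3' | h3'
      · exact absurd (key 3 1 (by omega) (by omega) (by simpa using h3')) (by omega)
      · exact absurd (key 3 2 (by omega) (by omega) (h3'.trans h2'.symm)) (by omega)
  obtain ⟨τ, z, e, hτ, -, hτQ, hzQ, hz1, hzc, heQ, hez, hτz, hτe⟩ := htor a ha hga
  have hCQ : centralizerIn S Q ≤ Q := hc.2 Q (isConj_refl hQS)
  -- `Aut_S(N)` is `O_p(Aut_F(N))`
  have := finite_mulAut hNS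
  set O := Stable.coreAut F p N with hO
  obtain ⟨hNa, hNr⟩ := fullyNormalized_good hS hF hnN
  obtain ⟨T, hT⟩ := hNa.2
  have hOS : O ≤ autInducedBy S N := by
    rintro _ ⟨x, hx, rfl⟩
    have h1 := PCore.pCore_le_sylow T hx
    rw [hT] at h1
    exact h1
  have hInnO : Inn N ≤ O := fun α hα => by
    refine ⟨⟨α, inn_le_autGroup hNS hα⟩, PCore.le_pCore (normal_inn_subgroupOf F N) ?_ ?_, rfl⟩
    · exact ((isPGroup_autInducedBy hS N).to_le (inn_le_autInducedBy hNS)).comap_subtype
    · exact hα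
  obtain ⟨α, hαO, hαI⟩ := SetLike.exists_of_lt (lt_of_le_of_ne hInnO fun h => hnr ⟨hNS, h.symm⟩)
  have hCN : centralizerIn S N ≤ N := hcN.2 N (isConj_refl hNS)
  -- the subgroup of `S` inducing `O` is `S`
  obtain ⟨s₀, hs₀, hs₀e⟩ := mem_autInducedBy.mp (hOS hαO)
  have hs₀N : s₀ ∉ N := fun h => hαI ((mem_inn_iff_mem hNS hCN hs₀ hs₀e).mpr h)
  -- the index of `N` in `S`
  haveI hNn : (N.subgroupOf S).Normal := (Subgroup.normal_subgroupOf_iff_le_normalizer hNS).mpr hSN
  have hidx : (N.subgroupOf S).index = p := by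
    set Zn := Subgroup.center N with hZn
    let K := N ⧸ Zn
    have hZinv : ∀ w : MulAut N, Zn.map (w : N ≃* N).toMonoidHom = Zn := fun w =>
      Subgroup.characteristic_iff_map_eq.mp inferInstance w
    let mk : MulAut N →* MulAut K :=
      { toFun := fun w => QuotientGroup.congr Zn Zn w (hZinv w)
        map_one' := MulEquiv.ext fun x => by
          obtain ⟨x, rfl⟩ := QuotientGroup.mk_surjective x
          rfl
        map_mul' := fun w v => MulEquiv.ext fun x => by
          obtain ⟨x, rfl⟩ := QuotientGroup.mk_surjective x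
          rfl }
    let ρ : S →* MulAut K := mk.comp (N.normalizerMonoidHom.comp (Subgroup.inclusion hSN))
    have hz1' : z ≠ 1 := hz1
    have hzC : z ∈ Zn := Subgroup.mem_center_iff.mpr hzc
    -- the centre has order `p`
    have hZle : Zn ≤ Subgroup.zpowers z := by
      intro w hw
      have hwQ : (w : Ω) ∈ Q := hCQ (mem_centralizerIn.mpr ⟨hNS w.2, fun q hq =>
        congrArg Subtype.val (Subgroup.mem_center_iff.mp hw ⟨q, hQN hq⟩)⟩)
      by_contra hwz
      have hle : Q.subgroupOf N ≤ Zn := by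
        have hlt : Subgroup.zpowers z < Zn ⊓ Q.subgroupOf N := lt_of_le_of_ne
          (le_inf ((Subgroup.zpowers_le).mpr hzC) ((Subgroup.zpowers_le).mpr hzQ))
          fun h => hwz (h.ge ⟨hw, hwQ⟩)
        have hcz : Nat.card (Subgroup.zpowers z) = p := by
          rw [Nat.card_zpowers, orderOf_eq_prime (Subtype.ext (hNexp z z.2)) hz1]
        have h2 : Nat.card (Q.subgroupOf N) = p ^ 2 := by
          rw [Nat.card_congr (Subgroup.subgroupOfEquivOfLe hQN).toEquiv, hQc]
        refine inf_eq_right.mp (Subgroup.eq_of_le_of_card_ge inf_le_right ?_)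
        obtain ⟨i, hi, hi'⟩ := (Nat.dvd_prime_pow hpp).mp
          (h2 ▸ Subgroup.card_dvd_of_le (inf_le_right : Zn ⊓ Q.subgroupOf N ≤ _))
        have hlt' : p < Nat.card ↥(Zn ⊓ Q.subgroupOf N) := by
          refine lt_of_le_of_ne (hcz ▸ Subgroup.card_le_of_le hlt.le) fun h => hlt.ne ?_
          exact Subgroup.eq_of_le_of_card_ge hlt.le (by rw [← h, hcz])
        rw [h2, hi']
        interval_cases i
        · rw [pow_zero] at hi'; have := hpp.two_le; omega
        · rw [pow_one] at hi'; omega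
        · exact le_rfl
      have hNQ : N ≤ Q := fun g hg => hCQ (mem_centralizerIn.mpr ⟨hNS hg, fun q hq =>
        (congrArg Subtype.val (Subgroup.mem_center_iff.mp
          (hle (show (⟨q, hQN hq⟩ : N) ∈ Q.subgroupOf N from hq)) ⟨g, hg⟩)).symm⟩)
      haveI := finite_of_le hQS
      have := Subgroup.card_le_of_le hNQ
      rw [hNc, hQc, Nat.pow_le_pow_iff_right hpp.one_lt] at this
      omega
    have hZc : Nat.card Zn = p := by
      rw [le_antisymm hZle ((Subgroup.zpowers_le).mpr hzC), Nat.card_zpowers,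
        orderOf_eq_prime (Subtype.ext (hNexp z z.2)) hz1]
    have hKc : Nat.card K = p ^ 2 := by
      have h := Subgroup.card_eq_card_quotient_mul_card_subgroup Zn
      rw [hNc, hZc, pow_succ] at h
      exact (Nat.eq_of_mul_eq_mul_right hpp.pos h).symm
    -- automorphisms trivial on the quotient by the centre are inner
    have htriv : ∀ w : MulAut N, mk w = 1 → w ∈ Inn N := by
      intro w hw
      let D := mk.ker
      have hI : Inn N ≤ D := by
        intro v hv
        obtain ⟨g, hg⟩ := mem_inn.mp hv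
        refine MulEquiv.ext fun x => ?_
        obtain ⟨x, rfl⟩ := QuotientGroup.mk_surjective x
        show QuotientGroup.mk (v x) = QuotientGroup.mk x
        have hcm := IsPGroup.commutative_of_card_eq_prime_sq hKc
        rw [hg, QuotientGroup.mk_mul, QuotientGroup.mk_mul, QuotientGroup.mk_inv, hcm, inv_mul_cancel_left]
      -- they are determined by the images of two generators
      obtain ⟨h, hh⟩ : ∃ h : N, (h : Ω) ∉ Q := by
        by_contra hh
        push Not at hh
        haveI := finite_of_le hQS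
        have := Subgroup.card_le_of_le (fun x hx => hh ⟨x, hx⟩ : N ≤ Q)
        rw [hNc, hQc, Nat.pow_le_pow_iff_right hpp.one_lt] at this
        omega
      let f : D → Zn × Zn := fun v =>
        (⟨e⁻¹ * (v : MulAut N) e, QuotientGroup.eq.mp (DFunLike.congr_fun v.2 (QuotientGroup.mk e : K)).symm⟩,
         ⟨h⁻¹ * (v : MulAut N) h, QuotientGroup.eq.mp (DFunLike.congr_fun v.2 (QuotientGroup.mk h : K)).symm⟩)
      have hf : Function.Injective f := by
        intro v v' hvv
        have h1 : (v : MulAut N) e = (v' : MulAut N) e :=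
          mul_left_cancel (congrArg (fun u : Zn × Zn => (u.1 : N)) hvv)
        have h2 : (v : MulAut N) h = (v' : MulAut N) h :=
          mul_left_cancel (congrArg (fun u : Zn × Zn => (u.2 : N)) hvv)
        have hfixz : ∀ u : D, (u : MulAut N) z = z := by
          intro u
          obtain ⟨k, m, hm, hkm⟩ : ∃ k m, ¬ p ∣ m ∧ orderOf (u : MulAut N) = p ^ k * m :=
            Nat.exists_eq_pow_mul_and_not_dvd (orderOf_pos _).ne' p hpp.ne_one
          -- the centre is generated by a commutator
          have hc : ⁅e, h⁆ ∈ Zn := by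
            rw [← QuotientGroup.eq_one_iff, ← QuotientGroup.mk'_apply, map_commutatorElement,
              commutatorElement_eq_one_iff_mul_comm]
            exact IsPGroup.commutative_of_card_eq_prime_sq hKc _ _
          have hc1 : ⁅e, h⁆ ≠ 1 := by
            intro h0
            refine hh (hCQ (mem_centralizerIn.mpr ⟨hNS h.2, fun q hq => ?_⟩))
            have hQgen : (⟨q, hQN hq⟩ : N) ∈ Subgroup.zpowers z ⊔ Subgroup.zpowers e := by
              have heq : Subgroup.zpowers z ⊔ Subgroup.zpowers e = Q.subgroupOf N := by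
                have hlt : Subgroup.zpowers z < Subgroup.zpowers z ⊔ Subgroup.zpowers e :=
                  lt_of_le_of_ne le_sup_left fun h => hez (h.ge (Subgroup.mem_sup_right (Subgroup.mem_zpowers e)))
                have hle : Subgroup.zpowers z ⊔ Subgroup.zpowers e ≤ Q.subgroupOf N :=
                  sup_le ((Subgroup.zpowers_le).mpr hzQ) ((Subgroup.zpowers_le).mpr heQ)
                refine Subgroup.eq_of_le_of_card_ge hle ?_
                have hcz : Nat.card (Subgroup.zpowers z) = p := by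
                  rw [Nat.card_zpowers, orderOf_eq_prime (Subtype.ext (hNexp z z.2)) hz1]
                have h2 : Nat.card (Q.subgroupOf N) = p ^ 2 := by
                  rw [Nat.card_congr (Subgroup.subgroupOfEquivOfLe hQN).toEquiv, hQc]
                obtain ⟨i, hi, hi'⟩ := (Nat.dvd_prime_pow hpp).mp (h2 ▸ Subgroup.card_dvd_of_le hle)
                have hlt' : p < Nat.card ↥(Subgroup.zpowers z ⊔ Subgroup.zpowers e) := by
                  refine lt_of_le_of_ne (hcz ▸ Subgroup.card_le_of_le hlt.le) fun h => hlt.ne ?_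
                  exact Subgroup.eq_of_le_of_card_ge hlt.le (by rw [← h, hcz])
                rw [h2, hi']
                interval_cases i
                · rw [pow_zero] at hi'; have := hpp.two_le; omega
                · rw [pow_one] at hi'; omega
                · exact le_rfl
              rw [heq]; exact hq
            have hle' : Subgroup.zpowers z ⊔ Subgroup.zpowers e ≤ Subgroup.centralizer {h} :=
              sup_le ((Subgroup.zpowers_le).mpr (Subgroup.mem_centralizer_iff.mpr fun u hu => by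
                rw [hu]; exact hzc h))
                ((Subgroup.zpowers_le).mpr (Subgroup.mem_centralizer_iff.mpr fun u hu => by
                rw [hu]; exact (commutatorElement_eq_one_iff_mul_comm.mp h0).symm))
            exact (congrArg Subtype.val (Subgroup.mem_centralizer_iff.mp (hle' hQgen) h rfl)).symm
          have hzgen : z ∈ Subgroup.zpowers ⁅e, h⁆ := by
            have h3 : Subgroup.zpowers ⁅e, h⁆ = Zn := by
              refine Subgroup.eq_of_le_of_card_ge ((Subgroup.zpowers_le).mpr hc) ?_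
              rw [hZc, Nat.card_zpowers, orderOf_eq_prime (Subtype.ext (hNexp _ (⁅e, h⁆ : N).2)) hc1]
            rw [h3]; exact hzC
          obtain ⟨i, hi⟩ := Subgroup.mem_zpowers_iff.mp hzgen
          rw [← hi, map_zpow, map_commutatorElement]
          congr 1
          have hze' : ∀ g : N, g * (e⁻¹ * (u : MulAut N) e) = (e⁻¹ * (u : MulAut N) e) * g :=
            Subgroup.mem_center_iff.mp (QuotientGroup.eq.mp (DFunLike.congr_fun u.2 (QuotientGroup.mk e : K)).symm)
          have hzh' : ∀ g : N, g * (h⁻¹ * (u : MulAut N) h) = (h⁻¹ * (u : MulAut N) h) * g :=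
            Subgroup.mem_center_iff.mp (QuotientGroup.eq.mp (DFunLike.congr_fun u.2 (QuotientGroup.mk h : K)).symm)
          obtain ⟨c₁, hc₁, hc₁c⟩ : ∃ c, (u : MulAut N) e = e * c ∧ ∀ g, g * c = c * g :=
            ⟨_, (mul_inv_cancel_left _ _).symm, hze'⟩
          obtain ⟨c₂, hc₂, hc₂c⟩ : ∃ c, (u : MulAut N) h = h * c ∧ ∀ g, g * c = c * g :=
            ⟨_, (mul_inv_cancel_left _ _).symm, hzh'⟩
          rw [hc₁, hc₂, commutatorElement_def, commutatorElement_def, mul_inv_rev, mul_inv_rev]
          calc e * c₁ * (h * c₂) * (c₁⁻¹ * e⁻¹) * (c₂⁻¹ * h⁻¹)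
              = e * (c₁ * (h * c₂)) * c₁⁻¹ * e⁻¹ * c₂⁻¹ * h⁻¹ := by group
            _ = e * ((h * c₂) * c₁) * c₁⁻¹ * e⁻¹ * c₂⁻¹ * h⁻¹ := by rw [hc₁c]
            _ = e * h * (c₂ * e⁻¹) * c₂⁻¹ * h⁻¹ := by group
            _ = e * h * (e⁻¹ * c₂) * c₂⁻¹ * h⁻¹ := by rw [hc₂c]
            _ = _ := by group
        apply Subtype.ext
        let L : Subgroup N := MonoidHom.eqLocus (v : MulAut N).toMonoidHom (v' : MulAut N).toMonoidHom
        have hQL : Subgroup.zpowers z ⊔ Subgroup.zpowers e ⊔ Subgroup.zpowers h ≤ L :=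
          sup_le (sup_le ((Subgroup.zpowers_le).mpr ((hfixz v).trans (hfixz v').symm))
            ((Subgroup.zpowers_le).mpr h1)) ((Subgroup.zpowers_le).mpr h2)
        have hL : L = ⊤ := by
          refine eq_top_iff.mpr (le_trans ?_ hQL)
          have hnc : ∀ B : Subgroup N, p ^ 2 < Nat.card B → B = ⊤ := fun B hB => by
            refine Subgroup.eq_top_of_card_eq B ?_
            obtain ⟨i, hi, hi'⟩ := (Nat.dvd_prime_pow hpp).mp (hNc ▸ Subgroup.card_subgroup_dvd_card B)
            rw [hNc, hi']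
            rw [hi'] at hB
            have := (Nat.pow_lt_pow_iff_right hpp.one_lt).mp hB
            congr 1; omega
          refine (hnc _ ?_).ge
          have hlt : Subgroup.zpowers z ⊔ Subgroup.zpowers e <
              Subgroup.zpowers z ⊔ Subgroup.zpowers e ⊔ Subgroup.zpowers h :=
            lt_of_le_of_ne le_sup_left fun heq => hh ((sup_le ((Subgroup.zpowers_le).mpr hzQ)
              ((Subgroup.zpowers_le).mpr heQ) : Subgroup.zpowers z ⊔ Subgroup.zpowers e ≤ Q.subgroupOf N)
              (heq.ge (Subgroup.mem_sup_right (Subgroup.mem_zpowers h))))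
          refine lt_of_le_of_lt ?_ (lt_of_le_of_ne (Subgroup.card_le_of_le hlt.le)
            fun hc => hlt.ne (Subgroup.eq_of_le_of_card_ge hlt.le hc.ge))
          have hlt0 : Subgroup.zpowers z < Subgroup.zpowers z ⊔ Subgroup.zpowers e :=
            lt_of_le_of_ne le_sup_left fun hq => hez (hq.ge (Subgroup.mem_sup_right (Subgroup.mem_zpowers e)))
          have hcz : Nat.card (Subgroup.zpowers z) = p := by
            rw [Nat.card_zpowers, orderOf_eq_prime (Subtype.ext (hNexp z z.2)) hz1]
          obtain ⟨i, hi, hi'⟩ := (Nat.dvd_prime_pow hpp).mp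
            (hNc ▸ Subgroup.card_subgroup_dvd_card (Subgroup.zpowers z ⊔ Subgroup.zpowers e))
          have hlt' : p ^ 1 < p ^ i := by
            rw [← hi', pow_one]
            refine lt_of_le_of_ne (hcz ▸ Subgroup.card_le_of_le hlt0.le) fun hc => hlt0.ne ?_
            exact Subgroup.eq_of_le_of_card_ge hlt0.le (by rw [← hc, hcz])
          rw [hi']
          exact Nat.pow_le_pow_right hpp.pos ((Nat.pow_lt_pow_iff_right hpp.one_lt).mp hlt')
        exact MulEquiv.ext fun x => (hL.ge (Subgroup.mem_top x) : x ∈ L)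
      have hcI : Nat.card (Inn N) = p ^ 2 := by
        have hk : (MulAut.conj : N →* MulAut N).ker = Zn := by
          ext g
          rw [MonoidHom.mem_ker, Subgroup.mem_center_iff]
          constructor
          · intro hg x
            have := DFunLike.congr_fun hg x
            rw [MulAut.conj_apply, MulAut.one_apply, mul_inv_eq_iff_eq_mul] at this
            exact this.symm
          · intro hg
            refine MulEquiv.ext fun x => ?_
            rw [MulAut.conj_apply, ← hg x, mul_inv_cancel_right, MulAut.one_apply]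
        have h1 := (MulAut.conj : N →* MulAut N).ker.card_mul_index
        rw [Subgroup.index_ker, hk, hZc, hNc, pow_succ' p 2] at h1
        exact Nat.eq_of_mul_eq_mul_left hpp.pos h1
      have hD : Inn N = D := by
        refine Subgroup.eq_of_le_of_card_ge hI ?_
        rw [hcI]
        refine (Nat.card_le_card_of_injective f hf).trans (le_of_eq ?_)
        rw [Nat.card_prod, hZc, pow_two]
      exact hD ▸ hw
    have hker : ρ.ker = N.subgroupOf S := by
      ext g
      constructor
      · intro hg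
        exact (mem_inn_iff_mem hNS hCN g.2 (a := N.normalizerMonoidHom (Subgroup.inclusion hSN g))
          (fun x => rfl)).mp (htriv _ hg)
      · intro hg
        refine MulEquiv.ext fun x => ?_
        obtain ⟨x, rfl⟩ := QuotientGroup.mk_surjective x
        show QuotientGroup.mk (N.normalizerMonoidHom (Subgroup.inclusion hSN g) x) = QuotientGroup.mk x
        have hcm := IsPGroup.commutative_of_card_eq_prime_sq hKc
        rw [show N.normalizerMonoidHom (Subgroup.inclusion hSN g) x = (⟨g, hg⟩ : N) * x * (⟨g, hg⟩ : N)⁻¹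
          from Subtype.ext rfl, QuotientGroup.mk_mul, QuotientGroup.mk_mul, QuotientGroup.mk_inv, hcm,
          inv_mul_cancel_left]
    have hle : (N.subgroupOf S).index ≤ p := by
      rw [← hker, Subgroup.index_ker]
      exact card_aut_le hKc _ (hS.of_surjective ρ.rangeRestrict ρ.rangeRestrict_surjective)
    obtain ⟨i, hi⟩ := IsPGroup.iff_card.mp (hS.to_quotient (N.subgroupOf S))
    rw [← Subgroup.index_eq_card] at hi
    rw [hi] at hle ⊢
    have hi1 : i ≠ 0 := fun h0 => hNne (le_antisymm hNS fun x hx => by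
      have := Subgroup.index_eq_one.mp (hi.trans (by rw [h0, pow_zero]))
      exact this.ge (Subgroup.mem_top (⟨x, hx⟩ : S)))
    have : i ≤ 1 := (Nat.pow_le_pow_iff_right hpp.one_lt).mp (by rwa [pow_one])
    rw [show i = 1 by omega, pow_one]
  -- every element of `S` induces an element of `O`
  have hOall : ∀ g ∈ S, ∃ β ∈ O, ∀ x : N, ((β x : N) : Ω) = g * x * g⁻¹ := by
    let H : Subgroup S := O.comap (N.normalizerMonoidHom.comp (Subgroup.inclusion hSN))
    have hH1 : N.subgroupOf S ≤ H := fun g hg => hInnO ((mem_inn_iff_mem hNS hCN g.2 (fun x => rfl)).mpr hg)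
    have hH2 : (⟨s₀, hs₀⟩ : S) ∈ H := by
      show N.normalizerMonoidHom _ ∈ O
      convert hαO using 1
      exact MulEquiv.ext fun x => Subtype.ext (hs₀e x).symm
    have hH : H = ⊤ := by
      have h1 := Subgroup.index_dvd_of_le hH1
      rw [hidx] at h1
      rcases (Nat.dvd_prime hpp).mp h1 with h | h
      · exact Subgroup.index_eq_one.mp h
      · exfalso
        refine hs₀N ?_
        have heq : N.subgroupOf S = H := by
          refine Subgroup.eq_of_le_of_card_ge hH1 ?_
          have h3 := H.card_mul_index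
          have h4 := (N.subgroupOf S).card_mul_index
          rw [h] at h3; rw [hidx] at h4
          exact le_of_eq (Nat.eq_of_mul_eq_mul_right hpp.pos (h3.trans h4.symm))
        exact heq.ge hH2
    intro g hg
    exact ⟨_, hH.ge (Subgroup.mem_top (⟨g, hg⟩ : S)), fun x => rfl⟩
  -- extend the automorphism to `S`
  obtain ⟨f, hf, hfN, hfe⟩ := exists_mapFn_of_aut hNS hτ
  obtain ⟨f', hf', hf'e⟩ := hf.exists_extension hNr hfN hNS hNN.ge fun g hg => by
    obtain ⟨β, hβ, hβe⟩ := hOall g hg
    obtain ⟨b, hb', rfl⟩ := hβ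
    have hmem : ((⟨τ, hτ⟩ * b * (⟨τ, hτ⟩ : F.autGroup N)⁻¹ : F.autGroup N) : MulAut N) ∈ O :=
      ⟨_, (pCore_normal p _).conj_mem b hb' _, rfl⟩
    obtain ⟨t, ht, hte⟩ := mem_autInducedBy.mp (hOS hmem)
    refine ⟨t, ht, fun x hx => ?_⟩
    have h1 := hte (τ ⟨x, hx⟩)
    rw [Subgroup.coe_mul, Subgroup.coe_mul, Subgroup.coe_inv, MulAut.mul_apply, MulAut.mul_apply,
      MulAut.inv_apply, MulEquiv.symm_apply_apply, ← hfe, ← hfe] at h1
    rw [← h1]
    exact congrArg f (hβe ⟨x, hx⟩).symm
  have hf'S : f' '' S = (S : Set Ω) := hf'.image_eq_of_maps le_rfl (fun x hx => hf'.mem_S hx) le_rfl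
  obtain ⟨τS, -, hτSe⟩ := hf'.exists_aut hf'S
  have hτSN : ∀ x : N, ((τS ⟨x, hNS x.2⟩ : S) : Ω) = τ x := fun x =>
    (hτSe _).trans ((hf'e x x.2).trans (hfe x))
  have hG4 : Nat.card S = p ^ 4 := by
    rw [← (N.subgroupOf S).card_mul_index, hidx, Nat.card_congr (Subgroup.subgroupOfEquivOfLe hNS).toEquiv,
      hNc, ← pow_succ]
  refine false_of_extension hp hS hG4 hb (N.subgroupOf S) (Q.subgroupOf S) hNω
    (by rw [Nat.card_congr (Subgroup.subgroupOfEquivOfLe hNS).toEquiv, hNc])
    (fun x hx => hQN hx)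
    (by rw [Nat.card_congr (Subgroup.subgroupOfEquivOfLe hQS).toEquiv, hQc])
    (z := ⟨z, hNS z.2⟩) (e := ⟨e, hNS e.2⟩) hzQ
    (fun h => hz1 (Subtype.ext (congrArg (fun w : S => (w : Ω)) h)))
    (fun g hg => Subtype.ext (congrArg (fun w : N => (w : Ω)) (hzc ⟨g, hg⟩)))
    heQ (fun h => hez ?_) ?_ ?_ τS ha haa ?_ ?_
  · obtain ⟨k, hk⟩ := h
    refine ⟨k, Subtype.ext ?_⟩
    have h1 := congrArg (fun w : S => (w : Ω)) hk
    simpa using h1
  · intro g hg hgc
    exact hCQ (mem_centralizerIn.mpr ⟨g.2, fun q hq =>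
      (congrArg Subtype.val (hgc ⟨q, hQS hq⟩ hq)).symm⟩)
  · intro g hg
    have := finite_of_le hQS
    exact ⟨g.2, mem_normalizer_of_forall fun q hq => hg ⟨q, hQS hq⟩ hq⟩
  · refine Subtype.ext ((hτSN z).trans ?_)
    rw [hτz]; simp
  · refine Subtype.ext ((hτSN e).trans ?_)
    rw [hτe]; simp

/-- `S` is resistant. -/
theorem isNormal_of_rank_two (hp : 5 ≤ p) (hS : IsPGroup p S) (hF : F.IsSaturated p)
    (hrk : ∀ E : Subgroup Ω, E ≤ S → IsElementaryAbelian p E → Nat.card E ≤ p ^ 2)
    (hnE : ¬ (Nat.card S = p ^ 3 ∧ Monoid.exponent S = p)) : F.IsNormal S := by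
  refine isNormal_of_radicals hS hF le_rfl fun R hRn hRc hRr => ?_
  obtain rfl := eq_top_of_radical hp hS hF (bounds_of_rank hp hS hrk) hnE hRn hRc hRr
  exact ⟨le_rfl, fun a _ ha => ha⟩

end Fusion

end CfsgLib.FusionNormal.RankTwo
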