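import Cfsg.Agent.Lib.Fusion.SmallEssential
import Cfsg.Agent.Lib.S3FPF.FixCoset
import Cfsg.Agent.Lib.PCore.Basic

/-!
# Diagonal automorphisms of a group of order `p²`
-/

set_option autoImplicit false

namespace CfsgLib.FusionNormal.RankTwo

open CfsgLib.FusionSmall

variable {K : Type*} [Group K] [Finite K] {p : ℕ} [Fact p.Prime]

theorem pow_eq_of_zpowers {x h : K} (hx : x ^ p = 1) (hh : h ∈ Subgroup.zpowers x) :
    ∃ a : ZMod p, x ^ a.val = h := by
  obtain ⟨n, rfl⟩ := Submonoid.mem_powers_iff h x |>.mp (mem_powers_iff_mem_zpowers.mpr hh)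
  exact ⟨n, pow_val_natCast hx n⟩

theorem pow_val_inj {x : K} (hx : x ^ p = 1) (hx1 : x ≠ 1) {a b : ZMod p}
    (h : x ^ a.val = x ^ b.val) : a = b := by
  rw [pow_inj_mod, orderOf_eq_prime hx hx1, Nat.mod_eq_of_lt a.val_lt,
    Nat.mod_eq_of_lt b.val_lt] at h
  exact ZMod.val_injective p h

theorem aut_eq_of_basis (hK : Nat.card K = p ^ 2) {x y : K} (hx : x ^ p = 1) (hx1 : x ≠ 1)
    (hy : y ∉ Subgroup.zpowers x) {v w : MulAut K} (h1 : v x = w x) (h2 : v y = w y) : v = w := by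
  let H : Subgroup K := MonoidHom.eqLocus v.toMonoidHom w.toMonoidHom
  have hle : Subgroup.zpowers x < H := lt_of_le_of_ne ((Subgroup.zpowers_le).mpr h1)
    fun e => hy (e ▸ (h2 : y ∈ H))
  have hH : H = ⊤ := by
    refine Subgroup.eq_top_of_card_eq H ?_
    have hc : Nat.card (Subgroup.zpowers x) = p := by rw [Nat.card_zpowers, orderOf_eq_prime hx hx1]
    obtain ⟨i, hi, hi'⟩ := (Nat.dvd_prime_pow (Fact.out : p.Prime)).mp
      (hK ▸ Subgroup.card_subgroup_dvd_card H)
    have hlt : p < Nat.card H := by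
      refine lt_of_le_of_ne (hc ▸ Subgroup.card_le_of_le hle.le) fun e => hle.ne ?_
      exact Subgroup.eq_of_le_of_card_ge hle.le (by rw [← e, hc])
    interval_cases i
    · rw [pow_zero] at hi'; have := (Fact.out : p.Prime).two_le; omega
    · rw [pow_one] at hi'; omega
    · rw [hi', hK]
  exact MulEquiv.ext fun k => (hH.ge (Subgroup.mem_top k) : k ∈ H)

/-- A `p`-group of automorphisms of a group of order `p²` has order at most `p`. -/
theorem card_aut_le (hK : Nat.card K = p ^ 2) (P : Subgroup (MulAut K)) (hP : IsPGroup p P) :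
    Nat.card P ≤ p := by
  classical
  by_cases hP1 : P = ⊥
  · rw [hP1, Subgroup.card_bot]; exact (Fact.out : p.Prime).one_lt.le
  have := (Subgroup.nontrivial_iff_ne_bot P).mpr hP1
  have : Finite (MulAut K) := Finite.of_injective (fun f : MulAut K => (f : K → K)) DFunLike.coe_injective
  -- a central element of order `p`
  obtain ⟨z, hz⟩ : ∃ z : Subgroup.center P, z ≠ 1 := by
    have := hP.center_nontrivial
    exact exists_ne 1
  obtain ⟨k, hk⟩ := (hP.to_subgroup (Subgroup.center P)) z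
  have hex : ∃ j, z ^ p ^ j = 1 := ⟨k, hk⟩
  set j := Nat.find hex with hj
  have hj0 : j ≠ 0 := fun e => hz (by have := Nat.find_spec hex; rwa [← hj, e, pow_zero, pow_one] at this)
  set c : Subgroup.center P := z ^ p ^ (j - 1)
  have hc1 : c ≠ 1 := Nat.find_min hex (by omega)
  have hcp : c ^ p = 1 := by
    rw [← pow_mul, ← pow_succ, show j - 1 + 1 = j by omega]; exact Nat.find_spec hex
  set u : MulAut K := ((c : P) : MulAut K)
  have hu1 : u ≠ 1 := fun h => hc1 (Subtype.ext (Subtype.ext h))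
  have hup : u ^ p = 1 := congrArg (fun d : Subgroup.center P => ((d : P) : MulAut K)) hcp
  obtain ⟨x, hx1, hx, hux, hfix, hcom⟩ := exists_line hK hup hu1
  obtain ⟨y, hy⟩ : ∃ y : K, y ∉ Subgroup.zpowers x := by
    by_contra h
    push Not at h
    have := Subgroup.card_eq_iff_eq_top (Subgroup.zpowers x) |>.mpr (Subgroup.eq_top_iff' _ |>.mpr h)
    rw [Nat.card_zpowers, orderOf_eq_prime hx hx1, hK] at this
    have := (Fact.out : p.Prime).two_le
    nlinarith
  -- every element fixes `x`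
  have hPx : ∀ w ∈ P, w x ∈ Subgroup.zpowers x := fun w hw => by
    refine hfix _ ?_
    have hcm : (⟨w, hw⟩ : P) * (c : P) = (c : P) * ⟨w, hw⟩ := Subgroup.mem_center_iff.mp c.2 _
    have h1 : w (u x) = u (w x) := congrArg (fun d : P => (d : MulAut K) x) hcm
    rw [hux] at h1
    exact h1.symm
  have hfx : ∀ w ∈ P, w x = x := fun w hw => by
    obtain ⟨a, ha⟩ := pow_eq_of_zpowers hx (hPx w hw)
    have hn : ∀ n : ℕ, (w ^ n) x = x ^ (a ^ n).val := by
      intro n
      induction n with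
      | zero => simp [ZMod.val_one]
      | succ n ih =>
        rw [pow_succ', MulAut.mul_apply, ih, map_pow, ← ha, ← pow_val_mul hx, pow_succ']
    obtain ⟨m, hm⟩ := hP ⟨w, hw⟩
    have hm' : w ^ p ^ m = 1 := congrArg Subtype.val hm
    have h1 := hn (p ^ m)
    rw [hm', MulAut.one_apply, ZMod.pow_card_pow, ha] at h1
    exact h1.symm
  have hmem : ∀ w ∈ P, y⁻¹ * w y ∈ Subgroup.zpowers x := fun w hw => by
    refine hfix _ ?_
    have hcm : (⟨w, hw⟩ : P) * (c : P) = (c : P) * ⟨w, hw⟩ := Subgroup.mem_center_iff.mp c.2 _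
    have h1 : w (u y) = u (w y) := congrArg (fun d : P => (d : MulAut K) y) hcm
    obtain ⟨a, ha⟩ := pow_eq_of_zpowers hx (hcom y)
    rw [show u y = y * x ^ a.val by rw [ha, mul_inv_cancel_left], map_mul, map_pow, hfx w hw] at h1
    rw [map_mul, map_inv, ← h1, show u y = y * x ^ a.val by rw [ha, mul_inv_cancel_left]]
    have hcomm := IsPGroup.commutative_of_card_eq_prime_sq hK
    rw [hcomm y (x ^ a.val), mul_inv_rev, hcomm (w y) (x ^ a.val)]
    group
  let f : P → Subgroup.zpowers x := fun w => ⟨y⁻¹ * (w : MulAut K) y, hmem w w.2⟩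
  have hf : Function.Injective f := fun v w h => Subtype.ext (aut_eq_of_basis hK hx hx1 hy
    ((hfx v v.2).trans (hfx w w.2).symm) (mul_left_cancel (congrArg Subtype.val h)))
  refine (Nat.card_le_card_of_injective f hf).trans ?_
  rw [Nat.card_zpowers, orderOf_eq_prime hx hx1]

/-- Without a normal `p`-subgroup, a group of automorphisms of a group of order `p²` contains the
diagonal automorphisms with respect to a basis adapted to a given element of order `p`. -/
theorem exists_torus (hK : Nat.card K = p ^ 2) (A : Subgroup (MulAut K))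
    (hA : Cfsg.pCore p A = ⊥) {u : MulAut K} (huA : u ∈ A) (hup : u ^ p = 1) (hu1 : u ≠ 1) :
    ∃ (x y : K) (m : ZMod p), x ^ p = 1 ∧ x ≠ 1 ∧ y ^ p = 1 ∧ y ∉ Subgroup.zpowers x ∧ m ≠ 0 ∧
      u x = x ∧ u y = y * x ^ m.val ∧
      ∀ a : ZMod p, a ≠ 0 → ∃ t ∈ A, t x = x ^ a.val ∧ t y = y ^ (a⁻¹).val := by
  have : Finite (MulAut K) := Finite.of_injective (fun f : MulAut K => (f : K → K)) DFunLike.coe_injective
  have hcomm := IsPGroup.commutative_of_card_eq_prime_sq hK
  obtain ⟨x, hx1, hx, hux, hfix, hcom⟩ := exists_line hK hup hu1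
  obtain ⟨g, hgA, hgx⟩ : ∃ g ∈ A, g x ∉ Subgroup.zpowers x := by
    by_contra hall
    push Not at hall
    have hX : ∀ g ∈ A, ∀ h ∈ Subgroup.zpowers x, g h ∈ Subgroup.zpowers x := by
      rintro g hg _ ⟨n, rfl⟩
      rw [map_zpow]
      exact Subgroup.zpow_mem _ (hall g hg) n
    let N : Subgroup A :=
      { carrier := {a | (a : MulAut K) x = x ∧ ∀ h, h⁻¹ * (a : MulAut K) h ∈ Subgroup.zpowers x}
        one_mem' := ⟨rfl, fun h => by simp⟩
        mul_mem' := fun {a b} ha hb => ⟨by rw [Subgroup.coe_mul, MulAut.mul_apply, hb.1, ha.1], fun h => by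
          have h1 := Subgroup.mul_mem _ (hb.2 h) (ha.2 ((b : MulAut K) h))
          rwa [mul_assoc, mul_inv_cancel_left] at h1⟩
        inv_mem' := fun {a} ha => ⟨by
          have e := congrArg ((a : MulAut K)⁻¹ : MulAut K) ha.1
          rw [MulAut.inv_apply_self] at e
          exact e.symm, fun h => by
          have h1 := Subgroup.inv_mem _ (ha.2 ((a : MulAut K)⁻¹ h))
          rwa [MulAut.apply_inv_self, mul_inv_rev, inv_inv] at h1⟩ }
    have hN : N.Normal := ⟨fun a ha g => by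
      refine ⟨?_, fun h => ?_⟩
      · obtain ⟨n, hn⟩ := hX _ (A.inv_mem g.2) x (Subgroup.mem_zpowers x)
        show (g : MulAut K) ((a : MulAut K) ((g : MulAut K)⁻¹ x)) = x
        rw [← show x ^ n = (g : MulAut K)⁻¹ x from hn, map_zpow, ha.1,
          show x ^ n = (g : MulAut K)⁻¹ x from hn, MulAut.apply_inv_self]
      · have h1 := hX _ g.2 _ (ha.2 ((g : MulAut K)⁻¹ h))
        rwa [map_mul, map_inv, MulAut.apply_inv_self] at h1⟩
    have hNp : IsPGroup p N := fun a => ⟨1, by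
      refine Subtype.ext (Subtype.ext (MulEquiv.ext fun h => ?_))
      obtain ⟨n, hn⟩ := a.2.2 h
      have hn' : x ^ n = h⁻¹ * ((a : A) : MulAut K) h := hn
      have e := (aut_pow (w := ((a : A) : MulAut K)) (x := x) (y := h) (z := x ^ n)
        (by rw [map_zpow, a.2.1]) (by rw [hn', mul_inv_cancel_left]) a.2.1 p).1
      rw [← zpow_natCast (x ^ n), ← zpow_mul, mul_comm n, zpow_mul, zpow_natCast, hx, one_zpow, mul_one] at e
      simpa using e⟩
    have hle : N ≤ ⊥ := hA ▸ CfsgLib.PCore.le_pCore hN hNp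
    have huN : (⟨u, huA⟩ : A) ∈ N := ⟨hux, hcom⟩
    exact hu1 (congrArg Subtype.val (Subgroup.mem_bot.mp (hle huN)))
  set y := g x with hydef
  have hy : y ^ p = 1 := by rw [hydef, ← map_pow, hx, map_one]
  have hy1 : y ≠ 1 := fun h => hgx (by rw [h]; exact Subgroup.one_mem _)
  have hxy : x ∉ Subgroup.zpowers y := by
    intro h
    have hle : Subgroup.zpowers x ≤ Subgroup.zpowers y := (Subgroup.zpowers_le).mpr h
    refine hgx ((Subgroup.eq_of_le_of_card_ge hle ?_).ge (Subgroup.mem_zpowers y))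
    rw [Nat.card_zpowers, Nat.card_zpowers, orderOf_eq_prime hx hx1, orderOf_eq_prime hy hy1]
  obtain ⟨m, hm⟩ := pow_eq_of_zpowers hx (hcom y)
  have hm0 : m ≠ 0 := by
    rintro rfl
    rw [ZMod.val_zero, pow_zero, eq_comm, inv_mul_eq_one] at hm
    exact hgx (hfix y hm.symm)
  have huy : u y = y * x ^ m.val := by rw [hm, mul_inv_cancel_left]
  set v := g * u * g⁻¹ with hvdef
  have hvA : v ∈ A := A.mul_mem (A.mul_mem hgA huA) (A.inv_mem hgA)
  have hvy : v y = y := by simp [hvdef, hydef, hux]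
  have hvn : ∀ h, h⁻¹ * v h ∈ Subgroup.zpowers y := fun h => by
    obtain ⟨n, hn⟩ := hcom (g⁻¹ h)
    refine ⟨n, ?_⟩
    show y ^ n = _
    rw [hydef, ← map_zpow, show x ^ n = _ from hn, map_mul, map_inv, MulAut.apply_inv_self]
    rfl
  obtain ⟨m', hm'⟩ := pow_eq_of_zpowers hy (hvn x)
  have hm'0 : m' ≠ 0 := by
    rintro rfl
    rw [ZMod.val_zero, pow_zero, eq_comm, inv_mul_eq_one] at hm'
    have h1 : u (g⁻¹ x) = g⁻¹ x := g.injective (by
      rw [MulAut.apply_inv_self]; exact (hm'.symm : v x = x))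
    obtain ⟨n, hn⟩ := hfix _ h1
    exact hxy ⟨n, by
      show y ^ n = x
      rw [hydef, ← map_zpow, show x ^ n = _ from hn, MulAut.apply_inv_self]⟩
  have hvx : v x = x * y ^ m'.val := by rw [hm', mul_inv_cancel_left]
  -- coordinates
  let f : ZMod p → ZMod p → K := fun a b => x ^ a.val * y ^ b.val
  have hU : ∀ c : ZMod p, ∃ w ∈ A, ∀ a b, w (f a b) = f (a + c * b) b := by
    intro c
    refine ⟨u ^ (c * m⁻¹).val, A.pow_mem huA _, fun a b => ?_⟩
    obtain ⟨h1, h2⟩ := aut_pow (w := u) (x := x) (y := y) (z := x ^ m.val) (by rw [map_pow, hux]) huy hux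
      (c * m⁻¹).val
    simp only [f, map_mul, map_pow, h1, h2]
    rw [← pow_val_mul hx, show m * (c * m⁻¹) = c by rw [mul_comm c, ← mul_assoc, mul_inv_cancel₀ hm0, one_mul],
      (show Commute y (x ^ c.val) from hcomm _ _).mul_pow, ← pow_val_mul hx, pow_val_add hx,
      hcomm (y ^ b.val), ← mul_assoc]
  have hL : ∀ c : ZMod p, ∃ w ∈ A, ∀ a b, w (f a b) = f a (b + c * a) := by
    intro c
    refine ⟨v ^ (c * m'⁻¹).val, A.pow_mem hvA _, fun a b => ?_⟩
    obtain ⟨h1, h2⟩ := aut_pow (w := v) (x := y) (y := x) (z := y ^ m'.val) (by rw [map_pow, hvy]) hvx hvy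
      (c * m'⁻¹).val
    simp only [f, map_mul, map_pow, h1, h2]
    rw [← pow_val_mul hy, show m' * (c * m'⁻¹) = c by rw [mul_comm c, ← mul_assoc, mul_inv_cancel₀ hm'0, one_mul],
      (show Commute x (y ^ c.val) from hcomm _ _).mul_pow, ← pow_val_mul hy, pow_val_add hy, mul_assoc,
      hcomm (y ^ (c * a).val)]
  refine ⟨x, y, m, hx, hx1, hy, hgx, hm0, hux, huy, fun a ha => ?_⟩
  obtain ⟨w₁, hw₁, e₁⟩ := hU a
  obtain ⟨w₂, hw₂, e₂⟩ := hL (-a⁻¹)
  obtain ⟨w₃, hw₃, e₃⟩ := hU (-1)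
  obtain ⟨w₄, hw₄, e₄⟩ := hL 1
  refine ⟨w₁ * w₂ * w₁ * (w₃ * w₄ * w₃),
    A.mul_mem (A.mul_mem (A.mul_mem hw₁ hw₂) hw₁) (A.mul_mem (A.mul_mem hw₃ hw₄) hw₃), ?_, ?_⟩
  · have h := congrArg (fun k => (w₁ * w₂ * w₁ * (w₃ * w₄ * w₃)) k)
      (show x = f 1 0 by simp [f, ZMod.val_one])
    simp only [MulAut.mul_apply, e₁, e₂, e₃, e₄] at h
    simp only [MulAut.mul_apply]
    rw [h]
    have e : (a⁻¹ * a : ZMod p) = 1 := inv_mul_cancel₀ ha
    simp [f, e, neg_mul, mul_neg]
  · have h := congrArg (fun k => (w₁ * w₂ * w₁ * (w₃ * w₄ * w₃)) k)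
      (show y = f 0 1 by simp [f, ZMod.val_one])
    simp only [MulAut.mul_apply, e₁, e₂, e₃, e₄] at h
    simp only [MulAut.mul_apply]
    rw [h]
    have e : (a * a⁻¹ : ZMod p) = 1 := mul_inv_cancel₀ ha
    simp [f, e, neg_mul, mul_neg]

/-- Fixed points of an automorphism of order prime to `p` in invariant cosets of a `p`-group. -/
theorem exists_fixed_mem_coset {G : Type*} [Group G] [Finite G] (hG : IsPGroup p G) {σ : MulAut G}
    (hσ : (orderOf σ).Coprime p) (N : Subgroup G) (hN : ∀ n ∈ N, σ n ∈ N) {x : G}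
    (hx : x⁻¹ * σ x ∈ N) : ∃ y, x⁻¹ * y ∈ N ∧ σ y = y := by
  have : Finite (MulAut G) := Finite.of_injective (fun f : MulAut G => (f : G → G)) DFunLike.coe_injective
  haveI : Group.IsNilpotent N := (hG.to_subgroup N).isNilpotent
  obtain ⟨k, hk⟩ := IsPGroup.iff_card.mp hG
  have hcop : (Nat.card (Subgroup.zpowers σ)).Coprime (Nat.card G) := by
    rw [Nat.card_zpowers, hk]; exact hσ.pow_right k
  have key : ∀ n : ℕ, (∀ m ∈ N, (σ ^ n) m ∈ N) ∧ x⁻¹ * (σ ^ n) x ∈ N := by
    intro n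
    induction n with
    | zero => exact ⟨fun m hm => hm, by simp⟩
    | succ n ih =>
      refine ⟨fun m hm => by rw [pow_succ', MulAut.mul_apply]; exact hN _ (ih.1 m hm), ?_⟩
      have h1 := N.mul_mem hx (hN _ ih.2)
      rw [map_mul, map_inv, mul_assoc, mul_inv_cancel_left] at h1
      rw [pow_succ', MulAut.mul_apply]
      exact h1
  have hz : ∀ a : Subgroup.zpowers σ, ∃ n : ℕ, (a : MulAut G) = σ ^ n := fun a => by
    obtain ⟨n, hn⟩ := Submonoid.mem_powers_iff (a : MulAut G) σ |>.mp (mem_powers_iff_mem_zpowers.mpr a.2)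
    exact ⟨n, hn.symm⟩
  obtain ⟨y, hy, hyf⟩ := CfsgLib.S3FPF.exists_fixed_in_coset (Subgroup.zpowers σ).subtype hcop N
    (fun a n hn => by obtain ⟨j, hj⟩ := hz a; simp only [Subgroup.subtype_apply, hj]; exact (key j).1 n hn) x
    (fun a => by obtain ⟨j, hj⟩ := hz a; simp only [Subgroup.subtype_apply, hj]; exact (key j).2)
  exact ⟨y, hy, hyf ⟨σ, Subgroup.mem_zpowers σ⟩⟩

end CfsgLib.FusionNormal.RankTwo
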