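import Cfsg.Agent.Lib.FusionNormal.TransferCentral
import Cfsg.Agent.Lib.FusionNormal.CenterFactor
import Cfsg.Agent.Lib.Fusion.Factor
import Cfsg.Agent.Lib.Fusion.Normal

/-!
# The second centre of a perfect saturated system

In a saturated system that coincides with its `p`-residual, an element that is central modulo the
centre is central (an analogue of Grün's lemma).
-/

namespace CfsgLib.FusionNormal

open Cfsg Cfsg.FusionSystem CfsgLib.Fusion CfsgLib.FusionExt CfsgLib.FusionFactor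
open CfsgLib.FusionExtend (sc_apply)
open scoped commutatorElement

universe u v

variable {Ω : Type u} [Group Ω] {S : Subgroup Ω} {F : FusionSystem S} {p : ℕ}
  {Ω' : Type v} [Group Ω'] {S' : Subgroup Ω'}

/-- The centre is strongly closed. -/
theorem stronglyClosed_center [Finite S] (F : FusionSystem S) : F.StronglyClosed F.center :=
  ⟨(isCentral_center F).1, fun R hR φ hφ x => by rw [center_fixed hφ x (hR x.2)]; exact hR x.2⟩

/-- Every map can be changed modulo the centre so as to fix an element central modulo the centre. -/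
theorem exists_congr_fixing [Finite S] [Finite S'] {θ : S →* Ω'} {E : FusionSystem S'}
    (hE : F.IsFactorSystem F.center θ E) {s : S} (hs : θ s ∈ E.center)
    {P : Subgroup Ω} {φ : P →* Ω} (hφ : φ ∈ F.Hom P) :
    ∃ (Q : Subgroup Ω) (ψ : Q →* Ω) (_ : ψ ∈ F.Hom Q) (hPQ : P ≤ Q) (hsQ : (s : Ω) ∈ Q),
      (∀ y : P, (ψ ⟨y, hPQ y.2⟩)⁻¹ * φ y ∈ F.center) ∧ (ψ ⟨s, hsQ⟩)⁻¹ * (s : Ω) ∈ F.center := by
  obtain ⟨hZS, hk, hrange, hmaps⟩ := hE
  obtain ⟨φ₁, hφ₁, hφe, -⟩ := (isCentral_center F).2 P φ hφ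
  have hP := le_S hφ
  have hpre : preimageAlong θ (imageAlong θ P) = P ⊔ F.center := preimageAlong_imageAlong hk hZS hP
  have hsc := stronglyClosed_center F
  have hP' : imageAlong θ P ≤ θ.range := imageAlong_le_range P
  have hχ := restrict_mem (F := F) hpre.le hφ₁
  obtain ⟨φ', hφ'⟩ := exists_induced hk hsc hP' hχ
  have hφ'E : φ' ∈ E.Hom (imageAlong θ P) := (hmaps _ _).mpr ⟨hrange ▸ hP', _, hχ, hφ'⟩
  obtain ⟨ψ', hψ', hψ'e, hψ'Z⟩ := (isCentral_center E).2 _ φ' hφ'E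
  obtain ⟨hle, ψ, hψ, hind⟩ := (hmaps _ _).mp hψ'
  have hPQ : P ≤ preimageAlong θ (imageAlong θ P ⊔ E.center) := fun y hy =>
    mem_preimageAlong.mpr ⟨hP hy, Subgroup.mem_sup_left ⟨⟨y, hP hy⟩, hy, rfl⟩⟩
  have hsQ : (s : Ω) ∈ preimageAlong θ (imageAlong θ P ⊔ E.center) :=
    mem_preimageAlong.mpr ⟨s.2, Subgroup.mem_sup_right hs⟩
  refine ⟨_, ψ, hψ, hPQ, hsQ, fun y => ?_, ?_⟩
  · obtain ⟨h1, h2, h3, h4⟩ := hind
    obtain ⟨g1, g2, g3, g4⟩ := hφ'
    have hy : (y : Ω) ∈ preimageAlong θ (imageAlong θ P) := hpre ▸ Subgroup.mem_sup_left y.2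
    refine (theta_eq_iff hk ⟨_, apply_mem_S hψ _⟩ ⟨_, apply_mem_S hφ y⟩).mp ?_
    rw [← h4 ⟨y, hPQ y.2⟩]
    have e1 := g4 ⟨y, hy⟩
    refine Eq.trans ?_ ((hψ'e ⟨θ ⟨y, g1 hy⟩, g3 ⟨y, hy⟩⟩).trans (e1.trans ?_))
    · rfl
    · refine congrArg θ (Subtype.ext ?_)
      show φ₁ _ = φ y
      rw [← hφe y]
      rfl
  · obtain ⟨h1, h2, h3, h4⟩ := hind
    refine (theta_eq_iff hk ⟨_, apply_mem_S hψ _⟩ s).mp ?_
    rw [← h4 ⟨s, hsQ⟩]
    exact hψ'Z ⟨θ s, hs⟩

/-- An element central modulo the centre has stable commutators. -/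
theorem commutator_stable [Finite S] [Finite S'] {θ : S →* Ω'} {E : FusionSystem S'}
    (hE : F.IsFactorSystem F.center θ E) {s : S} (hs : θ s ∈ E.center)
    {P : Subgroup Ω} {φ : P →* Ω} (hφ : φ ∈ F.Hom P) (y : P) :
    ⁅(s : Ω), φ y⁆ = ⁅(s : Ω), (y : Ω)⁆ ∧ ⁅(s : Ω), (y : Ω)⁆ ∈ F.center := by
  obtain ⟨hZS, hk, hrange, -⟩ := id hE
  have hcc : ∀ t : S, ⁅(s : Ω), (t : Ω)⁆ ∈ F.center := by
    intro t
    have h1 : θ ⁅s, t⁆ = 1 := by
      rw [map_commutatorElement, commutatorElement_eq_one_iff_mul_comm]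
      have h2 := (mem_centralizerIn'.mp (center_le_centralizerIn E hs)).2 ⟨θ t, hrange ▸ ⟨t, rfl⟩⟩
      exact mul_inv_eq_iff_eq_mul.mp h2
    simpa [commutatorElement_def] using (hk _).mp h1
  refine ⟨?_, hcc ⟨y, le_S hφ y.2⟩⟩
  obtain ⟨Q, ψ, hψ, hPQ, hsQ, h1, h2⟩ := exists_congr_fixing hE hs hφ
  have hc : ∀ z ∈ F.center, ∀ t ∈ S, z * t = t * z := fun z hz t ht =>
    mul_inv_eq_iff_eq_mul.mp ((mem_centralizerIn'.mp (center_le_centralizerIn F hz)).2 ⟨t, ht⟩)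
  have key : ∀ a b z w : Ω, a ∈ S → b ∈ S → z ∈ F.center → w ∈ F.center → ⁅a * z, b * w⁆ = ⁅a, b⁆ := by
    intro a b z w ha hb hz hw
    have hbw : b * w ∈ S := S.mul_mem hb (hZS hw)
    simp only [commutatorElement_def, mul_inv_rev]
    rw [show a * z * (b * w) * (z⁻¹ * a⁻¹) * (w⁻¹ * b⁻¹) = a * (z * (b * w) * z⁻¹) * a⁻¹ * w⁻¹ * b⁻¹ by group,
      hc z hz _ hbw, mul_inv_cancel_right,
      show a * (b * w) * a⁻¹ * w⁻¹ = a * b * (w * a⁻¹ * w⁻¹) by group,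
      hc w hw _ (S.inv_mem ha), mul_inv_cancel_right]
  have hy : ⁅(s : Ω), φ y⁆ = ψ ⁅(⟨s, hsQ⟩ : Q), (⟨y, hPQ y.2⟩ : Q)⁆ := by
    rw [map_commutatorElement]
    have e := key (ψ ⟨s, hsQ⟩) (ψ ⟨y, hPQ y.2⟩) _ _ (apply_mem_S hψ _) (apply_mem_S hψ _) h2 (h1 y)
    rwa [mul_inv_cancel_left, mul_inv_cancel_left] at e
  rw [hy, center_fixed hψ _ (by simpa [commutatorElement_def] using hcc ⟨y, le_S hφ y.2⟩)]
  simp [commutatorElement_def]

theorem center_factor_eq_bot [Finite S] [Finite S'] [Fact p.Prime] (hS : IsPGroup p S)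
    (hF : F.IsSaturated p) (hperf : F.hyperfocalSubgroup p = S) {θ : S →* Ω'} {E : FusionSystem S'}
    (hE : F.IsFactorSystem F.center θ E) : E.center = ⊥ := by
  rw [eq_bot_iff]
  intro w hw
  obtain ⟨hZS, hk, hrange, -⟩ := id hE
  obtain ⟨s, rfl⟩ : w ∈ θ.range := hrange ▸ (isCentral_center E).1 hw
  rw [Subgroup.mem_bot, hk]
  -- `s` centralises `S`
  have hcomm : ∀ t ∈ S, (s : Ω) * t = t * s := by
    have hle : F.focalSubgroup ≤ S ⊓ Subgroup.centralizer {(s : Ω)} := by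
      rw [FusionSystem.focalSubgroup, Subgroup.closure_le]
      rintro _ ⟨P, φ, y, hφ, rfl⟩
      have hm : (y : Ω)⁻¹ * φ y ∈ S := S.mul_mem (S.inv_mem (le_S hφ y.2)) (apply_mem_S hφ y)
      refine ⟨hm, Subgroup.mem_centralizer_singleton_iff.mpr ?_⟩
      obtain ⟨h1, h2⟩ := commutator_stable hE hw hφ y
      have hy' : (s : Ω) * y * (s : Ω)⁻¹ = ⁅(s : Ω), (y : Ω)⁆ * y := by rw [commutatorElement_def]; group
      have hφy : (s : Ω) * φ y * (s : Ω)⁻¹ = ⁅(s : Ω), (y : Ω)⁆ * φ y := by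
        rw [← h1, commutatorElement_def]; group
      have h3 : (s : Ω) * ((y : Ω)⁻¹ * φ y) * (s : Ω)⁻¹ = (y : Ω)⁻¹ * φ y := by
        rw [show (s : Ω) * ((y : Ω)⁻¹ * φ y) * (s : Ω)⁻¹
          = ((s : Ω) * y * (s : Ω)⁻¹)⁻¹ * ((s : Ω) * φ y * (s : Ω)⁻¹) by group, hy', hφy]
        group
      exact (mul_inv_eq_iff_eq_mul.mp h3).symm
    intro t ht
    have h1 := (hle (Fusion.hyperfocal_le_focal F p (hperf.symm ▸ ht))).2
    exact (Subgroup.mem_centralizer_singleton_iff.mp h1).symm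
  -- every map fixes `s`
  have hconj : ∀ g ∈ S, g * (s : Ω) * g⁻¹ = s := fun g hg => by
    rw [← hcomm g hg, mul_inv_cancel_right]
  have hfix : ∀ P : Subgroup Ω, P ≤ S → (hs : (s : Ω) ∈ P) → F.IsFullyAutomized p P →
      ∀ α ∈ F.autGroup P, α ⟨s, hs⟩ = ⟨s, hs⟩ := by
    intro P hP hs ha α hα
    obtain ⟨a, hra, g, hg, b, rfl, hb⟩ := FullyAutomized.exists_mul ha hα
    have hbs : b ⟨s, hs⟩ = ⟨s, hs⟩ := Subtype.ext (by rw [hb]; exact hconj g hg)
    rw [MulAut.mul_apply, hbs]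
    have hle : pResidual p (F.autGroup P) ≤ MulAction.stabilizer (F.autGroup P) (⟨s, hs⟩ : P) := by
      rw [pResidual, Subgroup.closure_le]
      intro β hβ
      show (β : MulAut P) ⟨s, hs⟩ = ⟨s, hs⟩
      set z : P := (⟨s, hs⟩ : P)⁻¹ * (β : MulAut P) ⟨s, hs⟩ with hz
      have hzc : (z : Ω) ∈ F.center := by
        have hm := (mem_autGroup hP).mp β.2
        obtain ⟨Q, ψ, hψ, hPQ, hsQ, h1, h2⟩ := exists_congr_fixing hE hw hm
        have h3 := F.center.mul_mem (F.center.inv_mem h2) (h1 ⟨s, hs⟩)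
        simpa [hz, mul_assoc] using h3
      have hzfix : (β : MulAut P) z = z := Subtype.ext (center_fixed ((mem_autGroup hP).mp β.2) z hzc)
      have hpow : ∀ m : ℕ, ((β ^ m : F.autGroup P) : MulAut P) ⟨s, hs⟩ = ⟨s, hs⟩ * z ^ m := by
        intro m
        induction m with
        | zero => simp
        | succ m ih =>
          rw [pow_succ', Subgroup.coe_mul, MulAut.mul_apply, ih, map_mul, map_pow, hzfix, pow_succ',
            show (β : MulAut P) ⟨s, hs⟩ = ⟨s, hs⟩ * z by rw [hz, mul_inv_cancel_left], mul_assoc]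
      have h1 := hpow (orderOf β)
      rw [pow_orderOf_eq_one, OneMemClass.coe_one, MulAut.one_apply, eq_comm, mul_eq_left] at h1
      obtain ⟨k, hk'⟩ := (hS.to_le hP) z
      have h3 : z = 1 := by
        rw [← orderOf_eq_one_iff]
        exact Nat.eq_one_of_dvd_coprimes (Nat.Coprime.pow_right k hβ)
          (orderOf_dvd_of_pow_eq_one h1) (orderOf_dvd_of_pow_eq_one hk')
      rw [hz, inv_mul_eq_one] at h3
      exact h3.symm
    exact hle hra
  have hall : ∀ (P : Subgroup Ω) (φ : P →* Ω), φ ∈ F.Hom P → ∀ (y : P) (m : ℤ),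
      (y : Ω) = (s : Ω) ^ m → φ y = (s : Ω) ^ m := by
    intro P φ hφ y m hy
    refine (rel_of_mem hS hF (r := fun a b => a = (s : Ω) ^ m ↔ b = (s : Ω) ^ m)
      ⟨fun _ => Iff.rfl, Iff.symm, Iff.trans⟩ ?_ ?_ hφ y).mp hy
    · intro g hg u _
      have hg' : g * (s : Ω) ^ m * g⁻¹ = (s : Ω) ^ m := by rw [← conj_zpow, hconj g hg]
      constructor
      · rintro rfl; exact hg'
      · intro h
        have e := congrArg (fun v => g⁻¹ * v * g) (h.trans hg'.symm)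
        simpa [mul_assoc] using e
    · intro R hR hRS ha α hα u
      have hsR : (s : Ω) ∈ R := by
        rcases hR with rfl | hR
        · exact s.2
        · exact IsCentric.centralizerIn_le' hR.1 (mem_centralizerIn'.mpr
            ⟨s.2, fun t => by rw [hcomm _ (hRS t.2), mul_inv_cancel_right]⟩)
      have hfx : α ((⟨s, hsR⟩ : R) ^ m) = (⟨s, hsR⟩ : R) ^ m := by rw [map_zpow, hfix R hRS hsR ha α hα]
      constructor
      · intro h
        obtain rfl : u = (⟨s, hsR⟩ : R) ^ m := Subtype.ext (h.trans (SubgroupClass.coe_zpow _ m).symm)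
        rw [hfx, SubgroupClass.coe_zpow]
      · intro h
        have : α u = α ((⟨s, hsR⟩ : R) ^ m) :=
          (Subtype.ext (h.trans (SubgroupClass.coe_zpow _ m).symm) : α u = (⟨s, hsR⟩ : R) ^ m).trans hfx.symm
        rw [α.injective this, SubgroupClass.coe_zpow]
  refine (le_sSup (a := Subgroup.zpowers (s : Ω)) ?_ : _ ≤ F.center) (Subgroup.mem_zpowers _)
  refine (isCentral_iff hS hF).mpr ⟨Subgroup.zpowers_le.mpr s.2, ?_⟩
  rintro v hv y ⟨φ, hφ, rfl⟩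
  obtain ⟨k, hk'⟩ := Subgroup.mem_zpowers_iff.mp hv
  exact (hall _ φ hφ ⟨v, Subgroup.mem_zpowers v⟩ k hk'.symm).trans hk'

end CfsgLib.FusionNormal
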