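import Cfsg.Agent.Lib.FusionNormal.PAutAt
import Cfsg.Agent.Lib.FusionNormal.SmallChar
import Cfsg.Agent.Lib.FusionNormal.Alperin
import Cfsg.Agent.Lib.Fusion.Hyperfocal
import Cfsg.Agent.Lib.Fusion.Normal
import Cfsg.Agent.Lib.PGroup.Class2
import Cfsg.Agent.Lib.PLocal5.PGroupBasic

/-!
# Small abelian subgroups of the hyperfocal subgroup control fusion
-/

set_option autoImplicit false
set_option linter.style.haveILetI false

namespace CfsgLib.FusionNormal.SmallAbelian

open Cfsg Cfsg.FusionSystem CfsgLib.Fusion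
open scoped commutatorElement

/-- An exponent: `p` for odd `p`, and `4` for `p = 2`. -/
def smallExp (p : ℕ) : ℕ := if p = 2 then 2 else 1

theorem smallExp_ne {p : ℕ} [Fact p.Prime] : p ^ smallExp p ≠ 2 := by
  unfold smallExp
  split_ifs with h
  · subst h; norm_num
  · simpa using h

theorem isSmall_iff {G : Type*} [Group G] {p : ℕ} {x : G} :
    IsSmall p x ↔ x ^ p ^ smallExp p = 1 := by
  unfold smallExp IsSmall
  split_ifs with h
  · subst h
    refine ⟨fun h => ?_, fun h => Or.inr ⟨rfl, by simpa using h⟩⟩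
    rcases h with h | ⟨-, h⟩
    · rw [show (2 : ℕ) ^ 2 = 2 * 2 by norm_num, pow_mul, h, one_pow]
    · simpa using h
  · simp [h]

/-- Alperin's lemma relative to a normal subgroup. -/
theorem mem_of_maximal {G : Type*} [Group G] [Finite G] {p : ℕ} [Fact p.Prime] (hG : IsPGroup p G)
    (n : ℕ) (hn : p ^ n ≠ 2) (H A : Subgroup G) [hH : H.Normal] [A.Normal] (hAH : A ≤ H)
    (hA : IsMulCommutative A) (hAe : ∀ a ∈ A, a ^ p ^ n = 1)
    (hmax : ∀ B : Subgroup G, B.Normal → B ≤ H → IsMulCommutative B → (∀ b ∈ B, b ^ p ^ n = 1) →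
      A ≤ B → B = A)
    (x : G) (hxH : x ∈ H) (hx : x ∈ Subgroup.centralizer (A : Set G)) (hxn : x ^ p ^ n = 1) :
    x ∈ A := by
  classical
  have hp : p.Prime := Fact.out
  by_cases hn0 : n = 0
  · subst hn0; rw [pow_zero, pow_one] at hxn; rw [hxn]; exact A.one_mem
  have hdiv : p ∣ (p ^ n).choose 2 := hp.dvd_choose_pow (by norm_num) (Ne.symm hn)
  let Z : ℕ → Subgroup G := fun i =>
    (Subgroup.upperCentralSeries (G ⧸ A) i).comap (QuotientGroup.mk' A)
  have hZ0 : ∀ y, y ∈ Z 0 → y ∈ A := fun y hy => by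
    simpa [Z, Subgroup.upperCentralSeries_zero] using hy
  have hZs : ∀ (i : ℕ) (y g : G), y ∈ Z (i + 1) → ⁅g, y⁆ ∈ Z i := fun i y g hy => by
    rw [← commutatorElement_inv]
    refine Subgroup.inv_mem _ ?_
    simp only [Z, Subgroup.mem_comap, map_commutatorElement]
    exact Subgroup.mem_upperCentralSeries_succ_iff.1 hy _
  set C := Subgroup.centralizer (A : Set G) ⊓ H with hC
  have hCn : C.Normal := inferInstance
  have hcomC : ∀ g : G, ∀ y ∈ C, ⁅g, y⁆ ∈ C := fun g y hy => by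
    rw [commutatorElement_def]
    exact Subgroup.mul_mem _ (hCn.conj_mem y hy g) (Subgroup.inv_mem _ hy)
  have key : ∀ i, ∀ y ∈ C, y ∈ Z i → y ^ p ^ n = 1 → y ∈ A := by
    intro i
    induction i with
    | zero => exact fun y _ hy _ => hZ0 y hy
    | succ i ih =>
      intro y
      induction hk : orderOf y using Nat.strong_induction_on generalizing y with
      | _ k ihy =>
      intro hyC hyZ hyn
      by_cases hy1 : y = 1
      · rw [hy1]; exact A.one_mem
      have hypA : y ^ p ∈ A := by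
        refine ihy _ ?_ (y ^ p) rfl (Subgroup.pow_mem _ hyC _) (Subgroup.pow_mem _ hyZ _)
          (by rw [← pow_mul, mul_comm, pow_mul, hyn, one_pow])
        obtain ⟨m, hm⟩ := IsPGroup.iff_orderOf.1 hG y
        rcases Nat.eq_zero_or_pos m with rfl | hm0
        · rw [pow_zero, orderOf_eq_one_iff] at hm; exact absurd hm hy1
        rw [← hk, orderOf_pow, hm, Nat.gcd_eq_right (dvd_pow_self p hm0.ne')]
        exact Nat.div_lt_self (pow_pos hp.pos m) hp.one_lt
      have hL : ∀ g : G, ⁅g, y⁆ ∈ Z i → ⁅⁅g, y⁆, y⁆ ∈ A → ⁅g, y⁆ ∈ A := by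
        intro g hdZ he
        refine ih _ (hcomC g y hyC) hdZ ?_
        let d : C := ⟨⁅g, y⁆, hcomC g y hyC⟩
        let x' : C := ⟨y, hyC⟩
        let y' : C := ⟨g * y * g⁻¹, hCn.conj_mem y hyC g⟩
        have hd : d = y' * x'⁻¹ := Subtype.ext (commutatorElement_def g y)
        have hAc : ∀ z : C, (z : G) ∈ A → z ∈ Subgroup.center _ :=
          fun z hz => Subgroup.mem_center_iff.2 fun w => Subtype.ext
            ((Subgroup.mem_centralizer_iff.1 w.2.1) z hz).symm
        have hec : ⁅d, x'⁆ ∈ Subgroup.center _ := hAc _ he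
        have hep : ⁅d, x'⁆ ^ p = 1 := by
          rw [← CfsgLib.PGroup.commutatorElement_pow_right_of_central hec,
            commutatorElement_eq_one_iff_mul_comm]
          exact Subgroup.mem_center_iff.1 (hAc (x' ^ p) hypA) d
        have hcomm : ⁅x'⁻¹, y'⁆ = ⁅d, x'⁆ := by
          have h1 : ⁅x'⁻¹, y'⁆ = x'⁻¹ * ⁅d, x'⁆ * x' := by
            rw [show y' = d * x' by rw [hd, inv_mul_cancel_right], commutatorElement_def,
              commutatorElement_def]
            group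
          rw [h1, mul_assoc, ← Subgroup.mem_center_iff.1 hec x', inv_mul_cancel_left]
        have h2 := CfsgLib.PGroup.mul_pow_of_central (x := y') (y := x'⁻¹) (hcomm ▸ hec) (p ^ n)
        obtain ⟨c, hc⟩ := hdiv
        have hx1 : x' ^ p ^ n = 1 := Subtype.ext hyn
        have hy'1 : y' ^ p ^ n = 1 := Subtype.ext (by
          push_cast; simp only [y']; rw [conj_pow, hyn, mul_one, mul_inv_cancel])
        rw [hcomm, ← hd, hy'1, inv_pow, hx1, inv_one, hc, pow_mul, hep, one_pow, mul_one,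
          mul_one] at h2
        exact congrArg Subtype.val h2
      have hQ : ∀ j, ∀ c ∈ C, c ∈ Z j → ⁅c, y⁆ ∈ A := by
        intro j
        induction j with
        | zero =>
          intro c _ hc
          rw [commutatorElement_eq_one_iff_mul_comm.2 (Subgroup.mem_centralizer_iff.1 hyC.1 c (hZ0 c hc))]
          exact A.one_mem
        | succ j ihj =>
          intro c hcC hcZ
          refine hL c (hZs i y c hyZ) (ihj _ (hcomC c y hyC) ?_)
          rw [← commutatorElement_inv]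
          exact Subgroup.inv_mem _ (hZs j c y hcZ)
      have hall : ∀ g, g * y * g⁻¹ * y⁻¹ ∈ A := fun g => by
        rw [← commutatorElement_def]
        exact hL g (hZs i y g hyZ) (hQ i _ (hcomC g y hyC) (hZs i y g hyZ))
      set B := A ⊔ Subgroup.zpowers y with hB
      have hBn : B.Normal := CfsgLib.PGroupBasic.normal_sup_zpowers hall
      have hBeq : B = Subgroup.closure ((A : Set G) ∪ {y}) := by
        rw [Subgroup.closure_union, Subgroup.closure_eq, ← Subgroup.zpowers_eq_closure]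
      have hBab : IsMulCommutative B := by
        rw [hBeq]
        refine Subgroup.isMulCommutative_closure ?_
        rintro a (ha | rfl) b (hb | rfl)
        · exact congrArg Subtype.val (mul_comm' (⟨a, ha⟩ : A) ⟨b, hb⟩)
        · exact Subgroup.mem_centralizer_iff.1 hyC.1 a ha
        · exact (Subgroup.mem_centralizer_iff.1 hyC.1 b hb).symm
        · rfl
      have hBe : ∀ b ∈ B, b ^ p ^ n = 1 := by
        intro b hb
        obtain ⟨a, ha, c, hc, rfl⟩ := Subgroup.mem_sup_of_normal_left.1 hb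
        obtain ⟨m, rfl⟩ := Subgroup.mem_zpowers_iff.1 hc
        have hcm : Commute a (y ^ m) :=
          (Commute.zpow_right (Subgroup.mem_centralizer_iff.1 hyC.1 a ha) m)
        rw [hcm.mul_pow, hAe a ha, one_mul, ← zpow_natCast, ← zpow_mul, mul_comm, zpow_mul,
          zpow_natCast, hyn, one_zpow]
      exact (hmax B hBn (sup_le hAH ((Subgroup.zpowers_le).mpr hyC.2)) hBab hBe le_sup_left).le
        (Subgroup.mem_sup_right (Subgroup.mem_zpowers y))
  obtain ⟨m, hm⟩ := (hG.to_quotient A).isNilpotent.nilpotent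
  exact key m x ⟨hx, hxH⟩ (by simp [Z, hm]) hxn

variable {Ω : Type*} [Group Ω] {S : Subgroup Ω} {p : ℕ}

/-- `E` contains the maps of `F` between small abelian subgroups of `H`. -/
def Agree (E F : FusionSystem S) (p : ℕ) (H : Subgroup Ω) : Prop :=
  ∀ (B : Subgroup Ω) (f : Ω → Ω), B ≤ H → IsMulCommutative B → (∀ x ∈ B, IsSmall p x) →
    MapFn F B f → MapFn E B f

variable [Finite S] [Fact p.Prime] {F : FusionSystem S} {A Q R : Subgroup Ω} {K : Subgroup (MulAut A)}
  {T : Subgroup Ω}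

/-- The hyperfocal subgroup of `N_F^K(A)`, for a `p`-group `K`. -/
theorem hyperfocal_extSystem_le (hA : A ≤ S) (hT : IsKNormalizer S A K T) (hKp : IsPGroup p K)
    [Finite K] :
    (extSystem F hA K T hT).hyperfocalSubgroup p ≤
      F.hyperfocalSubgroup p ⊓ Subgroup.centralizer (A : Set Ω) := by
  set N := extSystem F hA K T hT with hN
  rw [FusionSystem.hyperfocalSubgroup, Subgroup.closure_le]
  rintro _ ⟨P, α, x, hPT, hα, rfl⟩
  have hPS : P ≤ S := hPT.trans hT.le
  have := finite_mulAut hPS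
  have hsub : N.autGroup P ≤ F.autGroup P := fun a ha =>
    (mem_autGroup hPS).mpr ((mem_autGroup hPT).mp ha).1
  refine ⟨Fusion.mem_hyperfocal hPS (α := Subgroup.inclusion hsub α) ?_ x, ?_⟩
  · have : ∀ a ∈ pResidual p (N.autGroup P), Subgroup.inclusion hsub a ∈ pResidual p (F.autGroup P) := by
      intro a ha
      induction ha using Subgroup.closure_induction with
      | mem y hy =>
        exact Subgroup.subset_closure (Nat.Coprime.coprime_dvd_left (orderOf_map_dvd _ y) hy)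
      | one => rw [map_one]; exact Subgroup.one_mem _
      | mul a b _ _ ha hb => rw [map_mul]; exact Subgroup.mul_mem _ ha hb
      | inv a _ ha => rw [map_inv]; exact Subgroup.inv_mem _ ha
    exact this α hα
  clear hsub
  revert x
  induction hα using Subgroup.closure_induction with
  | one => intro x; simp
  | mul a b _ _ ha hb =>
    intro x
    have h2 := mul_mem (hb x) (ha ((b : MulAut P) x))
    simpa [mul_assoc] using h2
  | inv a _ ha =>
    intro x
    have h2 := (Subgroup.centralizer (A : Set Ω)).inv_mem (ha ((((a⁻¹ : N.autGroup P)) : MulAut P) x))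
    simpa using h2
  | mem a ha =>
    intro x
    obtain ⟨e, he⟩ := IsPGroup.iff_card.mp hKp
    -- the power of `a` by the order of `K` generates the same subgroup
    obtain ⟨j, hj⟩ := exists_pow_eq_self_of_coprime (x := a) (n := p ^ e)
      ((Nat.Coprime.pow_right e ha).symm)
    obtain ⟨-, -, -, ψ, hψ, hψe, κ, hκ, hκe⟩ :=
      ((mem_autGroup hPT).mp a.2 : P.subtype.comp _ ∈ N.Hom P)
    obtain ⟨f, hf, hfe⟩ := mapFn_of_hom hψ
    have hfP : ∀ z : P, f z = (((a : MulAut P) z : P) : Ω) := fun z =>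
      (hfe (Subgroup.inclusion le_sup_left z)).symm.trans (hψe z)
    have hfA : ∀ z : A, f z = ((κ z : A) : Ω) := fun z =>
      (hfe (Subgroup.inclusion le_sup_right z)).symm.trans (hκe z)
    have hm : ∀ z ∈ P ⊔ A, f z ∈ P ⊔ A := hf.maps_sup
      (fun z hz => Subgroup.mem_sup_left (by rw [hfP ⟨z, hz⟩]; exact Subtype.mem _))
      fun z hz => Subgroup.mem_sup_right (by rw [hfA ⟨z, hz⟩]; exact Subtype.mem _)
    have hitP : ∀ (n : ℕ) (z : P), f^[n] z = ((((a ^ n : N.autGroup P) : MulAut P) z : P) : Ω) := by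
      intro n
      induction n with
      | zero => intro z; rfl
      | succ n ih =>
        intro z
        rw [Function.iterate_succ_apply, hfP, ih, pow_succ, Subgroup.coe_mul, MulAut.mul_apply]
    have hitA : ∀ (n : ℕ) (z : A), f^[n] z = (((κ ^ n) z : A) : Ω) := by
      intro n
      induction n with
      | zero => intro z; rfl
      | succ n ih =>
        intro z
        rw [Function.iterate_succ_apply, hfA, ih, pow_succ, MulAut.mul_apply]
    have hit : ∀ n : ℕ, MapFn F (P ⊔ A) f^[n] := by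
      intro n
      induction n with
      | zero => exact mapFn_id hf.le_S
      | succ n ih => rw [Function.iterate_succ]; exact hf.comp ih hm
    have hκ1 : κ ^ (p ^ e * j) = 1 := by
      rw [pow_mul, ← he]
      have h1 : (⟨κ, hκ⟩ : K) ^ Nat.card K = 1 := pow_card_eq_one'
      have h2 : κ ^ Nat.card K = 1 := congrArg Subtype.val h1
      rw [h2, one_pow]
    set g := f^[p ^ e * j] with hg
    have hgP : ∀ z : P, g z = (((a : MulAut P) z : P) : Ω) := fun z => by
      rw [hg, hitP, pow_mul, hj]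
    have hgA : ∀ z ∈ A, g z = z := fun z hz => by
      rw [hg, hitA _ ⟨z, hz⟩, hκ1]; rfl
    have hgm : MapFn F (P ⊔ A) g := hit (p ^ e * j)
    refine Subgroup.mem_centralizer_iff.mpr fun y hy => ?_
    obtain ⟨-, κx, -, hκx⟩ := (hT _).mp (hPT x.2)
    have hy' : (x : Ω) * y * (x : Ω)⁻¹ ∈ A := hκx ⟨y, hy⟩ ▸ Subtype.mem _
    have h1 := hgm.map_conj (Subgroup.mem_sup_left x.2) (Subgroup.mem_sup_right hy)
    rw [hgA _ hy', hgA _ hy, hgP x] at h1
    set ax : Ω := (((a : MulAut P) x : P) : Ω)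
    calc y * ((x : Ω)⁻¹ * ax) = (x : Ω)⁻¹ * ((x : Ω) * y * (x : Ω)⁻¹) * ax := by group
      _ = (x : Ω)⁻¹ * (ax * y * ax⁻¹) * ax := by rw [h1]
      _ = _ := by group

/-- The maps of `F` all act on `A` as `p`-elements. -/
def ActsByP (F : FusionSystem S) (p : ℕ) (A : Subgroup Ω) : Prop :=
  ∃ e : ℕ, ∀ (M : Subgroup Ω) (g : Ω → Ω), MapFn F M g → A ≤ M →
    g '' A = (A : Set Ω) ∧ ∀ x ∈ A, g^[p ^ e] x = x

/-- One step of the induction. -/
theorem mapFn_or_actsByP {E : FusionSystem S} (hS : IsPGroup p S) (hF : F.IsSaturated p)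
    (hE : E.IsSaturated p) (hle : E ≤ F) (hag : Agree E F p (F.hyperfocalSubgroup p))
    (IH : ∀ {T : Subgroup Ω} [Finite T] (N M : FusionSystem T), IsPGroup p T →
      mapCount N < mapCount F → N.IsSaturated p → M.IsSaturated p → M ≤ N →
      Agree M N p (N.hyperfocalSubgroup p) → ∀ P, N.Hom P ⊆ M.Hom P)
    {A A₂ : Subgroup Ω} (hAQ : A ≤ Q) (hAH : A ≤ F.hyperfocalSubgroup p) (hAc : IsMulCommutative A)
    (hAs : ∀ x ∈ A, IsSmall p x) (hAn : Q ≤ Subgroup.normalizer (A : Set Ω))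
    {h : Ω → Ω} (hh : MapFn F Q h) (hhA : h '' A = (A₂ : Set Ω)) (hA₂ : F.IsFullyCentralized A₂) :
    MapFn E Q h ∨ ActsByP F p A₂ := by
  have hleF : ∀ (P : Subgroup Ω) g, MapFn E P g → MapFn F P g :=
    fun P => hom_subset_iff_mapFn.mp (hle P)
  have hA₂E : E.IsFullyCentralized A₂ :=
    ⟨hA₂.1, fun X hX => hA₂.2 X (by obtain ⟨φ, hφ, hr⟩ := hX; exact ⟨φ, hle _ hφ, hr⟩)⟩
  have hrF := receptive_of_fullyCentralized hS hF hA₂
  have hrE := receptive_of_fullyCentralized hS hE hA₂E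
  have hA₂c : IsMulCommutative A₂ := ⟨⟨fun a b => Subtype.ext (by
    obtain ⟨x, hx, hxa⟩ := exists_of_image hhA a.2
    obtain ⟨y, hy, hyb⟩ := exists_of_image hhA b.2
    show (a : Ω) * b = b * a
    rw [← hxa, ← hyb, ← hh.map_mul (hAQ hx) (hAQ hy), ← hh.map_mul (hAQ hy) (hAQ hx)]
    exact congrArg h (congrArg Subtype.val (mul_comm' (⟨x, hx⟩ : A) ⟨y, hy⟩)))⟩⟩
  have hA₂s : ∀ x ∈ A₂, IsSmall p x := fun x hx => by
    obtain ⟨z, hz, rfl⟩ := exists_of_image hhA hx
    rw [isSmall_iff, ← hh.map_pow (hAQ hz), isSmall_iff.mp (hAs z hz), hh.map_one]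
  have hA₂H : A₂ ≤ F.hyperfocalSubgroup p := fun x hx => by
    obtain ⟨z, hz, rfl⟩ := exists_of_image hhA hx
    obtain ⟨φ, hφ, he⟩ := hh.mono hAQ
    rw [← he ⟨z, hz⟩]
    exact (stronglyClosed_hyperfocal hS hF).2 A hAH φ hφ ⟨z, hz⟩
  have hQS := hh.le_S
  -- the extension in `E` of the restriction to `A`
  obtain ⟨β, hβ, hβe⟩ := (hag A h hAH hAc hAs (hh.mono hAQ)).exists_extension hrE hhA hAQ
    (le_inf hQS hAn) fun q hq => ⟨h q, hh.mem_S hq, fun x hx => hh.map_conj hq (hAQ hx)⟩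
  obtain ⟨Q₀, hQ₀S, hQ₀⟩ := hβ.exists_image
  obtain ⟨βi, hβi, hβiQ, hβi₁, hβi₂⟩ := hβ.exists_inv hQ₀
  have hγ : MapFn F Q₀ (h ∘ βi) := (hleF _ _ hβi).comp hh fun y hy => mem_of_image hβiQ hy
  have hA₂Q : A₂ ≤ Q₀ := fun y hy => by
    obtain ⟨x, hx, rfl⟩ := exists_of_image hhA hy
    rw [← hβe x hx]; exact mem_of_image hQ₀ (hAQ hx)
  have hγA : ∀ y ∈ A₂, h (βi y) = y := fun y hy => by
    obtain ⟨x, hx, rfl⟩ := exists_of_image hhA hy
    conv_lhs => rw [← hβe x hx, hβi₁ x (hAQ hx)]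
  have : Finite A₂ := finite_of_le hA₂.1
  have hβA : β '' A = (A₂ : Set Ω) := (Set.image_congr hβe).trans hhA
  obtain ⟨R₀, hR₀S, hR₀⟩ := hh.exists_image
  set K := autInducedBy R₀ A₂ with hK
  have hKS : K ≤ autInducedBy S A₂ := autInducedBy_mono hR₀S _
  have := finite_mulAut hA₂.1
  have hKp : IsPGroup p K := (isPGroup_autInducedBy hS A₂).to_le hKS
  -- the elements of `S` acting on `A₂` as elements of `K`
  let T : Subgroup Ω := ((K.comap A₂.normalizerMonoidHom).map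
    (Subgroup.normalizer (A₂ : Set Ω)).subtype) ⊓ S
  have hT : IsKNormalizer S A₂ K T := by
    intro g
    constructor
    · rintro ⟨⟨n, hn, rfl⟩, hgS⟩
      exact ⟨hgS, _, hn, fun x => rfl⟩
    · rintro ⟨hgS, κ, hκ, hκe⟩
      have hgn := mem_normalizer_of_aut hκe
      refine ⟨⟨⟨g, hgn⟩, ?_, rfl⟩, hgS⟩
      show A₂.normalizerMonoidHom ⟨g, hgn⟩ ∈ K
      convert hκ using 1
      exact MulEquiv.ext fun x => Subtype.ext (hκe x).symm
  have hconjR : ∀ q ∈ Q, ∃ κ ∈ K, ∀ y : A₂, ((κ y : A₂) : Ω) = h q * y * (h q)⁻¹ := by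
    intro q hq
    have hn : h q ∈ Subgroup.normalizer (A₂ : Set Ω) :=
      (hh.mem_normalizerIn hAQ hhA hq (hAn hq)).2
    obtain ⟨κ, hκ, hκe⟩ := exists_autInducedBy (K := R₀) (mem_of_image hR₀ hq) hn
    exact ⟨κ, hκ, hκe⟩
  have hQ₀T : Q₀ ≤ T := by
    intro y hy
    obtain ⟨q, hq, rfl⟩ := exists_of_image hQ₀ hy
    obtain ⟨κ, hκ, hκe⟩ := hconjR q hq
    refine (hT _).mpr ⟨hβ.mem_S hq, κ, hκ, fun z => ?_⟩
    obtain ⟨x, hx, hxz⟩ := exists_of_image hhA z.2
    have hx' : q * x * q⁻¹ ∈ A := conj_mem_of_normalizer (hAn hq) hx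
    rw [hκe, ← hxz, ← hh.map_conj hq (hAQ hx), ← hβe _ hx', hβ.map_conj hq (hAQ hx), hβe x hx]
  have hR₀T : ∀ q ∈ Q, h q ∈ T := fun q hq => by
    obtain ⟨κ, hκ, hκe⟩ := hconjR q hq
    exact (hT _).mpr ⟨hh.mem_S hq, κ, hκ, hκe⟩
  have hKF : K ≤ F.autGroup A₂ := hKS.trans (autInducedBy_le_autGroup hA₂.1)
  have hKE : K ≤ E.autGroup A₂ := hKS.trans (autInducedBy_le_autGroup hA₂.1)
  obtain ⟨e, he⟩ := IsPGroup.iff_card.mp hKp
  have hcount : ∀ G : Subgroup (MulAut A₂), K ≤ G →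
      Nat.card ↥(K ⊓ autInducedBy S A₂) = p ^ (Nat.card ↥(K ⊓ G)).factorization p := fun G hG => by
    rw [inf_eq_left.mpr hKS, inf_eq_left.mpr hG, he, Nat.Prime.factorization_pow Fact.out,
      Finsupp.single_eq_same]
  set NF := extSystem F hrF.1 K T hT with hNF
  set NE := extSystem E hrE.1 K T hT with hNE
  have : Finite T := finite_of_le hT.le
  by_cases himp : ∀ (P : Subgroup Ω) (φ : P →* Ω), φ ∈ F.Hom P → φ ∈ NF.Hom P
  · right
    refine ⟨e, fun M g hg hAM => ?_⟩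
    obtain ⟨φ, hφ, hφe⟩ := hg
    obtain ⟨-, -, -, ψ, hψ, hψe, κ, hκ, hκe⟩ := himp M φ hφ
    have hgA : ∀ z : A₂, g z = ((κ z : A₂) : Ω) := fun z => by
      rw [← hκe z, ← show φ ⟨z, hAM z.2⟩ = g z from hφe _, ← hψe]; rfl
    have hgim : g '' A₂ = (A₂ : Set Ω) := by
      ext y
      constructor
      · rintro ⟨z, hz, rfl⟩; rw [hgA ⟨z, hz⟩]; exact Subtype.mem _
      · intro hy
        exact ⟨κ.symm ⟨y, hy⟩, Subtype.mem _, by rw [hgA, MulEquiv.apply_symm_apply]⟩
    refine ⟨hgim, fun x hx => ?_⟩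
    have hit : ∀ (n : ℕ) (z : A₂), g^[n] z = (((κ ^ n) z : A₂) : Ω) := by
      intro n
      induction n with
      | zero => intro z; rfl
      | succ n ih =>
        intro z
        rw [Function.iterate_succ_apply, hgA, ih, pow_succ, MulAut.mul_apply]
    have h1 : (⟨κ, hκ⟩ : K) ^ Nat.card K = 1 := pow_card_eq_one'
    have h2 : κ ^ Nat.card K = 1 := congrArg Subtype.val h1
    rw [← he, hit _ ⟨x, hx⟩, h2]; rfl
  left
  push Not at himp
  have hlt : mapCount NF < mapCount F := mapCount_lt (fun P φ hφ => hφ.1) himp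
  have hhyp := hyperfocal_extSystem_le (F := F) hrF.1 hT hKp
  have hagN : Agree NE NF p (NF.hyperfocalSubgroup p) := by
    intro B g hBH hBc hBs hg
    obtain ⟨φ, ⟨hφ, hBT, hφT, ψ, hψ, hψe, κ, hκ, hκe⟩, hφg⟩ := hg
    obtain ⟨k, hk, hke⟩ := mapFn_of_hom hψ
    have hB1 := hBH.trans hhyp
    have hcomm : ∀ x ∈ (B : Set Ω) ∪ A₂, ∀ y ∈ (B : Set Ω) ∪ A₂, x * y = y * x := by
      rintro x (hx | hx) y (hy | hy)
      · exact congrArg Subtype.val (mul_comm' (⟨x, hx⟩ : B) ⟨y, hy⟩)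
      · exact (Subgroup.mem_centralizer_iff.mp (hB1 hx).2 y hy).symm
      · exact Subgroup.mem_centralizer_iff.mp (hB1 hy).2 x hx
      · exact congrArg Subtype.val (mul_comm' (⟨x, hx⟩ : A₂) ⟨y, hy⟩)
    have hsup : B ⊔ A₂ = Subgroup.closure ((B : Set Ω) ∪ A₂) := by
      rw [Subgroup.closure_union, Subgroup.closure_eq, Subgroup.closure_eq]
    have hsc : IsMulCommutative ↥(B ⊔ A₂) := hsup ▸ Subgroup.isMulCommutative_closure hcomm
    have hss : ∀ x ∈ B ⊔ A₂, IsSmall p x := fun x hx => by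
      rw [isSmall_iff]
      have hx' : x ∈ Subgroup.closure ((B : Set Ω) ∪ A₂) := hsup ▸ hx
      induction hx' using Subgroup.closure_induction with
      | mem y hy =>
        rcases hy with hy | hy
        · exact isSmall_iff.mp (hBs y hy)
        · exact isSmall_iff.mp (hA₂s y hy)
      | one => rw [one_pow]
      | mul y z hy hz h1 h2 =>
        haveI := Subgroup.isMulCommutative_closure hcomm
        have hc : Commute y z := congrArg Subtype.val (mul_comm' (⟨y, hy⟩ :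
          ↥(Subgroup.closure ((B : Set Ω) ∪ A₂))) ⟨z, hz⟩)
        rw [hc.mul_pow, h1 (hsup ▸ hy), h2 (hsup ▸ hz), one_mul]
      | inv y hy h1 => rw [inv_pow, h1 (hsup ▸ hy), inv_one]
    have hkE := hag (B ⊔ A₂) k (sup_le (fun x hx => (hB1 hx).1) hA₂H) hsc hss hk
    refine MapFn.congr ⟨φ, ⟨?_, hBT, hφT, ψ, hkE.mem hke, hψe, κ, hκ, hκe⟩, hφg⟩ fun x _ => rfl
    exact (hkE.mono le_sup_left).mem fun x => (hψe x).symm.trans (hke _)
  have hIH := IH NF NE (hS.to_le hT.le) hlt (extSystem_saturated hS hF hrF (hcount _ hKF) hT)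
    (extSystem_saturated hS hE hrE (hcount _ hKE) hT)
    (fun P φ ⟨h1, h2, h3, ψ, hψ, h4⟩ => ⟨hle _ h1, h2, h3, ψ, hle _ hψ, h4⟩) hagN Q₀
  obtain ⟨χ, hχ, hχe⟩ := hγ
  have hQA : Q₀ ⊔ A₂ = Q₀ := sup_eq_left.mpr hA₂Q
  have hγN : χ ∈ NF.Hom Q₀ := by
    refine ⟨hχ, hQ₀T, fun y => ?_, χ.comp (Subgroup.inclusion hQA.le),
      restrict_mem hQA.le hχ, fun y => rfl, 1, Subgroup.one_mem _, fun y => ?_⟩
    · rw [hχe]; exact hR₀T _ (mem_of_image hβiQ y.2)
    · exact (hχe _).trans (hγA y y.2)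
  exact (hβ.comp ⟨χ, (hIH hγN).1, hχe⟩ fun x hx => mem_of_image hQ₀ hx).congr fun x hx =>
    congrArg h (hβi₁ x hx)

/-- An automorphism fixing the small abelian `Q`-normal subgroups of the hyperfocal subgroup. -/
theorem eq_one_of_fix (hS : IsPGroup p S) (hF : F.IsSaturated p) (hQ : Q ≤ S) {α : F.autGroup Q}
    (hα : (orderOf α).Coprime p)
    (hfix : ∀ A : Subgroup Ω, A ≤ Q → A ≤ F.hyperfocalSubgroup p → IsMulCommutative A →
      (∀ x ∈ A, IsSmall p x) → Q ≤ Subgroup.normalizer (A : Set Ω) →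
      ∀ x : Q, (x : Ω) ∈ A → (α : MulAut Q) x = x) : α = 1 := by
  classical
  have := finite_of_le hQ
  have hQp := hS.to_le hQ
  set H := (F.hyperfocalSubgroup p).subgroupOf Q with hH
  haveI hHn : H.Normal := ⟨fun h hh g => hyperfocal_conj_mem (hQ g.2) hh⟩
  set n := smallExp p
  let C : Set (Subgroup Q) := {A | A.Normal ∧ A ≤ H ∧ IsMulCommutative A ∧ ∀ a ∈ A, a ^ p ^ n = 1}
  have hne : C.Nonempty := ⟨⊥, inferInstance, bot_le, inferInstance, fun a ha => by
    rw [Subgroup.mem_bot.mp ha, one_pow]⟩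
  obtain ⟨A, hA⟩ := (Set.toFinite C).exists_maximal hne
  obtain ⟨hAn, hAH, hAc, hAe⟩ := hA.1
  have hAfix : ∀ x ∈ A, (α : MulAut Q) x = x := by
    intro x hx
    refine hfix (A.map Q.subtype) (Subgroup.map_subtype_le _) ?_ ?_ ?_ ?_ x ⟨x, hx, rfl⟩
    · rintro _ ⟨a, ha, rfl⟩; exact hAH ha
    · refine ⟨⟨?_⟩⟩
      rintro ⟨_, a, ha, rfl⟩ ⟨_, b, hb, rfl⟩
      exact Subtype.ext (congrArg Q.subtype (congrArg Subtype.val (mul_comm' (⟨a, ha⟩ : A) ⟨b, hb⟩)))
    · rintro _ ⟨a, ha, rfl⟩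
      exact (isSmall_iff.mpr (hAe a ha)).map Q.subtype
    · intro g hg
      have := finite_of_le ((Subgroup.map_subtype_le A).trans hQ)
      refine mem_normalizer_of_forall ?_
      rintro _ ⟨a, ha, rfl⟩
      exact ⟨_, hAn.conj_mem a ha ⟨g, hg⟩, rfl⟩
  have hα' : (orderOf (α : MulAut Q)).Coprime p := by rwa [Subgroup.orderOf_coe]
  have hinvH : ∀ x ∈ H, (α : MulAut Q) x ∈ H := fun x hx => by
    obtain ⟨φ, hφ, he⟩ : ∃ φ ∈ F.Hom (Q ⊓ F.hyperfocalSubgroup p),
        ∀ z, φ z = (((α : MulAut Q) (Subgroup.inclusion inf_le_left z) : Q) : Ω) :=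
      ⟨_, restrict_mem inf_le_left ((mem_autGroup hQ).mp α.2), fun z => rfl⟩
    have := (stronglyClosed_hyperfocal hS hF).2 _ inf_le_right φ hφ ⟨x, x.2, hx⟩
    rw [he] at this
    exact this
  -- the centralizer of `A` in `H`
  set D := Subgroup.centralizer (A : Set Q) ⊓ H with hD
  have hDinv : ∀ x ∈ D, (α : MulAut Q) x ∈ D := fun x hx => ⟨Subgroup.mem_centralizer_iff.mpr fun a ha => by
    rw [← hAfix a ha, ← map_mul, ← map_mul, Subgroup.mem_centralizer_iff.mp hx.1 a ha], hinvH x hx.2⟩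
  have hDfix : ∀ x ∈ D, (α : MulAut Q) x = x := by
    refine fix_of_fix_small (α : MulAut Q) hα' D (hQp.to_subgroup D) hDinv fun x hx hxs => hAfix x ?_
    refine mem_of_maximal hQp n smallExp_ne H A hAH hAc hAe (fun B hBn hBH hBc hBe hAB => ?_)
      x hx.2 hx.1 (isSmall_iff.mp hxs)
    exact le_antisymm (hA.2 ⟨hBn, hBH, hBc, hBe⟩ hAB) hAB
  have hHfix : ∀ x ∈ H, (α : MulAut Q) x = x := by
    intro x hx
    refine fix_of_step hQp _ hα' (hDfix _ ⟨?_, H.mul_mem (H.inv_mem hx) (hinvH x hx)⟩)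
    refine Subgroup.mem_centralizer_iff.mpr fun a ha => ?_
    have h1 : (α : MulAut Q) (x * a * x⁻¹) = x * a * x⁻¹ := hAfix _ (hAn.conj_mem a ha x)
    rw [map_mul, map_mul, map_inv, hAfix a ha] at h1
    calc a * (x⁻¹ * (α : MulAut Q) x) = x⁻¹ * (x * a * x⁻¹) * (α : MulAut Q) x := by group
      _ = x⁻¹ * ((α : MulAut Q) x * a * ((α : MulAut Q) x)⁻¹) * (α : MulAut Q) x := by rw [h1]
      _ = _ := by group
  apply Subtype.ext
  refine MulEquiv.ext fun x => fix_of_step hQp _ hα' (hHfix _ ?_)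
  exact Fusion.mem_hyperfocal hQ (Subgroup.subset_closure hα) x

/-- Small abelian subgroups of the hyperfocal subgroup control fusion. -/
theorem le_of_agree : ∀ (n : ℕ) {S : Subgroup Ω} [Finite S] (_ : IsPGroup p S) (E F : FusionSystem S),
    E.IsSaturated p → F.IsSaturated p → mapCount F = n → E ≤ F →
    Agree E F p (F.hyperfocalSubgroup p) → ∀ P, F.Hom P ⊆ E.Hom P := by
  intro n
  induction n using Nat.strong_induction_on with
  | _ n ihn =>
  intro S _ hS E F hE hF hn hle hag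
  have IH : ∀ {T : Subgroup Ω} [Finite T] (N M : FusionSystem T), IsPGroup p T →
      mapCount N < mapCount F → N.IsSaturated p → M.IsSaturated p → M ≤ N →
      Agree M N p (N.hyperfocalSubgroup p) → ∀ P, N.Hom P ⊆ M.Hom P :=
    fun {T} _ N M hT hlt hN hM hMN h => ihn _ (hn ▸ hlt) hT M N hM hN rfl hMN h
  refine fun P => hom_subset_iff_mapFn.mpr fun f hf => ?_
  refine alperin_induction hS hF (fun P f => MapFn E P f) (fun _ h e => h.congr e)
    (fun _ h hR => h.mono hR) (fun _ h₁ _ h₂ hm => h₁.comp h₂ hm) ?_ ?_ P f hf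
  · intro P R f g hf h hr hg hinv
    obtain ⟨g', hg', -, hg'₁, -⟩ := h.exists_inv hr
    exact hg'.congr fun y hy => by
      obtain ⟨x, hx, rfl⟩ := exists_of_image hr hy
      rw [hinv x hx, hg'₁ x hx]
  intro Q hQn _ _ _ a ha har
  have hQS := hQn.1
  have := finite_mulAut hQS
  -- the automorphisms of order prime to `p`
  have hcop : ∀ α : F.autGroup Q, (orderOf α).Coprime p → (α : MulAut Q) ∈ E.autGroup Q := by
    intro α hα
    by_contra hnot
    suffices α = 1 from hnot (this ▸ Subgroup.one_mem _)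
    refine eq_one_of_fix hS hF hQS hα fun A hAQ hAH hAc hAs hAn x hx => ?_
    obtain ⟨f, hf, hfQ, hfe⟩ := exists_mapFn_of_aut hQS α.2
    obtain ⟨A₁, -, hA₁⟩ := (hf.mono hAQ).exists_image
    have hA₁Q : A₁ ≤ Q := fun y hy => by
      obtain ⟨z, hz, rfl⟩ := exists_of_image hA₁ hy
      exact mem_of_image hfQ (hAQ hz)
    have hA₁n : Q ≤ Subgroup.normalizer (A₁ : Set Ω) := fun q hq => by
      obtain ⟨w, hw, rfl⟩ := exists_of_image hfQ hq
      exact (hf.mem_normalizerIn hAQ hA₁ hw (hAn hw)).2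
    obtain ⟨A₂, k, hA₂n, hk, hkA, -⟩ := exists_fullyNormalized_mapFn hS hF (hA₁Q.trans hQS)
    have hA₂ := isFullyCentralized_of_fullyNormalized hS hF hA₂n
    have hkQ := hk.mono (le_inf hQS hA₁n)
    have hkf : MapFn F Q (k ∘ f) := hf.comp hkQ fun z hz => mem_of_image hfQ hz
    have hkfA : (k ∘ f) '' A = (A₂ : Set Ω) := by rw [Set.image_comp, hA₁, hkA]
    have hA₁c : IsMulCommutative A₁ := ⟨⟨fun a b => Subtype.ext (by
      obtain ⟨y, hy, hya⟩ := exists_of_image hA₁ a.2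
      obtain ⟨z, hz, hzb⟩ := exists_of_image hA₁ b.2
      show (a : Ω) * b = b * a
      rw [← hya, ← hzb, ← hf.map_mul (hAQ hy) (hAQ hz), ← hf.map_mul (hAQ hz) (hAQ hy)]
      exact congrArg f (congrArg Subtype.val (mul_comm' (⟨y, hy⟩ : A) ⟨z, hz⟩)))⟩⟩
    have hA₁H : A₁ ≤ F.hyperfocalSubgroup p := fun y hy => by
      obtain ⟨z, hz, rfl⟩ := exists_of_image hA₁ hy
      obtain ⟨φ, hφ, he⟩ := hf.mono hAQ
      rw [← he ⟨z, hz⟩]
      exact (stronglyClosed_hyperfocal hS hF).2 A hAH φ hφ ⟨z, hz⟩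
    have hA₁s : ∀ y ∈ A₁, IsSmall p y := fun y hy => by
      obtain ⟨z, hz, rfl⟩ := exists_of_image hA₁ hy
      rw [isSmall_iff, ← hf.map_pow (hAQ hz), isSmall_iff.mp (hAs z hz), hf.map_one]
    obtain ⟨e, he⟩ : ActsByP F p A₂ := by
      rcases mapFn_or_actsByP hS hF hE hle hag IH hA₁Q hA₁H hA₁c hA₁s hA₁n hkQ hkA hA₂ with h1 | h1
      · rcases mapFn_or_actsByP hS hF hE hle hag IH hAQ hAH hAc hAs hAn hkf hkfA hA₂ with h2 | h2
        · exfalso
          obtain ⟨k', -, hk'⟩ := h1.exists_image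
          obtain ⟨ki, hki, -, hki₁, -⟩ := h1.exists_inv hk'
          have hfE : MapFn E Q f := (h2.comp hki fun z hz =>
            mem_of_image hk' (mem_of_image hfQ hz)).congr fun z hz => hki₁ _ (mem_of_image hfQ hz)
          exact hnot ((mem_autGroup_iff_mapFn hQS).mpr ⟨f, hfE, hfe⟩)
        · exact h2
      · exact h1
    -- the subgroups coincide and the automorphism acts by `p`-elements
    have heq : ∀ (B : Subgroup Ω) (g : Ω → Ω), B ≤ Q → MapFn F Q g → g '' B = (A₂ : Set Ω) → B = A₂ := by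
      intro B g hB hg hgB
      obtain ⟨Q', -, hQ'⟩ := hg.exists_image
      obtain ⟨gi, hgi, -, hgi₁, -⟩ := hg.exists_inv hQ'
      have h1 := (he Q' gi hgi fun y hy => by
        obtain ⟨z, hz, rfl⟩ := exists_of_image hgB hy
        exact mem_of_image hQ' (hB hz)).1
      apply SetLike.coe_injective
      rw [← h1, ← hgB, ← Set.image_comp]
      calc (B : Set Ω) = id '' (B : Set Ω) := (Set.image_id _).symm
        _ = _ := Set.image_congr fun z hz => (hgi₁ z (hB hz)).symm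
    have e1 := heq A₁ k hA₁Q hkQ hkA
    have e2 := heq A (k ∘ f) hAQ hkf hkfA
    subst e2
    subst e1
    have hxfix : f^[p ^ e] x = x := (he Q f hf hAQ).2 x hx
    have hitP : ∀ (n : ℕ) (z : Q), f^[n] z = ((((α ^ n : F.autGroup Q) : MulAut Q) z : Q) : Ω) := by
      intro n
      induction n with
      | zero => intro z; rfl
      | succ n ih =>
        intro z
        rw [Function.iterate_succ_apply, hfe, ih, pow_succ, Subgroup.coe_mul, MulAut.mul_apply]
    obtain ⟨j, hj⟩ := exists_pow_eq_self_of_coprime (x := α) (n := p ^ e)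
      ((Nat.Coprime.pow_right e hα).symm)
    have h2 : f^[p ^ e * j] x = x := iterate_fix_mul hxfix
    rw [hitP, pow_mul, hj] at h2
    exact Subtype.ext h2
  obtain ⟨α, hα, hαe⟩ := ha.exists_aut har
  obtain ⟨b, hb, g, hg, c, hc, hce⟩ :=
    FullyAutomized.exists_mul (fullyNormalized_good hS hF hQn).1 hα
  have hbE : (b : MulAut Q) ∈ E.autGroup Q := by
    clear hc
    induction hb using Subgroup.closure_induction with
    | mem y hy => exact hcop y hy
    | one => exact Subgroup.one_mem _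
    | mul y z _ _ h1 h2 => exact Subgroup.mul_mem _ h1 h2
    | inv y _ h1 => exact Subgroup.inv_mem _ h1
  have hαE : α ∈ E.autGroup Q := hc ▸ Subgroup.mul_mem _ hbE
    (autInducedBy_le_autGroup hQS (mem_autInducedBy.mpr ⟨g, hg, hce⟩))
  obtain ⟨f', hf', hf'e⟩ := (mem_autGroup_iff_mapFn hQS).mp hαE
  exact hf'.congr fun x hx => (hf'e ⟨x, hx⟩).trans (hαe ⟨x, hx⟩)

/-- The statement with the sets of maps. -/
theorem hom_eq_of_homSet {E : FusionSystem S} (hS : IsPGroup p S) (hE : E.IsSaturated p)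
    (hF : F.IsSaturated p) (hle : E ≤ F)
    (hodd : p ≠ 2 → ∀ A B : Subgroup Ω, A ≤ F.hyperfocalSubgroup p → B ≤ F.hyperfocalSubgroup p →
      IsElementaryAbelian p A → IsElementaryAbelian p B → E.homSet A B = F.homSet A B)
    (htwo : p = 2 → ∀ A B : Subgroup Ω, A ≤ F.hyperfocalSubgroup p → B ≤ F.hyperfocalSubgroup p →
      IsMulCommutative ↥A → IsMulCommutative ↥B → (∀ a ∈ A, a ^ 4 = 1) → (∀ b ∈ B, b ^ 4 = 1) →
      E.homSet A B = F.homSet A B)
    (P : Subgroup Ω) : E.Hom P = F.Hom P := by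
  refine Set.Subset.antisymm (hle P) (le_of_agree (mapCount F) hS E F hE hF rfl hle ?_ P)
  rintro B f hBH hBc hBs ⟨φ, hφ, hφe⟩
  have hC : φ.range ≤ F.hyperfocalSubgroup p := by
    rintro _ ⟨x, rfl⟩
    exact (stronglyClosed_hyperfocal hS hF).2 B hBH φ hφ x
  have hCc : IsMulCommutative φ.range := ⟨⟨by
    rintro ⟨_, a, rfl⟩ ⟨_, b, rfl⟩
    exact Subtype.ext (by
      show φ a * φ b = φ b * φ a
      rw [← map_mul, ← map_mul, mul_comm' a b])⟩⟩
  have hCs : ∀ y ∈ φ.range, y ^ p ^ smallExp p = 1 := by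
    rintro _ ⟨x, rfl⟩
    rw [← map_pow, show x ^ p ^ smallExp p = 1 from Subtype.ext (isSmall_iff.mp (hBs x x.2)), map_one]
  have hm : φ ∈ F.homSet B φ.range := ⟨hφ, fun x => ⟨x, rfl⟩⟩
  by_cases h2 : p = 2
  · rw [← htwo h2 B φ.range hBH hC hBc hCc (fun a ha => by
        simpa [h2, smallExp] using isSmall_iff.mp (hBs a ha)) (fun b hb => by
        simpa [h2, smallExp] using hCs b hb)] at hm
    exact ⟨φ, hm.1, hφe⟩
  · rw [← hodd h2 B φ.range hBH hC ⟨hBc, fun a ha => by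
        simpa [h2, smallExp] using isSmall_iff.mp (hBs a ha)⟩ ⟨hCc, fun b hb => by
        simpa [h2, smallExp] using hCs b hb⟩] at hm
    exact ⟨φ, hm.1, hφe⟩

end CfsgLib.FusionNormal.SmallAbelian
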