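import Cfsg.Agent.Lib.FusionNormal.SmallChar
import Cfsg.Agent.Lib.FusionNormal.Alperin
import Cfsg.Agent.Lib.Fusion.Hyperfocal
import Cfsg.Agent.Lib.Fusion.PAut
import Cfsg.Agent.Lib.Fusion.Normal

/-!
# Fusion of small elements of the hyperfocal subgroup controls normality of `S`

If a series of subgroups of `S`, central on small elements of the hyperfocal subgroup, is preserved
on these elements by all maps then `S` is normal; if moreover the maps are trivial on its factors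
then the system is inner.
-/

namespace CfsgLib.FusionNormal

open Cfsg Cfsg.FusionSystem CfsgLib.Fusion

variable {Ω : Type*} [Group Ω] {S : Subgroup Ω} {F : FusionSystem S} {p : ℕ}

/-- The automorphisms trivial on the factors of the series form a normal `p`-subgroup. -/
theorem exists_series_kernel [Finite S] [Fact p.Prime] (hS : IsPGroup p S) (hF : F.IsSaturated p)
    (L : ℕ → Subgroup Ω) (n : ℕ) (h0 : L 0 = ⊥)
    (htop : ∀ x ∈ F.hyperfocalSubgroup p, IsSmall p x → x ∈ L n)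
    (hinv : ∀ (P : Subgroup Ω) (φ : P →* Ω), φ ∈ F.Hom P → ∀ (i : ℕ) (x : P),
      (x : Ω) ∈ F.hyperfocalSubgroup p → IsSmall p (x : Ω) → (x : Ω) ∈ L i → φ x ∈ L i)
    {Q : Subgroup Ω} (hQ : Q ≤ S) :
    ∃ K : Subgroup (F.autGroup Q), K.Normal ∧ IsPGroup p K ∧
      ∀ κ : F.autGroup Q, (∀ i, ∀ x : Q, (x : Ω) ∈ F.hyperfocalSubgroup p → IsSmall p (x : Ω) →
        (x : Ω) ∈ L (i + 1) → (x : Ω)⁻¹ * (((κ : MulAut Q) x : Q) : Ω) ∈ L i) → κ ∈ K := by
  have := finite_of_le hQ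
  have := finite_mulAut hQ
  have hQp := hS.to_le hQ
  set H₀ : Subgroup Q := (F.hyperfocalSubgroup p).subgroupOf Q with hH₀
  obtain ⟨W, hWc, hWs, hWf⟩ := exists_small_char (P := H₀) (hQp.to_subgroup H₀)
  let act : F.autGroup Q → Q → Q := fun κ x => (κ : MulAut Q) x
  have hhyp : ∀ (κ : F.autGroup Q) (x : Q), x ∈ H₀ → act κ x ∈ H₀ := fun κ x hx =>
    (stronglyClosed_hyperfocal hS hF).2 (Q ⊓ F.hyperfocalSubgroup p) inf_le_right _
      (restrict_mem inf_le_left ((mem_autGroup hQ).mp κ.2)) ⟨x, x.2, hx⟩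
  let res : F.autGroup Q → MulAut H₀ := fun κ =>
    { toFun := fun x => ⟨act κ x, hhyp κ x x.2⟩
      invFun := fun x => ⟨act κ⁻¹ x, hhyp κ⁻¹ x x.2⟩
      left_inv := fun x => Subtype.ext (by simp [act, MulAut.inv_def])
      right_inv := fun x => Subtype.ext (by simp [act, MulAut.inv_def])
      map_mul' := fun x y => Subtype.ext (map_mul _ _ _) }
  let res' : F.autGroup Q →* MulAut H₀ :=
    { toFun := res
      map_one' := MulEquiv.ext fun x => Subtype.ext rfl
      map_mul' := fun a b => MulEquiv.ext fun x => Subtype.ext rfl }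
  have hWinv : ∀ (κ : F.autGroup Q) (x : H₀), x ∈ W → res κ x ∈ W := fun κ x hx =>
    (Subgroup.characteristic_iff_le_comap.mp hWc (res κ)) hx
  have hsm : ∀ x : H₀, x ∈ W → IsSmall p (((x : Q) : Ω)) := fun x hx =>
    (hWs x hx).map (Q.subtype.comp H₀.subtype)
  have hL : ∀ (κ : F.autGroup Q) (x : H₀), x ∈ W → ∀ i, ((x : Q) : Ω) ∈ L i →
      ((res κ x : Q) : Ω) ∈ L i := fun κ x hx i hi =>
    hinv Q _ ((mem_autGroup hQ).mp κ.2) i (x : Q) x.2 (hsm x hx) hi
  let K : Subgroup (F.autGroup Q) :=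
    { carrier := {κ | ∀ i, ∀ x : H₀, x ∈ W → ((x : Q) : Ω) ∈ L (i + 1) →
        ((x : Q) : Ω)⁻¹ * ((res κ x : Q) : Ω) ∈ L i}
      one_mem' := fun i x _ _ => by
        have : res 1 x = x := Subtype.ext rfl
        rw [this, inv_mul_cancel]; exact Subgroup.one_mem _
      mul_mem' := fun {a b} ha hb i x hx hi => by
        have h1 := (L i).mul_mem (hb i x hx hi) (ha i (res b x) (hWinv b x hx) (hL b x hx _ hi))
        have h2 : res (a * b) x = res a (res b x) := Subtype.ext rfl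
        rw [h2]
        simpa [mul_assoc] using h1
      inv_mem' := fun {a} ha i x hx hi => by
        have h1 := (L i).inv_mem (ha i (res a⁻¹ x) (hWinv _ x hx) (hL _ x hx _ hi))
        have h2 : res a (res a⁻¹ x) = x := Subtype.ext (by simp [res, act, MulAut.inv_def])
        rw [h2] at h1
        simpa using h1 }
  refine ⟨K, ⟨fun κ hκ β i x hx hi => ?_⟩, fun κ => ?_, fun κ hκ i x hx hi => hκ i x x.2 (hsm x hx) hi⟩
  · set z := res β⁻¹ x with hz
    have hzW : z ∈ W := hWinv _ x hx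
    have h1 := hκ i z hzW (hL _ x hx _ hi)
    have h2 : z⁻¹ * res κ z ∈ W := W.mul_mem (W.inv_mem hzW) (hWinv _ z hzW)
    have h3 := hL β _ h2 i (by simpa using h1)
    rw [map_mul, map_inv] at h3
    have h4 : res β z = x := Subtype.ext (by simp [hz, res, act, MulAut.inv_def])
    have h5 : res β (res κ z) = res (β * κ * β⁻¹) x := Subtype.ext rfl
    rw [h4, h5] at h3
    simpa using h3
  · obtain ⟨a, m, hm, ham⟩ := Nat.exists_eq_pow_mul_and_not_dvd
      (orderOf_pos (κ : F.autGroup Q)).ne' p (Fact.out : p.Prime).ne_one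
    refine ⟨a, Subtype.ext ?_⟩
    set α : F.autGroup Q := (κ : F.autGroup Q) ^ p ^ a with hα
    show α = 1
    have hαK : α ∈ K := K.pow_mem κ.2 _
    have hco : (orderOf α).Coprime p := by
      refine Nat.Coprime.coprime_dvd_left (orderOf_dvd_of_pow_eq_one (n := m) ?_)
        ((Fact.out : p.Prime).coprime_iff_not_dvd.mpr hm).symm
      rw [hα, ← pow_mul, ← ham, pow_orderOf_eq_one]
    have hres : res α = 1 := by
      have hco' : (orderOf (res α)).Coprime p := hco.coprime_dvd_left (orderOf_map_dvd res' α)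
      refine hWf _ hco' ?_
      have : ∀ i, ∀ x : H₀, x ∈ W → ((x : Q) : Ω) ∈ L i → res α x = x := by
        intro i
        induction i with
        | zero =>
          intro x _ hx
          rw [h0, Subgroup.mem_bot] at hx
          rw [show x = 1 from Subtype.ext (Subtype.ext hx), map_one]
        | succ i ih =>
          intro x hx hi
          refine fix_of_step (hQp.to_subgroup H₀) _ hco' (ih _ (W.mul_mem (W.inv_mem hx) (hWinv _ x hx)) ?_)
          simpa using hαK i x hx hi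
      exact fun x hx => this n x hx (htop _ x.2 (hsm x hx))
    apply Subtype.ext
    refine MulEquiv.ext fun x => ?_
    have hco'' : (orderOf (α : MulAut Q)).Coprime p := by rwa [Subgroup.orderOf_coe]
    refine fix_of_step hQp _ hco'' ?_
    have hy : x⁻¹ * (α : MulAut Q) x ∈ H₀ := mem_hyperfocal hQ (Subgroup.subset_closure hco) x
    exact congrArg Subtype.val (DFunLike.congr_fun hres ⟨_, hy⟩)

/-- `S` is normal if the maps preserve on small elements of the hyperfocal subgroup a series with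
factors centralized by `S`. -/
theorem isNormal_of_small_series [Finite S] [Fact p.Prime] (hS : IsPGroup p S) (hF : F.IsSaturated p)
    (L : ℕ → Subgroup Ω) (n : ℕ) (h0 : L 0 = ⊥)
    (htop : ∀ x ∈ F.hyperfocalSubgroup p, IsSmall p x → x ∈ L n)
    (hinv : ∀ (P : Subgroup Ω) (φ : P →* Ω), φ ∈ F.Hom P → ∀ (i : ℕ) (x : P),
      (x : Ω) ∈ F.hyperfocalSubgroup p → IsSmall p (x : Ω) → (x : Ω) ∈ L i → φ x ∈ L i)
    (hcent : ∀ g ∈ S, ∀ (i : ℕ) (x : Ω), x ∈ F.hyperfocalSubgroup p → IsSmall p x → x ∈ L (i + 1) →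
      x⁻¹ * (g * x * g⁻¹) ∈ L i) :
    F.IsNormal S := by
  refine isNormal_of_radicals hS hF le_rfl fun R _ hRc hRr => ?_
  have hRS : R = S := by
    by_contra hne
    obtain ⟨K, hK, hKp, hmem⟩ := exists_series_kernel hS hF L n h0 htop hinv hRc.1
    have hlt := lt_normalizerIn' hS hRc.1 hne
    obtain ⟨g, hg, hgR⟩ := SetLike.exists_of_lt hlt
    obtain ⟨α, hα, hαe⟩ := exists_autInducedBy (K := S) hg.1 hg.2
    refine hgR (mem_of_radical hRc hRr hK hKp hg.1
      (α := ⟨α, autInducedBy_le_autGroup hRc.1 hα⟩) (hmem _ fun i x hx hs hi => ?_) hαe)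
    show (x : Ω)⁻¹ * ((α x : R) : Ω) ∈ L i
    rw [hαe]
    exact hcent g hg.1 i x hx hs hi
  subst hRS
  exact ⟨le_rfl, fun a _ ha => ha⟩

/-- The system is inner if all maps are trivial on the factors of such a series. -/
theorem eq_inner_of_small_series [Finite S] [Fact p.Prime] (hS : IsPGroup p S) (hF : F.IsSaturated p)
    (L : ℕ → Subgroup Ω) (n : ℕ) (h0 : L 0 = ⊥)
    (htop : ∀ x ∈ F.hyperfocalSubgroup p, IsSmall p x → x ∈ L n)
    (hinv : ∀ (P : Subgroup Ω) (φ : P →* Ω), φ ∈ F.Hom P → ∀ (i : ℕ) (x : P),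
      (x : Ω) ∈ F.hyperfocalSubgroup p → IsSmall p (x : Ω) → (x : Ω) ∈ L i → φ x ∈ L i)
    (htriv : ∀ (P : Subgroup Ω) (φ : P →* Ω), φ ∈ F.Hom P → ∀ (i : ℕ) (x : P),
      (x : Ω) ∈ F.hyperfocalSubgroup p → IsSmall p (x : Ω) → (x : Ω) ∈ L (i + 1) →
        (x : Ω)⁻¹ * φ x ∈ L i) :
    ∀ P, F.Hom P = (innerFusionSystem S).Hom P := by
  refine eq_inner_of_pGroup_autGroups hS hF fun Q hQ => ?_
  obtain ⟨K, -, hKp, hmem⟩ := exists_series_kernel hS hF L n h0 htop hinv hQ.1
  have hK : K = ⊤ := eq_top_iff.mpr fun κ _ => hmem κ fun i x hx hs hi =>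
    htriv Q _ ((mem_autGroup hQ.1).mp κ.2) i x hx hs hi
  subst hK
  exact hKp.of_equiv Subgroup.topEquiv

end CfsgLib.FusionNormal

namespace CfsgLib.FusionNormal

open Cfsg Cfsg.FusionSystem CfsgLib.Fusion
open scoped commutatorElement

variable {Ω : Type*} [Group Ω] {S : Subgroup Ω} {F : FusionSystem S} {p : ℕ}

/-- The upper central series of `S`, inside the ambient group. -/
def centralSeries (S : Subgroup Ω) (i : ℕ) : Subgroup Ω := (Subgroup.upperCentralSeries S i).map S.subtype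

theorem centralSeries_zero : centralSeries S 0 = ⊥ := by
  simp [centralSeries]

theorem exists_centralSeries_top [Finite S] [Fact p.Prime] (hS : IsPGroup p S) :
    ∃ n, centralSeries S n = S := by
  have : Group.IsNilpotent S := hS.isNilpotent
  obtain ⟨n, hn⟩ := Group.IsNilpotent.nilpotent' (G := S)
  exact ⟨n, by rw [centralSeries, hn, ← MonoidHom.range_eq_map, Subgroup.range_subtype]⟩

theorem commutator_mem_centralSeries {g x : Ω} (hg : g ∈ S) {i : ℕ} (hx : x ∈ centralSeries S (i + 1)) :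
    x⁻¹ * (g * x * g⁻¹) ∈ centralSeries S i := by
  obtain ⟨z, hz, rfl⟩ := hx
  have h1 := Subgroup.mem_upperCentralSeries_succ_iff.mp (Subgroup.inv_mem _ hz) ⟨g, hg⟩
  refine ⟨_, h1, ?_⟩
  simp [commutatorElement_def, mul_assoc]

theorem card_zpowers_small [Fact p.Prime] {x : Ω} (hx : IsSmall p x) (h1 : x ≠ 1) :
    Nat.card (Subgroup.zpowers x) = p ∨ Nat.card (Subgroup.zpowers x) = 4 := by
  rw [Nat.card_zpowers]
  rcases hx with hx | ⟨h2, hx⟩
  · exact Or.inl (orderOf_eq_prime hx h1)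
  · obtain ⟨k, hk, hk'⟩ := (Nat.dvd_prime_pow Nat.prime_two).mp (show orderOf x ∣ 2 ^ 2 from orderOf_dvd_of_pow_eq_one hx)
    interval_cases k
    · exact absurd (orderOf_eq_one_iff.mp (by simpa using hk')) h1
    · exact Or.inl (by simpa [h2] using hk')
    · exact Or.inr (by simpa using hk')

/-- The map on `⟨x⟩` taking `x` to its image is between small cyclic subgroups of the hyperfocal
subgroup. -/
theorem exists_small_hom [Finite S] [Fact p.Prime] (hS : IsPGroup p S) (hF : F.IsSaturated p)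
    {P : Subgroup Ω} {φ : P →* Ω} (hφ : φ ∈ F.Hom P) (x : P) (hx : (x : Ω) ∈ F.hyperfocalSubgroup p)
    (hs : IsSmall p (x : Ω)) (h1 : (x : Ω) ≠ 1) :
    ∃ (A B : Subgroup Ω) (χ : A →* Ω) (hxA : (x : Ω) ∈ A), A ≤ F.hyperfocalSubgroup p ∧ B ≤ F.hyperfocalSubgroup p ∧
      IsCyclic A ∧ (Nat.card A = p ∨ Nat.card A = 4) ∧ IsCyclic B ∧ (Nat.card B = p ∨ Nat.card B = 4) ∧
      A ≤ S ∧ χ ∈ F.homSet A B ∧ χ ⟨x, hxA⟩ = φ x := by
  have hle : Subgroup.zpowers (x : Ω) ≤ P := Subgroup.zpowers_le.mpr x.2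
  have hne : φ x ≠ 1 := fun h => h1 (congrArg Subtype.val (F.injective_of_mem hφ (h.trans (map_one φ).symm)))
  refine ⟨_, Subgroup.zpowers (φ x), φ.comp (Subgroup.inclusion hle), Subgroup.mem_zpowers _,
    Subgroup.zpowers_le.mpr hx,
    Subgroup.zpowers_le.mpr (StronglyClosed.apply_mem (stronglyClosed_hyperfocal hS hF) hφ x hx),
    inferInstance, card_zpowers_small hs h1, inferInstance,
    card_zpowers_small ((isSmall_coe_iff.mp hs).map φ) hne, hle.trans (le_S hφ),
    ⟨restrict_mem hle hφ, ?_⟩, rfl⟩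
  rintro ⟨y, hy⟩
  obtain ⟨k, rfl⟩ := Subgroup.mem_zpowers_iff.mp hy
  show φ ⟨(x : Ω) ^ k, _⟩ ∈ _
  rw [show (⟨(x : Ω) ^ k, hle hy⟩ : P) = x ^ k from Subtype.ext (by simp), map_zpow]
  exact Subgroup.zpow_mem _ (Subgroup.mem_zpowers _) k

/-- `S` is normal if small cyclic subgroups of the hyperfocal subgroup are fused in `N_F(S)` only. -/
theorem isNormal_of_small_normalizer [Finite S] [Fact p.Prime] (hS : IsPGroup p S) (hF : F.IsSaturated p)
    (h : ∀ A B : Subgroup Ω, A ≤ (F.hyperfocalSubgroup p) → B ≤ (F.hyperfocalSubgroup p) → IsCyclic ↥A →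
      (Nat.card ↥A = p ∨ Nat.card ↥A = 4) → IsCyclic ↥B → (Nat.card ↥B = p ∨ Nat.card ↥B = 4) →
      F.homSet A B ⊆ F.normalizerHom S A) :
    F.IsNormal S := by
  obtain ⟨n, hn⟩ := exists_centralSeries_top hS
  refine isNormal_of_small_series hS hF (centralSeries S) n centralSeries_zero
    (fun x hx _ => hn.symm ▸ hyperfocal_le F p hx) ?_
    (fun g hg i x _ _ hx => commutator_mem_centralSeries hg hx)
  intro P φ hφ i x hx hs hi
  by_cases h1 : (x : Ω) = 1
  · rw [show x = 1 from Subtype.ext h1, map_one]; exact Subgroup.one_mem _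
  obtain ⟨A, B, χ, hxA, hA, hB, hAc, hAn, hBc, hBn, hAS, hχ, hχx⟩ := exists_small_hom hS hF hφ x hx hs h1
  obtain ⟨-, -, -, ψ, hψ, hψe, hψS⟩ := h A B hA hB hAc hAn hBc hBn hχ
  obtain ⟨ω, hω, hωr, hωe⟩ := exists_restrict hψ le_sup_right hψS
  obtain ⟨β, hβ, hβe⟩ := Fusion.exists_aut hω hωr
  have hxS : (x : Ω) ∈ S := hyperfocal_le F p hx
  rw [← hχx, ← hψe]
  obtain ⟨z, hz, hzx⟩ := hi
  have hz' : z = ⟨x, hxS⟩ := Subtype.ext hzx
  subst hz'
  refine ⟨β ⟨x, hxS⟩, (Subgroup.characteristic_iff_le_comap.mp inferInstance β) hz, ?_⟩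
  rw [Subgroup.coe_subtype, hβe, hωe]
  exact apply_eq_of_coe_eq rfl

/-- The system is inner if small cyclic subgroups of the hyperfocal subgroup are fused by `S` only. -/
theorem eq_inner_of_small_inner [Finite S] [Fact p.Prime] (hS : IsPGroup p S) (hF : F.IsSaturated p)
    (h : ∀ A B : Subgroup Ω, A ≤ (F.hyperfocalSubgroup p) → B ≤ (F.hyperfocalSubgroup p) → IsCyclic ↥A →
      (Nat.card ↥A = p ∨ Nat.card ↥A = 4) → IsCyclic ↥B → (Nat.card ↥B = p ∨ Nat.card ↥B = 4) →
      F.homSet A B ⊆ (innerFusionSystem S).Hom A) :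
    ∀ P, F.Hom P = (innerFusionSystem S).Hom P := by
  obtain ⟨n, hn⟩ := exists_centralSeries_top hS
  have hconj : ∀ (P : Subgroup Ω) (φ : P →* Ω), φ ∈ F.Hom P → ∀ x : P, (x : Ω) ∈ F.hyperfocalSubgroup p →
      IsSmall p (x : Ω) → ∃ g ∈ S, φ x = g * x * g⁻¹ := by
    intro P φ hφ x hx hs
    by_cases h1 : (x : Ω) = 1
    · refine ⟨1, S.one_mem, ?_⟩
      rw [show x = 1 from Subtype.ext h1, map_one]; simp
    obtain ⟨A, B, χ, hxA, hA, hB, hAc, hAn, hBc, hBn, hAS, hχ, hχx⟩ := exists_small_hom hS hF hφ x hx hs h1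
    obtain ⟨-, g, hg, he⟩ := h A B hA hB hAc hAn hBc hBn hχ
    exact ⟨g, hg, by rw [← hχx, he]⟩
  refine eq_inner_of_small_series hS hF (centralSeries S) n centralSeries_zero
    (fun x hx _ => hn.symm ▸ hyperfocal_le F p hx) ?_ ?_
  · intro P φ hφ i x hx hs hi
    obtain ⟨g, hg, he⟩ := hconj P φ hφ x hx hs
    rw [he]
    obtain ⟨z, hz, hzx⟩ := hi
    refine ⟨⟨g, hg⟩ * z * (⟨g, hg⟩ : S)⁻¹, Subgroup.Normal.conj_mem inferInstance z hz _, ?_⟩
    rw [← hzx]; rfl
  · intro P φ hφ i x hx hs hi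
    obtain ⟨g, hg, he⟩ := hconj P φ hφ x hx hs
    rw [he]
    exact commutator_mem_centralSeries hg hi

/-- An element of order `p` generating a normal subgroup of `S` is central. -/
theorem central_of_normal_order_p [Finite S] [Fact p.Prime] (hS : IsPGroup p S) {y : Ω}
    (hy : y ^ p = 1) (h : ∀ s ∈ S, s * y * s⁻¹ ∈ Subgroup.zpowers y) {g : Ω} (hg : g ∈ S) :
    g * y * g⁻¹ = y := by
  by_cases h1 : y = 1
  · simp [h1]
  obtain ⟨k, hk⟩ := Subgroup.mem_zpowers_iff.mp (h g hg)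
  have hord : orderOf y = p := orderOf_eq_prime hy h1
  have hpow : ∀ m : ℕ, g ^ m * y * (g ^ m)⁻¹ = y ^ (k ^ m) := by
    intro m
    induction m with
    | zero => simp
    | succ m ih =>
      rw [show g ^ (m + 1) * y * (g ^ (m + 1))⁻¹ = g ^ m * (g * y * g⁻¹) * (g ^ m)⁻¹ by
        rw [pow_succ]; group, ← hk, ← conj_zpow, ih, ← zpow_mul, pow_succ]
  have hkp : IsCoprime k (p : ℤ) := by
    rw [Int.isCoprime_iff_gcd_eq_one]
    by_contra hne
    have hd : (p : ℤ) ∣ k := by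
      rcases (Nat.dvd_prime (Fact.out : p.Prime)).mp (Int.natCast_dvd_natCast.mp (Int.gcd_dvd_right k (p : ℤ))) with h' | h'
      · exact absurd h' hne
      · exact h' ▸ Int.gcd_dvd_left k (p : ℤ)
    obtain ⟨q, rfl⟩ := hd
    rw [zpow_mul, zpow_natCast, hy, one_zpow, eq_comm, mul_inv_eq_one, mul_eq_left] at hk
    exact h1 hk
  have hfix : g ^ (p - 1) * y * (g ^ (p - 1))⁻¹ = y := by
    rw [hpow]
    conv_rhs => rw [← zpow_one y]
    refine zpow_eq_zpow_iff_modEq.mpr ?_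
    rw [hord]
    exact Int.ModEq.pow_card_sub_one_eq_one (Fact.out : p.Prime) hkp
  obtain ⟨a, ha⟩ := hS ⟨g, hg⟩
  have hco : (p - 1).Coprime (orderOf g) := by
    refine Nat.Coprime.coprime_dvd_right (orderOf_dvd_of_pow_eq_one (congrArg Subtype.val ha)) (Nat.Coprime.pow_right a ?_)
    have hp : 1 < p := (Fact.out : p.Prime).one_lt
    have h2 : (p - 1).Coprime (p - 1 + 1) := Nat.coprime_self_add_right.mpr (Nat.coprime_one_right _)
    rwa [Nat.sub_add_cancel hp.le] at h2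
  obtain ⟨m, hm⟩ := exists_pow_eq_self_of_coprime hco
  have hc : Commute (g ^ (p - 1)) y := mul_inv_eq_iff_eq_mul.mp hfix
  have := hc.pow_left m
  rw [hm] at this
  rw [this.eq, mul_inv_cancel_right]

/-- `S` is normal if the small cyclic subgroups of the focal subgroup are normal in `S`. -/
theorem isNormal_of_small_cyclic_normal [Finite S] [Fact p.Prime] (hS : IsPGroup p S) (hF : F.IsSaturated p)
    (hnorm : ∀ x ∈ F.focalSubgroup, (x ^ p = 1 ∨ (p = 2 ∧ x ^ 4 = 1)) → ∀ s ∈ S, s * x * s⁻¹ ∈ Subgroup.zpowers x) :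
    F.IsNormal S := by
  let Z : Subgroup Ω :=
    { carrier := {z | z ∈ S ∧ z ^ p = 1 ∧ ∀ s ∈ S, s * z * s⁻¹ = z}
      one_mem' := ⟨S.one_mem, one_pow _, fun s _ => by simp⟩
      mul_mem' := fun {a b} ha hb => ⟨S.mul_mem ha.1 hb.1, by
          have hc : Commute a b := mul_inv_eq_iff_eq_mul.mp (hb.2.2 a ha.1)
          rw [hc.mul_pow, ha.2.1, hb.2.1, one_mul],
        fun s hs => by rw [← conj_mul, ha.2.2 s hs, hb.2.2 s hs]⟩
      inv_mem' := fun {a} ha => ⟨S.inv_mem ha.1, by rw [inv_pow, ha.2.1, inv_one],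
        fun s hs => by rw [← conj_inv, ha.2.2 s hs]⟩ }
  have hfoc : F.hyperfocalSubgroup p ≤ F.focalSubgroup := Fusion.hyperfocal_le_focal F p
  have hcen : ∀ x ∈ F.hyperfocalSubgroup p, x ^ p = 1 → x ∈ Z := fun x hx hxp =>
    ⟨hyperfocal_le F p hx, hxp, fun s hs => central_of_normal_order_p hS hxp
      (hnorm x (hfoc hx) (Or.inl hxp)) hs⟩
  let L : ℕ → Subgroup Ω := fun i => if i = 0 then ⊥ else if i = 1 then Z else S
  refine isNormal_of_small_series hS hF L 2 rfl (fun x hx _ => hyperfocal_le F p hx) ?_ ?_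
  · intro P φ hφ i x hx hs hi
    rcases i with _ | _ | i
    · have hi' : (x : Ω) = 1 := Subgroup.mem_bot.mp hi
      rw [show x = 1 from Subtype.ext hi', map_one]
      exact Subgroup.one_mem _
    · change (x : Ω) ∈ Z at hi
      refine hcen _ (StronglyClosed.apply_mem (stronglyClosed_hyperfocal hS hF) hφ x hx) ?_
      rw [← map_pow, show x ^ p = 1 from Subtype.ext (by simpa using hi.2.1), map_one]
    · exact apply_mem_S hφ x
  · intro g hg i x hx hs hi
    rcases i with _ | _ | i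
    · change x ∈ Z at hi
      show x⁻¹ * (g * x * g⁻¹) ∈ (⊥ : Subgroup Ω)
      rw [hi.2.2 g hg, inv_mul_cancel]
      exact Subgroup.one_mem _
    · show x⁻¹ * (g * x * g⁻¹) ∈ Z
      rcases hs with hs | ⟨h2, hs⟩
      · rw [(hcen x hx hs).2.2 g hg, inv_mul_cancel]; exact Z.one_mem
      · obtain ⟨k, hk⟩ := Subgroup.mem_zpowers_iff.mp (hnorm x (hfoc hx) (Or.inr ⟨h2, hs⟩) g hg)
        rw [← hk]
        refine hcen _ ((F.hyperfocalSubgroup p).mul_mem ((F.hyperfocalSubgroup p).inv_mem hx)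
          ((F.hyperfocalSubgroup p).zpow_mem hx k)) ?_
        subst h2
        rw [← zpow_neg_one, ← zpow_add, ← zpow_natCast, ← zpow_mul]
        rcases Int.even_or_odd k with ⟨j, rfl⟩ | ⟨j, rfl⟩
        · have h3 : (g * x * g⁻¹) ^ 2 = 1 := by
            rw [← hk, ← zpow_natCast, ← zpow_mul, show (j + j) * (2 : ℕ) = (4 : ℕ) * j by push_cast; ring,
              zpow_mul, zpow_natCast, hs, one_zpow]
          rw [conj_pow, mul_inv_eq_one, mul_eq_left] at h3
          rw [show (-1 + (j + j)) * (2 : ℕ) = (2 : ℕ) * (-1 + (j + j)) by push_cast; ring,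
            zpow_mul, zpow_natCast, h3, one_zpow]
        · rw [show (-1 + (2 * j + 1)) * (2 : ℕ) = (4 : ℕ) * j by push_cast; ring,
            zpow_mul, zpow_natCast, hs, one_zpow]
    · exact S.mul_mem (S.inv_mem (hyperfocal_le F p hx))
        (S.mul_mem (S.mul_mem hg (hyperfocal_le F p hx)) (S.inv_mem hg))

end CfsgLib.FusionNormal
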