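import Cfsg.Agent.Lib.PLocal.NaturalModule
import Cfsg.Agent.Lib.LocalEven.Qd
import Cfsg.Agent.Lib.PGroup.Frattini
import Cfsg.Agent.Lib.PCore.Basic
import Cfsg.Agent.Lib.Transfer.Basic
import Cfsg.Agent.Lib.PLocal.SLTwoBasic

/-!
# Quadratic action modulo a central subgroup

An automorphism of a finite `p`-group (`p` odd) which is quadratic modulo a fixed central subgroup
but lies outside `O_p` of a group of automorphisms yields, on some subgroup, an automorphism which
is quadratic and outside `O_p` of the automorphisms induced by that group.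
-/

set_option autoImplicit false
set_option linter.style.haveILetI false

open scoped MatrixGroups

namespace CfsgLib.FusionNormal.StableLift

universe u

variable {Q : Type u} [Group Q] {p : ℕ}

/-- Restriction of automorphisms to an invariant subgroup. -/
def restrictAut (D : Subgroup (MulAut Q)) (U : Subgroup Q) (h : ∀ d ∈ D, ∀ x ∈ U, d x ∈ U) :
    D →* MulAut U where
  toFun d :=
    { toFun := fun x => ⟨(d : MulAut Q) x, h d d.2 x x.2⟩
      invFun := fun x => ⟨((d : MulAut Q)⁻¹) x, h _ (D.inv_mem d.2) x x.2⟩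
      left_inv := fun x => Subtype.ext (MulAut.inv_apply_self _ (d : MulAut Q) x)
      right_inv := fun x => Subtype.ext (MulAut.apply_inv_self _ (d : MulAut Q) x)
      map_mul' := fun x y => Subtype.ext (map_mul (d : MulAut Q) (x : Q) y) }
  map_one' := MulEquiv.ext fun _ => rfl
  map_mul' _ _ := MulEquiv.ext fun _ => rfl

@[simp]
theorem restrictAut_apply (D : Subgroup (MulAut Q)) (U : Subgroup Q) (h : ∀ d ∈ D, ∀ x ∈ U, d x ∈ U)
    (d : D) (x : U) : ((restrictAut D U h d x : U) : Q) = (d : MulAut Q) x := rfl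

variable [Finite Q] [Fact p.Prime]

/-- A `p'`-automorphism moving `x` only by a fixed element fixes `x`. -/
theorem fix_of_mod (hQ : IsPGroup p Q) {d : MulAut Q} (hd : (orderOf d).Coprime p) {x c : Q}
    (hc : d c = c) (h : d x = x * c) : d x = x := by
  have hpow : ∀ n : ℕ, (d ^ n) x = x * c ^ n := by
    intro n
    induction n with
    | zero => simp
    | succ n ih =>
      rw [pow_succ', MulAut.mul_apply, ih, map_mul, map_pow, hc, h, mul_assoc, ← pow_succ']
  have h1 := hpow (orderOf d)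
  rw [pow_orderOf_eq_one, MulAut.one_apply, eq_comm, mul_eq_left] at h1
  obtain ⟨k, hk⟩ := hQ c
  have hc1 : c = 1 := orderOf_eq_one_iff.mp (Nat.eq_one_of_dvd_coprimes
    (Nat.Coprime.pow_right k hd) (orderOf_dvd_of_pow_eq_one h1) (orderOf_dvd_of_pow_eq_one hk))
  rw [h, hc1, mul_one]

omit [Finite Q] in
theorem exists_coprime_ne_one {D : Subgroup (MulAut Q)} [Finite D] (hD : ¬ IsPGroup p D) :
    ∃ d : D, d ≠ 1 ∧ (orderOf d).Coprime p := by
  simp only [IsPGroup, not_forall, not_exists] at hD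
  obtain ⟨g, hg⟩ := hD
  obtain ⟨e, m, hm, hord⟩ := Nat.exists_eq_pow_mul_and_not_dvd (orderOf_pos g).ne' p
    (Fact.out : p.Prime).ne_one
  refine ⟨g ^ p ^ e, hg e, Nat.Coprime.coprime_dvd_left (orderOf_dvd_of_pow_eq_one ?_)
    ((Fact.out : p.Prime).coprime_iff_not_dvd.mpr hm).symm⟩
  rw [← pow_mul, ← hord, pow_orderOf_eq_one]

/-- An invariant subgroup, minimal with some `p'`-automorphism acting nontrivially. -/
theorem exists_minimal_moved (hQ : IsPGroup p Q) (D : Subgroup (MulAut Q)) (Z : Subgroup Q)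
    (hZfix : ∀ d ∈ D, ∀ z ∈ Z, d z = z) (hZc : Z ≤ Subgroup.center Q) (hD : ¬ IsPGroup p D) :
    ∃ U : Subgroup Q, ∃ hinv : ∀ d ∈ D, ∀ x ∈ U, d x ∈ U, Z ≤ U ∧ ∃ V₀ : Subgroup U,
      frattini U ≤ V₀ ∧ Z.subgroupOf U ≤ V₀ ∧ V₀ ≤ Subgroup.center U ∧
      (∀ d : D, ∀ v ∈ V₀, restrictAut D U hinv d v ∈ V₀) ∧
      (∀ d : D, (orderOf d).Coprime p → ∀ v ∈ V₀, restrictAut D U hinv d v = v) ∧
      ∃ d : D, (orderOf d).Coprime p ∧ ∃ x : U, restrictAut D U hinv d x ≠ x := by
  classical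
  haveI : Finite (MulAut Q) := Finite.of_injective (fun e => (⇑e : Q → Q)) DFunLike.coe_injective
  let C : Set (Subgroup Q) := {U | Z ≤ U ∧ (∀ d ∈ D, ∀ x ∈ U, d x ∈ U) ∧
    ∃ d : D, (orderOf d).Coprime p ∧ ∃ x ∈ U, (d : MulAut Q) x ≠ x}
  have hne : C.Nonempty := by
    obtain ⟨d, hd1, hd⟩ := exists_coprime_ne_one hD
    refine ⟨⊤, le_top, fun _ _ x _ => Subgroup.mem_top _, d, hd, ?_⟩
    by_contra h
    push Not at h
    exact hd1 (Subtype.ext (MulEquiv.ext fun x => h x (Subgroup.mem_top x)))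
  obtain ⟨U, hU⟩ := (Set.toFinite C).exists_minimal hne
  obtain ⟨hZU, hinv, d₀, hd₀, x₀, hx₀, hx₀d⟩ := hU.1
  set r := restrictAut D U hinv with hr
  have hUp : IsPGroup p U := hQ.to_subgroup U
  -- a proper invariant subgroup containing `Z` is fixed
  have hprop : ∀ V : Subgroup U, Z.subgroupOf U ≤ V → V ≠ ⊤ → (∀ d : D, ∀ v ∈ V, r d v ∈ V) →
      ∀ d : D, (orderOf d).Coprime p → ∀ v ∈ V, r d v = v := by
    intro V hZV hV hVinv d hd v hv
    by_contra hne
    have hVU : V.map U.subtype ≤ U := Subgroup.map_subtype_le V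
    have hmem : V.map U.subtype ∈ C := by
      refine ⟨fun z hz => ⟨⟨z, hZU hz⟩, hZV hz, rfl⟩, ?_, d, hd, v, ⟨v, hv, rfl⟩,
        fun h => hne (Subtype.ext h)⟩
      rintro e he _ ⟨w, hw, rfl⟩
      exact ⟨r ⟨e, he⟩ w, hVinv _ w hw, rfl⟩
    have h1 : U ≤ V.map U.subtype := hU.2 hmem hVU
    exact hV (eq_top_iff.mpr fun w _ => (Subgroup.mem_map_iff_mem U.subtype_injective).mp (h1 w.2))
  have hrd : ∀ d : D, (orderOf d).Coprime p → (orderOf (r d)).Coprime p := fun d hd =>
    Nat.Coprime.coprime_dvd_left (orderOf_map_dvd r d) hd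
  -- no proper invariant subgroup covers the action
  have hcover : ∀ V : Subgroup U, Z.subgroupOf U ≤ V → (∀ d : D, ∀ v ∈ V, r d v ∈ V) →
      (∀ (d : D), (orderOf d).Coprime p → ∀ x : U, x⁻¹ * r d x ∈ V) → V = ⊤ := by
    intro V hZV hVinv hmove
    by_contra hV
    refine hx₀d (congrArg Subtype.val (fix_of_mod hUp (hrd d₀ hd₀)
      (hprop V hZV hV hVinv d₀ hd₀ _ (hmove d₀ hd₀ ⟨x₀, hx₀⟩)) (mul_inv_cancel_left _ _).symm))
  set V₀ : Subgroup U := frattini U ⊔ Z.subgroupOf U with hV₀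
  have hV₀inv : ∀ d : D, ∀ v ∈ V₀, r d v ∈ V₀ := by
    intro d v hv
    have h1 : V₀.map (r d).toMonoidHom ≤ V₀ := by
      rw [hV₀, Subgroup.map_sup]
      refine sup_le_sup (Subgroup.characteristic_iff_map_le.mp inferInstance (r d)) ?_
      rintro _ ⟨z, hz, rfl⟩
      show ((r d z : U) : Q) ∈ Z
      rw [hr, restrictAut_apply, hZfix d d.2 (z : Q) hz]
      exact hz
    exact h1 ⟨v, hv, rfl⟩
  have hV₀top : V₀ ≠ ⊤ := by
    intro h
    have hZtop : Z.subgroupOf U = ⊤ := frattini_nongenerating (by rw [sup_comm, ← hV₀, h])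
    exact hx₀d (hZfix d₀ d₀.2 x₀ (hZtop.ge (Subgroup.mem_top ⟨x₀, hx₀⟩)))
  have hfix : ∀ d : D, (orderOf d).Coprime p → ∀ v ∈ V₀, r d v = v :=
    hprop V₀ le_sup_right hV₀top hV₀inv
  refine ⟨U, hinv, hZU, V₀, le_sup_left, le_sup_right, ?_, hV₀inv, hfix, d₀, hd₀, ⟨x₀, hx₀⟩,
    fun h => hx₀d (congrArg Subtype.val h)⟩
  -- centrality
  have hO : ∀ d ∈ Cfsg.pResidual p D, ∀ v ∈ V₀, r d v = v := by
    intro d hd
    induction hd using Subgroup.closure_induction with
    | mem x hx => exact hfix x hx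
    | one => intro v _; rw [map_one]; rfl
    | mul a b _ _ ha hb => intro v hv; rw [map_mul, MulAut.mul_apply, hb v hv, ha v hv]
    | inv a _ ha =>
      intro v hv
      rw [map_inv, MulAut.inv_apply, MulEquiv.symm_apply_eq, ha v hv]
  have hOn := CfsgLib.Transfer.pResidual_normal (G := D) (p := p)
  let G₁ : Set U := {g | ∃ d ∈ Cfsg.pResidual p D, ∃ x : U, g = x⁻¹ * r d x}
  set U₂ := Subgroup.closure G₁ ⊔ Z.subgroupOf U with hU₂
  have hU₂top : U₂ = ⊤ := by
    refine hcover U₂ le_sup_right ?_ fun d hd x =>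
      Subgroup.mem_sup_left (Subgroup.subset_closure ⟨d, CfsgLib.Transfer.mem_pResidual hd, x, rfl⟩)
    intro e v hv
    have h1 : U₂.map (r e).toMonoidHom ≤ U₂ := by
      rw [hU₂, Subgroup.map_sup]
      refine sup_le_sup ?_ ?_
      · rw [MonoidHom.map_closure, Subgroup.closure_le]
        rintro _ ⟨_, ⟨d, hd, x, rfl⟩, rfl⟩
        refine Subgroup.subset_closure ⟨e * d * e⁻¹, hOn.conj_mem d hd e, r e x, ?_⟩
        show r e (x⁻¹ * r d x) = _
        rw [map_mul (r e), map_inv (r e), map_mul, map_mul, map_inv, MulAut.mul_apply,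
          MulAut.mul_apply, MulAut.inv_apply_self]
      · rintro _ ⟨z, hz, rfl⟩
        show ((r e z : U) : Q) ∈ Z
        rw [hr, restrictAut_apply, hZfix e e.2 (z : Q) hz]
        exact hz
    exact h1 ⟨v, hv, rfl⟩
  intro v hv
  have hcomm : ∀ g ∈ G₁, v * g = g * v := by
    rintro g ⟨d, hd, x, rfl⟩
    have hc : v * x * v⁻¹ * x⁻¹ ∈ V₀ := by
      refine Subgroup.mem_sup_left (CfsgLib.PGroup.commutator_le_frattini hUp ?_)
      have := Subgroup.commutator_mem_commutator (Subgroup.mem_top v) (Subgroup.mem_top x)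
      simpa [commutator_def, commutatorElement_def] using this
    have h1 := hO d hd _ hc
    rw [map_mul, map_mul, map_mul, map_inv, map_inv, hO d hd v hv] at h1
    have h2 : v * r d x * v⁻¹ = v * x * v⁻¹ * x⁻¹ * r d x := by rw [← h1]; group
    have h3 : v * (x⁻¹ * r d x) * v⁻¹ = x⁻¹ * r d x := by
      calc v * (x⁻¹ * r d x) * v⁻¹ = (v * x * v⁻¹)⁻¹ * (v * r d x * v⁻¹) := by group
        _ = _ := by rw [h2]; group
    exact mul_inv_eq_iff_eq_mul.mp h3
  have hle : U₂ ≤ Subgroup.centralizer {v} := by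
    refine sup_le ((Subgroup.closure_le _).mpr fun g hg => ?_) fun z hz => ?_
    · refine Subgroup.mem_centralizer_iff.mpr ?_
      rintro w rfl
      exact hcomm g hg
    · refine Subgroup.mem_centralizer_iff.mpr ?_
      rintro w rfl
      exact Subtype.ext (Subgroup.mem_center_iff.mp (hZc hz) (w : Q))
  refine Subgroup.mem_center_iff.mpr fun g => ?_
  exact (Subgroup.mem_centralizer_iff.mp (hle (hU₂top.ge (Subgroup.mem_top g))) v rfl).symm

end CfsgLib.FusionNormal.StableLift
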