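import Cfsg.Agent.Lib.FusionNormal.StableLift

/-!
# A quadratic pair above a centralized Frattini layer
-/

set_option autoImplicit false
set_option linter.style.haveILetI false

open scoped MatrixGroups

namespace CfsgLib.FusionNormal.StableLift

open CfsgLib.PLocal

universe u v

variable {U : Type u} [Group U] [Finite U] {p : ℕ} [Fact p.Prime]
  {D : Type v} [Group D] [Finite D]

theorem sq_injective (hU : IsPGroup p U) (hp2 : p ≠ 2) {a b : U} (h : a * a = b * b) : a = b := by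
  have hcop : p.Coprime 2 := (Nat.coprime_primes Fact.out Nat.prime_two).mpr hp2
  refine (hU.powEquiv hcop).injective ?_
  simpa [IsPGroup.powEquiv_apply, pow_two] using h

theorem exists_sq (hU : IsPGroup p U) (hp2 : p ≠ 2) (V : Subgroup U) {c : U} (hc : c ∈ V) :
    ∃ v ∈ V, v * v = c := by
  have hcop : p.Coprime 2 := (Nat.coprime_primes Fact.out Nat.prime_two).mpr hp2
  refine ⟨((hU.to_subgroup V).powEquiv hcop).symm ⟨c, hc⟩, Subtype.mem _, ?_⟩
  have := congrArg Subtype.val (((hU.to_subgroup V).powEquiv hcop).apply_symm_apply ⟨c, hc⟩)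
  rw [IsPGroup.powEquiv_apply] at this
  simpa [pow_two] using this

theorem exists_rep_of_cl {W : Type u} [AddCommGroup W] [Module (ZMod p) W] (r : D →* MulAut U)
    (cl : U → W) (hs : Function.Surjective cl) (f : D → W →+ W)
    (hf : ∀ d x, f d (cl x) = cl (r d x)) :
    ∃ ρ : D →* Module.End (ZMod p) W, ∀ d x, ρ d (cl x) = cl (r d x) :=
  ⟨{ toFun := fun d => (f d).toZModLinearMap p
     map_one' := LinearMap.ext fun q => by
       obtain ⟨x, rfl⟩ := hs q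
       show f 1 (cl x) = cl x
       rw [hf, map_one, MulAut.one_apply]
     map_mul' := fun d e => LinearMap.ext fun q => by
       obtain ⟨x, rfl⟩ := hs q
       show f (d * e) (cl x) = f d (f e (cl x))
       rw [hf, hf, hf, map_mul, MulAut.mul_apply] }, fun d x => hf d x⟩

/-- From a quadratic pair on `U / V₀`, a quadratic automorphism of a subgroup, mapped to a root
element of `SL(2, p)`. -/
theorem exists_plane (hp2 : p ≠ 2) (hU : IsPGroup p U) (r : D →* MulAut U) (V₀ : Subgroup U)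
    (hfr : frattini U ≤ V₀) (hcen : V₀ ≤ Subgroup.center U) (hinv : ∀ d, ∀ v ∈ V₀, r d v ∈ V₀)
    (hfix : ∀ d : D, (orderOf d).Coprime p → ∀ v ∈ V₀, r d v = v)
    (hmove : ∃ d : D, (orderOf d).Coprime p ∧ ∃ x : U, r d x ≠ x)
    {a b : D} (hgen : Subgroup.closure ({a, b} : Set D) = ⊤)
    (hqa : ∀ x : U, (x⁻¹ * r a x)⁻¹ * r a (x⁻¹ * r a x) ∈ V₀)
    (hqb : ∀ x : U, (x⁻¹ * r b x)⁻¹ * r b (x⁻¹ * r b x) ∈ V₀) :
    ∃ (M : Subgroup D) (U₀ : Subgroup U) (ψ : M) (θ : M →* SL(2, ZMod p)),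
      (∀ m : M, ∀ x ∈ U₀, r m x ∈ U₀) ∧ Function.Surjective θ ∧ θ ψ ≠ 1 ∧
      (∀ m : M, (∀ x ∈ U₀, r m x = x) → θ m = 1) ∧
      ∀ x ∈ U₀, r ψ (x⁻¹ * r ψ x) = x⁻¹ * r ψ x := by
  classical
  haveI hV₀n : V₀.Normal :=
    ⟨fun v hv g => by rw [Subgroup.mem_center_iff.mp (hcen hv) g, mul_inv_cancel_right]; exact hv⟩
  have hcomm : ∀ x y : U, (QuotientGroup.mk x : U ⧸ V₀) * QuotientGroup.mk y =
      QuotientGroup.mk y * QuotientGroup.mk x := fun x y => by
    rw [← QuotientGroup.mk_mul, ← QuotientGroup.mk_mul, QuotientGroup.eq]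
    refine hfr (PGroup.commutator_le_frattini hU ?_)
    have h1 := Subgroup.commutator_mem_commutator (Subgroup.mem_top y⁻¹) (Subgroup.mem_top x⁻¹)
    rw [← commutator_def] at h1
    simpa [commutatorElement_def, mul_assoc] using h1
  have hle : ∀ d : D, V₀ ≤ V₀.comap (r d).toMonoidHom := fun d v hv => hinv d v hv
  obtain ⟨W, _, _, _, cl, hcl, hcl_eq, hs, f, hf⟩ : ∃ (W : Type u) (_ : AddCommGroup W)
      (_ : Module (ZMod p) W) (_ : FiniteDimensional (ZMod p) W) (cl : U → W),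
      (∀ x y, cl (x * y) = cl x + cl y) ∧ (∀ x y, cl x = cl y ↔ x⁻¹ * y ∈ V₀) ∧
      Function.Surjective cl ∧ ∃ f : D → W →+ W, ∀ d x, f d (cl x) = cl (r d x) := by
    letI : CommGroup (U ⧸ V₀) :=
      { (inferInstance : Group (U ⧸ V₀)) with
        mul_comm := fun q q' => by
          obtain ⟨x, rfl⟩ := QuotientGroup.mk_surjective q
          obtain ⟨y, rfl⟩ := QuotientGroup.mk_surjective q'
          exact hcomm x y }
    letI M : Module (ZMod p) (Additive (U ⧸ V₀)) := AddCommGroup.zmodModule fun q => by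
      obtain ⟨x, hx⟩ := QuotientGroup.mk_surjective (Additive.toMul q)
      apply Additive.toMul.injective
      show Additive.toMul q ^ p = 1
      rw [← hx, ← QuotientGroup.mk_pow, QuotientGroup.eq_one_iff]
      exact hfr (PGroup.pow_mem_frattini hU x)
    exact ⟨Additive (U ⧸ V₀), inferInstance, M, Module.Finite.of_finite,
      fun x => Additive.ofMul (QuotientGroup.mk x), fun x y => rfl,
      fun x y => Additive.ofMul.injective.eq_iff.trans QuotientGroup.eq,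
      fun q => (QuotientGroup.mk_surjective (Additive.toMul q)).imp fun _ h => congrArg Additive.ofMul h,
      fun d => MonoidHom.toAdditive (QuotientGroup.map V₀ V₀ (r d).toMonoidHom (hle d)), fun d x => rfl⟩
  have hcl1 : cl 1 = 0 := by have := hcl 1 1; rwa [one_mul, left_eq_add] at this
  have hclinv : ∀ x, cl x⁻¹ = -cl x := fun x => eq_neg_of_add_eq_zero_left (by
    rw [← hcl, inv_mul_cancel, hcl1])
  have hclpow : ∀ (w : U) (n : ℕ), cl (w ^ n) = n • cl w := fun w n => by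
    induction n with
    | zero => simpa using hcl1
    | succ n ih => rw [pow_succ, hcl, ih, succ_nsmul]
  obtain ⟨ρ₀, hρ₀⟩ := exists_rep_of_cl (p := p) r cl hs f hf
  set K₀ := ρ₀.toHomUnits.ker with hK₀
  let ρ : D ⧸ K₀ →* Module.End (ZMod p) W :=
    (Units.coeHom _).comp (QuotientGroup.kerLift ρ₀.toHomUnits)
  have hρinj : Function.Injective ρ :=
    Units.val_injective.comp (QuotientGroup.kerLift_injective ρ₀.toHomUnits)
  let π : D →* D ⧸ K₀ := QuotientGroup.mk' K₀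
  have hρπ : ∀ d, ρ (π d) = ρ₀ d := fun d => rfl
  have hsq : ∀ c : D, (∀ x : U, (x⁻¹ * r c x)⁻¹ * r c (x⁻¹ * r c x) ∈ V₀) →
      (ρ (π c) - 1) * (ρ (π c) - 1) = 0 := by
    intro c hc
    refine LinearMap.ext fun q => ?_
    obtain ⟨x, rfl⟩ := hs q
    have e1 : cl (r c x) - cl x = cl (x⁻¹ * r c x) := by
      rw [sub_eq_iff_eq_add, add_comm, ← hcl, mul_inv_cancel_left]
    show ρ₀ c (ρ₀ c (cl x) - cl x) - (ρ₀ c (cl x) - cl x) = 0
    rw [hρ₀ c x, e1, hρ₀, sub_eq_zero]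
    exact ((hcl_eq _ _).mpr (hc x)).symm
  -- one of the generators lies outside the largest normal `p`-subgroup
  obtain ⟨c, hc, hqc⟩ : ∃ c : D, π c ∉ Cfsg.pCore p (D ⧸ K₀) ∧
      (ρ (π c) - 1) * (ρ (π c) - 1) = 0 := by
    by_contra hcon
    push Not at hcon
    have ha : π a ∈ Cfsg.pCore p (D ⧸ K₀) := by
      by_contra h; exact hcon a h (hsq a hqa)
    have hb : π b ∈ Cfsg.pCore p (D ⧸ K₀) := by
      by_contra h; exact hcon b h (hsq b hqb)
    obtain ⟨d, hd, x, hx⟩ := hmove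
    have hall : π d ∈ Cfsg.pCore p (D ⧸ K₀) := by
      have hle' : Subgroup.closure ({a, b} : Set D) ≤ (Cfsg.pCore p (D ⧸ K₀)).comap π := by
        rw [Subgroup.closure_le]
        rintro _ (rfl | rfl)
        · exact ha
        · exact hb
      exact hle' (hgen.ge (Subgroup.mem_top d))
    obtain ⟨k, hk⟩ := PCore.pCore_isPGroup (p := p) (G := D ⧸ K₀) ⟨_, hall⟩
    have h1 : π d = 1 := orderOf_eq_one_iff.mp (Nat.eq_one_of_dvd_coprimes
      (Nat.Coprime.pow_right k hd) (orderOf_map_dvd π d)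
      (orderOf_dvd_of_pow_eq_one (congrArg Subtype.val hk)))
    have h2 : cl (r d x) = cl x := by rw [← hρ₀, ← hρπ, h1, map_one]; rfl
    refine hx (fix_of_mod hU (Nat.Coprime.coprime_dvd_left (orderOf_map_dvd r d) hd)
      (hfix d hd _ ((hcl_eq _ _).mp h2.symm)) (mul_inv_cancel_left _ _).symm)
  obtain ⟨M₁, θ₁, j, hθ₁, hj, hjm⟩ := exists_natural_submodule hp2 ρ hρinj hqc hc
  set M₀ := M₁.comap π with hM₀
  let θ₀ : M₀ →* SL(2, ZMod p) := θ₁.comp (π.subgroupComap M₁)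
  have hθ₀ : Function.Surjective θ₀ := by
    intro A
    obtain ⟨⟨m, hm⟩, rfl⟩ := hθ₁ A
    obtain ⟨d, rfl⟩ := QuotientGroup.mk'_surjective K₀ m
    exact ⟨⟨d, hm⟩, rfl⟩
  have hact : ∀ (m : M₀) (x : U) (z : Fin 2 → ZMod p), cl x = j z →
      cl (r m x) = j ((θ₀ m).1.mulVec z) := by
    intro m x z hx
    rw [← hρ₀, ← hρπ, hx]
    exact hjm (π.subgroupComap M₁ m) z
  -- the preimage of the plane
  let U' : Subgroup U :=
    { carrier := {x | ∃ z, cl x = j z}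
      one_mem' := ⟨0, by rw [map_zero, hcl1]⟩
      mul_mem' := by
        rintro x y ⟨z, hz⟩ ⟨w, hw⟩
        exact ⟨z + w, by rw [hcl, hz, hw, map_add]⟩
      inv_mem' := by
        rintro x ⟨z, hz⟩
        exact ⟨-z, by rw [map_neg, ← hz, hclinv]⟩ }
  have hU'inv : ∀ m : M₀, ∀ x ∈ U', r m x ∈ U' := fun m x ⟨z, hz⟩ => ⟨_, hact m x z hz⟩
  -- a `2`-group acting as `± 1`
  obtain ⟨x₀, hx₀⟩ := hθ₀ (-1)
  obtain ⟨e₂, m₂, hm₂, hord⟩ :=
    Nat.exists_eq_pow_mul_and_not_dvd (orderOf_pos x₀).ne' 2 (by norm_num)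
  set z₀ := x₀ ^ m₂ with hz₀
  have hθz : θ₀ z₀ = -1 := by
    rw [hz₀, map_pow, hx₀, (Nat.odd_iff.2 (by omega) : Odd m₂).neg_one_pow]
  haveI hNn : (Subgroup.zpowers (-1 : SL(2, ZMod p))).Normal := ⟨by
    intro A hA g
    obtain ⟨i, rfl⟩ := hA
    have hg : Commute g ((-1 : SL(2, ZMod p)) ^ i) := ((Commute.one_right g).neg_right).zpow_right i
    rw [hg.eq, mul_inv_cancel_right]
    exact ⟨i, rfl⟩⟩
  set N := (Subgroup.zpowers (-1 : SL(2, ZMod p))).comap θ₀ with hN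
  haveI : Fact (Nat.Prime 2) := ⟨Nat.prime_two⟩
  have hzN : z₀ ∈ N := ⟨1, (zpow_one _).trans hθz.symm⟩
  have hz2 : IsPGroup 2 (Subgroup.zpowers (⟨z₀, hzN⟩ : N)) := by
    refine IsPGroup.of_card_dvd_pow (n := e₂) ?_
    rw [Nat.card_zpowers, Subgroup.orderOf_mk]
    refine orderOf_dvd_of_pow_eq_one ?_
    rw [hz₀, ← pow_mul, mul_comm, ← hord, pow_orderOf_eq_one]
  obtain ⟨Z₂, hZ₂⟩ := hz2.exists_le_sylow
  set Z' := (Z₂ : Subgroup N).map N.subtype with hZ'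
  have hzZ : z₀ ∈ Z' := ⟨⟨z₀, hzN⟩, hZ₂ (Subgroup.mem_zpowers _), rfl⟩
  set Qn := Subgroup.normalizer (Z' : Set M₀) with hQn
  have hQθ : Function.Surjective (θ₀.comp Qn.subtype) := by
    intro y
    obtain ⟨x, rfl⟩ := hθ₀ y
    have hx : x ∈ Qn ⊔ N := by rw [hQn, hZ', Sylow.normalizer_sup_eq_top]; exact Subgroup.mem_top x
    obtain ⟨q, hq, n, ⟨i, hi⟩, rfl⟩ := Subgroup.mem_sup_of_normal_right.1 hx
    refine ⟨⟨q, hq⟩ * ⟨z₀ ^ i, zpow_mem (Subgroup.le_normalizer hzZ) i⟩, ?_⟩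
    show θ₀ (q * z₀ ^ i) = θ₀ (q * n)
    rw [map_mul, map_mul, map_zpow, hθz, ← hi]
  have hZp : ∀ k ∈ Z', (orderOf ((k : M₀) : D)).Coprime p := by
    rintro _ ⟨k, hk, rfl⟩
    obtain ⟨n, hn⟩ := Z₂.isPGroup' ⟨k, hk⟩
    refine Nat.Coprime.coprime_dvd_left (orderOf_dvd_of_pow_eq_one ?_)
      (((Nat.coprime_primes Nat.prime_two Fact.out).mpr (Ne.symm hp2)).pow_left n)
    exact congrArg (fun y : (Z₂ : Subgroup N) => (((y : N) : M₀) : D)) hn
  have hZker : ∀ k ∈ Z', θ₀ k = 1 → ∀ x ∈ U', r ((k : M₀) : D) x = x := by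
    rintro k hk hk1 x ⟨z, hz⟩
    have h2 : cl (r ((k : M₀) : D) x) = cl x := by
      rw [hact k x z hz, hk1, hz]
      simp
    exact fix_of_mod hU (Nat.Coprime.coprime_dvd_left (orderOf_map_dvd r _) (hZp k hk))
      (hfix _ (hZp k hk) _ ((hcl_eq _ _).mp h2.symm)) (mul_inv_cancel_left _ _).symm
  set t : D := ((z₀ : M₀) : D) with ht
  have htV : ∀ v ∈ V₀, r t v = v := hfix t (hZp z₀ hzZ)
  have htU' : ∀ x ∈ U', r t x ∈ U' := hU'inv z₀
  -- the normalizer commutes with `t` on the plane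
  have hcom : ∀ m : M₀, m ∈ Qn → ∀ x ∈ U', r t (r (m : D) x) = r (m : D) (r t x) := by
    intro m hm x hx
    have ht' : m⁻¹ * z₀ * m ∈ Z' := by
      have := (Subgroup.mem_normalizer_iff.mp (Qn.inv_mem hm) z₀).mp hzZ
      rwa [inv_inv] at this
    have hθt' : θ₀ (z₀⁻¹ * (m⁻¹ * z₀ * m)) = 1 := by
      rw [map_mul, map_mul, map_mul, map_inv, map_inv, hθz,
        mul_assoc (θ₀ m)⁻¹, ((Commute.one_left (θ₀ m)).neg_left).eq, inv_mul_cancel_left, inv_mul_cancel]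
    have h1 := hZker _ (mul_mem (inv_mem hzZ) ht') hθt' x hx
    simp only [Subgroup.coe_mul, Subgroup.coe_inv, map_mul, map_inv, MulAut.mul_apply,
      MulAut.inv_apply, MulEquiv.symm_apply_eq] at h1
    exact h1
  -- the inverted elements
  let I : Set U := {x | x ∈ U' ∧ r t x = x⁻¹}
  have hIuniq : ∀ x ∈ I, ∀ y ∈ I, cl x = cl y → x = y := by
    intro x hx y hy hxy
    obtain ⟨v, hv, rfl⟩ : ∃ v ∈ V₀, y = x * v :=
      ⟨x⁻¹ * y, (hcl_eq x y).mp hxy, (mul_inv_cancel_left x y).symm⟩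
    have h1 := hy.2
    rw [map_mul, hx.2, htV v hv, mul_inv_rev, Subgroup.mem_center_iff.mp (hcen hv) x⁻¹] at h1
    have h2 : v * v = 1 * 1 := by
      rw [mul_one]
      calc v * v = (v * x⁻¹) * x * v := by group
        _ = (v⁻¹ * x⁻¹) * x * v := by rw [h1]
        _ = 1 := by group
    rw [sq_injective hU hp2 h2, mul_one]
  have hIex : ∀ z, ∃ x ∈ I, cl x = j z := by
    intro z
    obtain ⟨x, hxz⟩ := hs (j z)
    have hw : x * r t x ∈ V₀ := by
      have h1 : cl (x * r t x) = cl 1 := by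
        rw [hcl, hact z₀ x z hxz, hθz, hxz, ← map_add, Matrix.SpecialLinearGroup.coe_neg,
          Matrix.SpecialLinearGroup.coe_one, Matrix.neg_mulVec, Matrix.one_mulVec, add_neg_cancel, map_zero, hcl1]
      simpa using (hcl_eq _ _).mp h1.symm
    obtain ⟨v, hv, hvw⟩ := exists_sq hU hp2 V₀ (V₀.inv_mem hw)
    refine ⟨x * v, ⟨⟨z, ?_⟩, ?_⟩, ?_⟩
    · rw [← hxz, hcl_eq]; simpa [mul_assoc] using V₀.inv_mem hv
    · rw [map_mul, htV v hv, mul_inv_rev, Subgroup.mem_center_iff.mp (hcen hv) _]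
      have hc1 : v * x⁻¹ = x⁻¹ * v := (Subgroup.mem_center_iff.mp (hcen hv) x⁻¹).symm
      have h2 : r t x = x⁻¹ * (v * v)⁻¹ := by rw [hvw]; group
      rw [h2]
      calc v * (x⁻¹ * (v * v)⁻¹) = (v * x⁻¹) * v⁻¹ * v⁻¹ := by group
        _ = x⁻¹ * v⁻¹ := by rw [hc1]; group
        _ = v⁻¹ * x⁻¹ := Subgroup.mem_center_iff.mp (hcen (V₀.inv_mem hv)) x⁻¹
    · rw [← hxz, hcl_eq]; simpa [mul_assoc] using V₀.inv_mem hv
  obtain ⟨qψ, hqψ⟩ := hQθ (SLTwo.upper 1)
  obtain ⟨x, hxI, hxz⟩ := hIex ![1, 0]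
  obtain ⟨y, hyI, hyz⟩ := hIex ![0, 1]
  set ψ : D := ((qψ : M₀) : D) with hψdef
  have hψI : ∀ u ∈ I, r ψ u ∈ I := fun u hu => by
    refine ⟨hU'inv _ u hu.1, ?_⟩
    rw [hcom _ qψ.2 u hu.1, hu.2, map_inv]
  have hψact : ∀ u z, cl u = j z → cl (r ψ u) = j ((SLTwo.upper (1 : ZMod p)).1.mulVec z) :=
    fun u z hu => by
      rw [← hqψ]; exact hact (qψ : M₀) u z hu
  have hψx : r ψ x = x := hIuniq _ (hψI x hxI) _ hxI (by
    rw [hψact x _ hxz, hxz]
    congr 1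
    funext i
    fin_cases i <;> simp [SLTwo.upper, Matrix.mulVec, dotProduct])
  set e := y⁻¹ * r ψ y with he
  have hψy : r ψ y = y * e := (mul_inv_cancel_left _ _).symm
  have hec : cl e = cl x := by
    rw [he, hcl, hψact y _ hyz]
    rw [hclinv]
    rw [hyz, hxz, ← map_neg, ← map_add]
    congr 1
    funext i
    fin_cases i <;> simp [SLTwo.upper, Matrix.mulVec, dotProduct]
  obtain ⟨v₀, hv₀, hev⟩ : ∃ v₀ ∈ V₀, e = x * v₀ :=
    ⟨x⁻¹ * e, (hcl_eq x e).mp hec.symm, (mul_inv_cancel_left _ _).symm⟩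
  have hv₀c : ∀ g, g * v₀ = v₀ * g := Subgroup.mem_center_iff.mp (hcen hv₀)
  have hψv₀ : r ψ v₀ = v₀ := by
    have h1 := (hψI y hyI).2
    rw [hψy, hev, map_mul, map_mul, hyI.2, hxI.2, htV v₀ hv₀, mul_inv_rev, mul_inv_rev] at h1
    have hsq₀ : v₀ * v₀ = x * y * x⁻¹ * y⁻¹ := by
      calc v₀ * v₀ = x * y * (y⁻¹ * (x⁻¹ * v₀)) * v₀ := by group
        _ = x * y * (v₀⁻¹ * x⁻¹ * y⁻¹) * v₀ := by rw [h1]
        _ = x * y * v₀⁻¹ * (x⁻¹ * y⁻¹ * v₀) := by group
        _ = x * y * v₀⁻¹ * (v₀ * (x⁻¹ * y⁻¹)) := by rw [hv₀c]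
        _ = _ := by group
    refine sq_injective hU hp2 ?_
    rw [← map_mul, hsq₀, map_mul, map_mul, map_mul, map_inv, map_inv, hψx, hψy, hev]
    calc x * (y * (x * v₀)) * x⁻¹ * (y * (x * v₀))⁻¹
        = x * y * x * (v₀ * x⁻¹) * v₀⁻¹ * x⁻¹ * y⁻¹ := by group
      _ = x * y * x * (x⁻¹ * v₀) * v₀⁻¹ * x⁻¹ * y⁻¹ := by rw [hv₀c]
      _ = _ := by group
  -- the set of elements moved into fixed elements
  let W₁ : Set U := {u | ∃ i : ℤ, ∃ v ∈ V₀, r ψ v = v ∧ u = x ^ i * v}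
  have hW₁fix : ∀ u ∈ W₁, r ψ u = u := by
    rintro _ ⟨i, v, hv, hvf, rfl⟩
    rw [map_mul, map_zpow, hψx, hvf]
  have hW₁mul : ∀ u ∈ W₁, ∀ u' ∈ W₁, u * u' ∈ W₁ := by
    rintro _ ⟨i, v, hv, hvf, rfl⟩ _ ⟨i', v', hv', hvf', rfl⟩
    refine ⟨i + i', v * v', mul_mem hv hv', by rw [map_mul, hvf, hvf'], ?_⟩
    rw [mul_assoc, ← mul_assoc v, ← Subgroup.mem_center_iff.mp (hcen hv) (x ^ i'), zpow_add]
    group
  let T : Set U := {u | u⁻¹ * r ψ u ∈ W₁}
  have hTmul : ∀ u ∈ T, ∀ u' ∈ T, u * u' ∈ T := by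
    intro u hu u' hu'
    show (u * u')⁻¹ * r ψ (u * u') ∈ W₁
    obtain ⟨i, v, hv, hvf, hw⟩ := hu
    obtain ⟨i', v', hv', hvf', hw'⟩ := hu'
    set c₂ := x ^ (-i) * u'⁻¹ * x ^ i * u' with hc₂
    have hc₂V : c₂ ∈ V₀ := by
      refine hfr (PGroup.commutator_le_frattini hU ?_)
      have h1 := Subgroup.commutator_mem_commutator (Subgroup.mem_top (x ^ (-i))) (Subgroup.mem_top u'⁻¹)
      rw [← commutator_def] at h1
      simpa [commutatorElement_def, hc₂] using h1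
    have hψu' : r ψ u' = u' * (x ^ i' * v') := by rw [← hw', mul_inv_cancel_left]
    have hc₂f : r ψ c₂ = c₂ := by
      rw [hc₂, map_mul, map_mul, map_mul, map_inv, map_zpow, map_zpow, hψx, hψu']
      calc x ^ (-i) * (u' * (x ^ i' * v'))⁻¹ * x ^ i * (u' * (x ^ i' * v'))
          = x ^ (-i) * v'⁻¹ * x ^ (-i') * (u'⁻¹ * x ^ i * u') * x ^ i' * v' := by group
        _ = x ^ (-i) * v'⁻¹ * x ^ (-i') * (x ^ i * c₂) * x ^ i' * v' := by rw [hc₂]; group
        _ = x ^ (-i) * v'⁻¹ * x ^ (-i') * x ^ i * (c₂ * (x ^ i' * v')) := by group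
        _ = x ^ (-i) * v'⁻¹ * x ^ (-i') * x ^ i * ((x ^ i' * v') * c₂) := by
            rw [Subgroup.mem_center_iff.mp (hcen hc₂V) (x ^ i' * v')]
        _ = x ^ (-i) * (v'⁻¹ * x ^ i) * v' * c₂ := by group
        _ = x ^ (-i) * (x ^ i * v'⁻¹) * v' * c₂ := by
            rw [Subgroup.mem_center_iff.mp (hcen (V₀.inv_mem hv')) (x ^ i)]
        _ = _ := by rw [hc₂]; group
    have h3 : (u * u')⁻¹ * r ψ (u * u') = (x ^ i * (c₂ * v)) * (x ^ i' * v') := by
      rw [map_mul, hψu', ← mul_inv_cancel_left u (r ψ u), hw]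
      calc (u * u')⁻¹ * (u * (x ^ i * v) * (u' * (x ^ i' * v')))
          = u'⁻¹ * x ^ i * (v * u') * (x ^ i' * v') := by group
        _ = u'⁻¹ * x ^ i * (u' * v) * (x ^ i' * v') := by
            rw [Subgroup.mem_center_iff.mp (hcen hv) u']
        _ = _ := by rw [hc₂]; group
    rw [h3]
    exact hW₁mul _ ⟨i, c₂ * v, mul_mem hc₂V hv, by rw [map_mul, hc₂f, hvf], rfl⟩ _
      ⟨i', v', hv', hvf', rfl⟩
  have hTone : (1 : U) ∈ T := ⟨0, 1, V₀.one_mem, map_one _, by simp⟩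
  have hTclos : ∀ u ∈ Subgroup.closure ({x, y} : Set U), u ∈ T := by
    intro u hu
    have hsub : Subgroup.closure ({x, y} : Set U) ≤
        { carrier := T, one_mem' := hTone, mul_mem' := fun {a b} ha hb => hTmul a ha b hb,
          inv_mem' := fun {a} ha => by
            have hpow : ∀ n : ℕ, a ^ n ∈ T := fun n => by
              induction n with
              | zero => simpa using hTone
              | succ n ih => rw [pow_succ]; exact hTmul _ ih _ ha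
            rw [show a⁻¹ = a ^ (orderOf a - 1) by
              rw [eq_comm, eq_inv_iff_mul_eq_one, ← pow_succ,
                Nat.sub_add_cancel (orderOf_pos a), pow_orderOf_eq_one]]
            exact hpow _ } := by
      rw [Subgroup.closure_le]
      rintro _ (rfl | rfl)
      · exact ⟨0, 1, V₀.one_mem, map_one _, by rw [hψx]; simp⟩
      · exact ⟨1, v₀, hv₀, hψv₀, by rw [zpow_one, ← hev]⟩
    exact hsub hu
  -- the inverted elements generate a subgroup of the closure of `x` and `y`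
  have hgenI : Subgroup.closure I ≤ Subgroup.closure ({x, y} : Set U) := by
    rw [Subgroup.closure_le]
    intro u hu
    obtain ⟨z, hz⟩ := hu.1
    set H := Subgroup.closure ({x, y} : Set U)
    set u₁ := x ^ (z 0).val * y ^ (z 1).val with hu₁
    have hx' : x ∈ H := Subgroup.subset_closure (by simp)
    have hy' : y ∈ H := Subgroup.subset_closure (by simp)
    have hcl₁ : cl u₁ = cl u := by
      rw [hu₁, hcl, hclpow, hclpow, hxz, hyz, hz, ← map_nsmul, ← map_nsmul, ← map_add]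
      congr 1
      funext i
      fin_cases i <;> simp
    obtain ⟨v, hv, rfl⟩ : ∃ v ∈ V₀, u = u₁ * v :=
      ⟨u₁⁻¹ * u, (hcl_eq _ _).mp hcl₁, (mul_inv_cancel_left _ _).symm⟩
    have htu₁ : r t u₁ = (x ^ (z 0).val)⁻¹ * (y ^ (z 1).val)⁻¹ := by
      rw [hu₁, map_mul, map_pow, map_pow, hxI.2, hyI.2, inv_pow, inv_pow]
    have h1 := hu.2
    rw [map_mul, htV v hv, mul_inv_rev, ← Subgroup.mem_center_iff.mp (hcen (V₀.inv_mem hv))] at h1
    have hvv : v * v = (r t u₁)⁻¹ * u₁⁻¹ := by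
      calc v * v = (r t u₁)⁻¹ * (r t u₁ * v) * v := by group
        _ = (r t u₁)⁻¹ * (u₁⁻¹ * v⁻¹) * v := by rw [h1]
        _ = _ := by group
    have hvH : v * v ∈ H := by
      rw [hvv, htu₁, hu₁]
      exact mul_mem (inv_mem (mul_mem (inv_mem (pow_mem hx' _)) (inv_mem (pow_mem hy' _))))
        (inv_mem (mul_mem (pow_mem hx' _) (pow_mem hy' _)))
    obtain ⟨v', hv', hv'e⟩ := exists_sq hU hp2 H hvH
    rw [← sq_injective hU hp2 hv'e]
    exact mul_mem (mul_mem (pow_mem hx' _) (pow_mem hy' _)) hv'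
  refine ⟨Qn.map M₀.subtype, Subgroup.closure I, ⟨ψ, qψ, qψ.2, rfl⟩,
    (θ₀.comp Qn.subtype).comp (Qn.equivMapOfInjective M₀.subtype M₀.subtype_injective).symm.toMonoidHom,
    ?_, hQθ.comp (MulEquiv.surjective _), ?_, ?_, ?_⟩
  · rintro ⟨_, m, hm, rfl⟩ u hu
    have h1 : (Subgroup.closure I).map (r (m : D)).toMonoidHom ≤ Subgroup.closure I := by
      rw [MonoidHom.map_closure]
      refine Subgroup.closure_mono ?_
      rintro _ ⟨w, hw, rfl⟩
      exact ⟨hU'inv m w hw.1, (hcom m hm w hw.1).trans (by rw [hw.2, map_inv]; rfl)⟩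
    exact h1 ⟨u, hu, rfl⟩
  · have he' : (Qn.equivMapOfInjective M₀.subtype M₀.subtype_injective).symm ⟨ψ, qψ, qψ.2, rfl⟩ = qψ :=
      (Qn.equivMapOfInjective M₀.subtype M₀.subtype_injective).symm_apply_apply qψ
    show θ₀.comp Qn.subtype _ ≠ 1
    erw [he', hqψ]
    exact (SLTwo.nonZ_upper one_ne_zero).1
  · intro m hm
    obtain ⟨q, rfl⟩ := (Qn.equivMapOfInjective M₀.subtype M₀.subtype_injective).surjective m
    show θ₀.comp Qn.subtype _ = 1
    erw [MulEquiv.symm_apply_apply]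
    have hfixz : ∀ z, (θ₀ (q : M₀)).1.mulVec z = z := fun z => by
      obtain ⟨w, hw, hwz⟩ := hIex z
      have h1 := hact (q : M₀) w z hwz
      rw [show r ((q : M₀) : D) w = w from hm w (Subgroup.subset_closure hw), hwz] at h1
      exact (hj h1).symm
    refine Subtype.ext (Matrix.ext_of_mulVec_single fun i => ?_)
    rw [show ((1 : SL(2, ZMod p)).1) = 1 from rfl, Matrix.one_mulVec]
    exact hfixz _
  · intro u hu
    exact hW₁fix _ (hTclos u (hgenI hu))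

end CfsgLib.FusionNormal.StableLift
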