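import Cfsg.Agent.Lib.FusionNormal.Tate
import Cfsg.Agent.Lib.Fusion.Factor
import Cfsg.Agent.Lib.PGroup.Frattini

/-!
# Consequences of Tate's theorem
-/

set_option autoImplicit false
set_option linter.style.haveILetI false

namespace CfsgLib.FusionNormal

open Cfsg Cfsg.FusionSystem CfsgLib.Fusion

universe u

variable {Ω : Type u} [Group Ω] {S : Subgroup Ω} {F : FusionSystem S} {p : ℕ}
variable [Finite S] [Fact p.Prime]

/-- Equal elementary focal subgroups give equal hyperfocal subgroups. -/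
theorem hyperfocal_eq_of_elementaryFocal_eq (hS : IsPGroup p S) (hF : F.IsSaturated p) {H : FusionSystem S}
    (hH : H.IsSaturated p) (hHF : H.IsSubsystemOf F)
    (h : (frattini ↥S).map S.subtype ⊔ F.focalSubgroup = (frattini ↥S).map S.subtype ⊔ H.focalSubgroup) :
    F.hyperfocalSubgroup p = H.hyperfocalSubgroup p := by
  have hle : H.hyperfocalSubgroup p ≤ F.hyperfocalSubgroup p := hyperfocal_mono hHF
  haveI : ((H.hyperfocalSubgroup p).subgroupOf S).Normal :=
    ⟨fun n hn g => hyperfocal_conj_mem g.2 hn⟩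
  have h1 := hyperfocal_eq_of_le_frattini hS hF (T' := (H.hyperfocalSubgroup p).subgroupOf S)
    (fun x hx => hle hx) ?_
  · calc F.hyperfocalSubgroup p = ((F.hyperfocalSubgroup p).subgroupOf S).map S.subtype :=
        (Subgroup.map_subgroupOf_eq_of_le (hyperfocal_le F p)).symm
      _ = _ := by rw [h1, Subgroup.map_subgroupOf_eq_of_le (hyperfocal_le H p)]
  · rw [← Subgroup.map_le_map_iff_of_injective S.subtype_injective,
      Subgroup.map_subgroupOf_eq_of_le (hyperfocal_le F p), Subgroup.map_sup, Subgroup.map_sup,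
      Subgroup.map_subgroupOf_eq_of_le (hyperfocal_le H p), Subgroup.map_subtype_commutator, sup_assoc,
      ← focal_eq hS hH, ← h]
    exact (hyperfocal_le_focal F p).trans le_sup_right

/-- With `Φ(S)` strongly closed and `Aut_F(S)` induced by `S`, the system is inner. -/
theorem inner_of_stronglyClosed_frattini (hS : IsPGroup p S) (hF : F.IsSaturated p)
    (hN : ∀ φ ∈ F.Hom S, ∃ g ∈ S, ∀ x : S, φ x = g * (x : Ω) * g⁻¹)
    (hsc : F.StronglyClosed ((frattini ↥S).map S.subtype)) :
    ∀ P, F.Hom P = (innerFusionSystem S).Hom P := by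
  let θ : S →* S ⧸ frattini S := QuotientGroup.mk' _
  have hk : ∀ s : S, θ s = 1 ↔ (s : Ω) ∈ (frattini ↥S).map S.subtype := fun s =>
    (QuotientGroup.eq_one_iff s).trans (Subgroup.mem_map_iff_mem S.subtype_injective).symm
  have hcomm : ∀ a b : S, θ a * θ b = θ b * θ a := fun a b => by
    rw [← map_mul, ← map_mul, QuotientGroup.mk'_apply, QuotientGroup.mk'_apply, QuotientGroup.eq]
    refine PGroup.commutator_le_frattini hS ?_
    have h1 := Subgroup.commutator_mem_commutator (Subgroup.mem_top b⁻¹) (Subgroup.mem_top a⁻¹)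
    rw [← commutator_def] at h1
    simpa [commutatorElement_def, mul_assoc] using h1
  set F' := FusionFactor.factorSystem F θ _ hk hsc
  have hF' := FusionFactor.factorSystem_isFactorSystem (θ := θ) hk hsc
  have hF's : F'.IsSaturated p := FusionFactor.isSaturated_factor hS hF hsc hF'
  have hS' : IsPGroup p θ.range := hS.of_surjective θ.rangeRestrict θ.rangeRestrict_surjective
  have hnor : F'.IsNormal θ.range := by
    have hab : IsMulCommutative θ.range := ⟨⟨by
      rintro ⟨_, a, rfl⟩ ⟨_, b, rfl⟩; exact Subtype.ext (hcomm a b)⟩⟩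
    refine isNormal_of_series hS' hF's 1 (fun i => if i = 0 then ⊥ else θ.range) rfl rfl ?_ ?_ ?_
    · intro i j hij
      rcases i with _ | i
      · simp
      · rcases j with _ | j
        · omega
        · simp
    · intro i hi
      rcases i with _ | i
      · simpa using stronglyClosed_bot F'
      · simp only [Nat.succ_ne_zero, if_false, add_eq_zero, one_ne_zero, and_false]
        exact ⟨le_rfl, fun R _ φ hφ x => apply_mem_S hφ x⟩
    · intro i hi
      obtain rfl : i = 0 := by omega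
      simp only [zero_add, if_true, one_ne_zero, if_false, le_bot_iff, Subgroup.commutator_eq_bot_iff_le_centralizer]
      exact Subgroup.le_centralizer _
  have key : ∀ (P : Subgroup Ω) (φ : P →* Ω), φ ∈ F.Hom P → ∀ x : P,
      (x : Ω)⁻¹ * φ x ∈ (frattini ↥S).map S.subtype := by
    intro P φ hφ x
    obtain ⟨φ', hφ', hP, hφS, hm, e⟩ := FusionFactor.exists_map_induced hS hF hsc hF' hφ
    obtain ⟨ψ', hψ', hψe, -⟩ := hnor.2 _ φ' hφ'
    obtain ⟨-, ψ, hψ, hQ, hψS, hn, k⟩ := hψ'
    have hQS : S ≤ preimageAlong θ (imageAlong θ P ⊔ θ.range) := fun s hs =>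
      FusionFactor.mem_preimageAlong.mpr ⟨hs, Subgroup.mem_sup_right ⟨_, rfl⟩⟩
    obtain ⟨g, hg, hge⟩ := hN _ (restrict_mem hQS hψ)
    refine (FusionFactor.theta_eq_iff hk ⟨x, hP x.2⟩ ⟨φ x, hφS x⟩).mp ?_
    rw [← e x, ← hψe ⟨_, hm x⟩]
    refine Eq.trans ?_ ((k ⟨x, hQS (hP x.2)⟩).symm.trans rfl)
    have h2 : (⟨ψ ⟨x, hQS (hP x.2)⟩, hψS _⟩ : S) =
        ⟨g, hg⟩ * ⟨x, hP x.2⟩ * ⟨g, hg⟩⁻¹ := Subtype.ext (hge ⟨x, hP x.2⟩)
    rw [h2, map_mul, map_mul, map_inv, hcomm, mul_inv_cancel_right]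
  have hhyp : (F.hyperfocalSubgroup p).subgroupOf S = ⊥ := by
    refine hyperfocal_eq_of_le_frattini hS hF bot_le ?_
    rw [sup_bot_eq]
    refine le_trans ?_ le_sup_left
    rw [← Subgroup.map_le_map_iff_of_injective S.subtype_injective,
      Subgroup.map_subgroupOf_eq_of_le (hyperfocal_le F p)]
    refine (hyperfocal_le_focal F p).trans ?_
    rw [FusionSystem.focalSubgroup, Subgroup.closure_le]
    rintro _ ⟨P, φ, x, hφ, rfl⟩
    exact key P φ hφ x
  refine eq_inner_of_pGroup_autGroups hS hF fun P hP => ?_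
  obtain ⟨ha, -⟩ := fullyNormalized_good hS hF hP
  rintro ⟨α, hα⟩
  obtain ⟨a, haR, g, hg, b, rfl, hb⟩ := FullyAutomized.exists_mul ha hα
  have ha1 : (a : MulAut P) = 1 := MulEquiv.ext fun x => Subtype.ext (by
    have h1 := mem_hyperfocal hP.1 haR x
    have h2 : (⟨_, hyperfocal_le F p h1⟩ : S) ∈ (F.hyperfocalSubgroup p).subgroupOf S := h1
    rw [hhyp, Subgroup.mem_bot, Subtype.ext_iff] at h2
    exact (inv_mul_eq_one.mp h2).symm)
  have hbA : b ∈ autInducedBy S P :=
    Subgroup.subset_closure ⟨g, hg, hb⟩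
  obtain ⟨k, hk'⟩ := isPGroup_autInducedBy hS P ⟨b, hbA⟩
  refine ⟨k, Subtype.ext ?_⟩
  rw [Subgroup.coe_pow]
  show ((a : MulAut P) * b) ^ p ^ k = 1
  rw [ha1, one_mul]
  exact congrArg Subtype.val hk'

end CfsgLib.FusionNormal
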