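import Cfsg.Agent.Lib.FusionNormal.TransferFixed
import Cfsg.Agent.Lib.FusionNormal.PAutAt
import Cfsg.Agent.Lib.Fusion.PIndexExist
import Cfsg.Agent.Lib.Fusion.ProductSaturated

/-!
# Homomorphisms of `S` extending central ones of the hyperfocal subgroup

For a homomorphism `θ : S →* A` into a finite `p`-group that is central on the hyperfocal subgroup,
the system `F × A` has a subsystem of `p`-power index over the pairs `(s, a)` with
`θ s⁻¹ a` central; the transfer of this difference gives a homomorphism of `S` into the centre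
agreeing with `θ` on the hyperfocal subgroup.
-/

set_option autoImplicit false

namespace CfsgLib.FusionNormal

open Cfsg Cfsg.FusionSystem CfsgLib.Fusion
open scoped IsMulCommutative

universe u

variable {Ω : Type u} [Group Ω] {S : Subgroup Ω} {F : FusionSystem S} {p : ℕ}
variable {A : Type u} [Group A]

theorem mul_inv_central {Z : Subgroup A} (hZc : Z ≤ Subgroup.center A) {a b c d : A}
    (h : b⁻¹ * a ∈ Z) :
    (b * d)⁻¹ * (a * c) = (b⁻¹ * a) * (d⁻¹ * c) := by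
  rw [← mul_assoc (b⁻¹ * a), ← Subgroup.mem_center_iff.mp (hZc h) d⁻¹]
  group

/-- The pairs `(s, a)` with `θ s⁻¹ a` central. -/
def centralPairs (θ : S →* A) (Z : Subgroup A) (hZc : Z ≤ Subgroup.center A) : Subgroup (Ω × A) where
  carrier := {x | ∃ h : x.1 ∈ S, (θ ⟨x.1, h⟩)⁻¹ * x.2 ∈ Z}
  one_mem' := ⟨S.one_mem, by
    show (θ 1)⁻¹ * 1 ∈ _
    simp [Subgroup.one_mem]⟩
  mul_mem' := by
    rintro x y ⟨hx, hx'⟩ ⟨hy, hy'⟩
    refine ⟨S.mul_mem hx hy, ?_⟩
    show (θ (⟨x.1, hx⟩ * ⟨y.1, hy⟩))⁻¹ * (x.2 * y.2) ∈ _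
    rw [map_mul, mul_inv_central hZc hx']
    exact mul_mem hx' hy'
  inv_mem' := by
    rintro x ⟨hx, hx'⟩
    refine ⟨S.inv_mem hx, ?_⟩
    show (θ (⟨x.1, hx⟩⁻¹))⁻¹ * x.2⁻¹ ∈ _
    have h1 := inv_mem hx'
    rw [mul_inv_rev, inv_inv] at h1
    rw [map_inv, inv_inv]
    have h2 : θ ⟨x.1, hx⟩ * x.2⁻¹ = x.2⁻¹ * θ ⟨x.1, hx⟩ := by
      have h3 := Subgroup.mem_center_iff.mp (hZc h1) x.2
      rw [← mul_assoc, mul_inv_cancel, one_mul] at h3
      conv_lhs => rw [h3]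
      group
    rw [h2]
    exact h1

theorem centralPairs_le (θ : S →* A) (Z : Subgroup A) (hZc : Z ≤ Subgroup.center A) :
    centralPairs θ Z hZc ≤ S.prod ⊤ :=
  fun _ ⟨h, _⟩ => ⟨h, Subgroup.mem_top _⟩

/-- The difference `(s, a) ↦ θ s⁻¹ a`. -/
def centralDiff (θ : S →* A) (Z : Subgroup A) (hZc : Z ≤ Subgroup.center A) :
    centralPairs θ Z hZc →* Z where
  toFun x := ⟨(θ ⟨x.1.1, x.2.1⟩)⁻¹ * x.1.2, x.2.2⟩
  map_one' := Subtype.ext (by show (θ 1)⁻¹ * 1 = 1; simp)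
  map_mul' x y := Subtype.ext (by
    show (θ (⟨x.1.1, x.2.1⟩ * ⟨y.1.1, y.2.1⟩))⁻¹ * (x.1.2 * y.1.2) = _
    rw [map_mul, mul_inv_central hZc x.2.2]
    rfl)

theorem mem_centralPairs_mk {θ : S →* A} {Z : Subgroup A} {hZc : Z ≤ Subgroup.center A} {s : Ω}
    (hs : s ∈ S) {a : A} : (s, a) ∈ centralPairs θ Z hZc ↔ (θ ⟨s, hs⟩)⁻¹ * a ∈ Z :=
  ⟨fun ⟨_, h⟩ => h, fun h => ⟨hs, h⟩⟩

variable [Finite S] [Fact p.Prime] [Finite A]

/-- The hyperfocal subgroup of `F × A` lies among the pairs. -/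
theorem hyperfocal_prod_le (hA : IsPGroup p A) (θ : S →* A)
    (Z : Subgroup A) (hZc : Z ≤ Subgroup.center A)
    (hc : ∀ t : S, (t : Ω) ∈ F.hyperfocalSubgroup p → θ t ∈ Z) :
    (FusionProduct.prodSystem F (innerFusionSystem (⊤ : Subgroup A))).hyperfocalSubgroup p ≤
      (centralPairs θ Z hZc) := by
  set G := FusionProduct.prodSystem F (innerFusionSystem (⊤ : Subgroup A))
  rw [FusionSystem.hyperfocalSubgroup, Subgroup.closure_le]
  rintro _ ⟨P, α, x, hP, hα, rfl⟩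
  let K : Subgroup (G.autGroup P) :=
    { carrier := {α | ∀ x : P, (x : Ω × A)⁻¹ * ((α : MulAut P) x : P) ∈ (centralPairs θ Z hZc)}
      one_mem' := fun x => by simp [Subgroup.one_mem]
      mul_mem' := fun {a b} ha hb x => by
        have := mul_mem (hb x) (ha ((b : MulAut P) x))
        simpa [mul_assoc] using this
      inv_mem' := fun {a} ha x => by
        have := inv_mem (ha (((a : MulAut P)⁻¹) x))
        simpa [mul_inv_rev] using this }
  refine (CfsgLib.Transfer.pResidual_le_iff.mpr fun β hβ => ?_ : pResidual p (G.autGroup P) ≤ K) hα x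
  obtain ⟨f, hf, hfP, hfe⟩ := exists_mapFn_of_aut hP β.2
  obtain ⟨φ, ⟨-, φ₁, hφ₁, φ₂, ⟨-, g, -, hg⟩, hφ⟩, hφe⟩ := hf
  have hval : ∀ x : P, f x = (φ₁ ⟨(x : Ω × A).1, ⟨x, x.2, rfl⟩⟩, g * (x : Ω × A).2 * g⁻¹) := fun x => by
    rw [← hφe, hφ x ⟨x, x.2, rfl⟩ ⟨x, x.2, rfl⟩, hg]
  set m := orderOf β with hm
  have hfm : ∀ x ∈ P, f^[m] x = x := by
    intro x hx
    have hpow : ∀ (n : ℕ) (x : P), ((((β : MulAut P) ^ n) x : P) : Ω × A) = f^[n] (x : Ω × A) := by
      intro n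
      induction n with
      | zero => intro x; rfl
      | succ n ih =>
        intro x
        rw [pow_succ, MulAut.mul_apply, ih, ← hfe, Function.iterate_succ_apply]
    rw [← hpow m ⟨x, hx⟩, ← Subgroup.coe_pow, hm, pow_orderOf_eq_one]
    rfl
  have hg₂ : ∀ (n : ℕ) (x : Ω × A), x ∈ P → (f^[n] x).2 = g ^ n * x.2 * (g ^ n)⁻¹ := by
    intro n x hx
    induction n with
    | zero => simp
    | succ n ih =>
      rw [Function.iterate_succ_apply', hval ⟨_, iterate_mem hfP n hx⟩]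
      simp [ih, pow_succ', mul_assoc]
  have hcomm : ∀ x ∈ P, Commute g x.2 := by
    intro x hx
    have h1 : Commute (g ^ m) x.2 := by
      have h2 := hg₂ m x hx
      rw [hfm x hx, eq_mul_inv_iff_mul_eq] at h2
      exact h2.symm
    obtain ⟨d, hgd⟩ := exists_pow_eq_self_of_coprime
      ((hA.orderOf_coprime (Nat.Coprime.symm hβ) g).symm)
    exact hgd ▸ h1.pow_left d
  have hP₁ : P.map (MonoidHom.fst Ω A) ≤ S := Fusion.le_S hφ₁
  obtain ⟨f₁, hf₁, hf₁e⟩ := mapFn_of_hom hφ₁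
  have hfst : ∀ (n : ℕ) (x : Ω × A), x ∈ P → (f^[n] x).1 = f₁^[n] x.1 := by
    intro n x hx
    induction n with
    | zero => rfl
    | succ n ih =>
      rw [Function.iterate_succ_apply', Function.iterate_succ_apply', hval ⟨_, iterate_mem hfP n hx⟩,
        hf₁e, ← ih]
  have hr₁ : f₁ '' (P.map (MonoidHom.fst Ω A) : Set Ω) = (P.map (MonoidHom.fst Ω A) : Set Ω) := by
    refine hf₁.image_eq_of_maps hP₁ ?_ le_rfl
    rintro _ ⟨y, hy, rfl⟩
    exact ⟨f y, mem_of_image hfP hy, hfst 1 y hy⟩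
  obtain ⟨α₁, hα₁, hα₁e⟩ := hf₁.exists_aut hr₁
  have hα₁m : α₁ ^ m = 1 := by
    have hpow : ∀ (n : ℕ) (z : P.map (MonoidHom.fst Ω A)),
        (((α₁ ^ n) z : P.map (MonoidHom.fst Ω A)) : Ω) = f₁^[n] (z : Ω) := by
      intro n
      induction n with
      | zero => intro z; rfl
      | succ n ih =>
        intro z
        rw [pow_succ, MulAut.mul_apply, ih, hα₁e, Function.iterate_succ_apply]
    refine MulEquiv.ext fun z => Subtype.ext ?_
    obtain ⟨_, ⟨y, hy, rfl⟩⟩ := z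
    rw [hpow]
    show f₁^[m] y.1 = y.1
    rw [← hfst m y hy, hfm y hy]
  have hres : (⟨α₁, hα₁⟩ : F.autGroup _) ∈ pResidual p (F.autGroup (P.map (MonoidHom.fst Ω A))) :=
    CfsgLib.Transfer.mem_pResidual (Nat.Coprime.coprime_dvd_left
      (orderOf_dvd_of_pow_eq_one (Subtype.ext (by simpa using hα₁m))) hβ)
  intro x
  have ht := mem_hyperfocal hP₁ hres ⟨(x : Ω × A).1, ⟨x, x.2, rfl⟩⟩
  simp only [hα₁e] at ht
  have hfx : (((β : MulAut P) x : P) : Ω × A) = f x := (hfe x).symm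
  have h2 : (x : Ω × A)⁻¹ * (((β : MulAut P) x : P) : Ω × A) = ((x : Ω × A).1⁻¹ * f₁ (x : Ω × A).1, 1) := by
    rw [hfx, hval, hf₁e]
    refine Prod.ext rfl ?_
    show (x : Ω × A).2⁻¹ * (g * (x : Ω × A).2 * g⁻¹) = 1
    rw [(hcomm x x.2).eq]; group
  rw [h2]
  have htS := hyperfocal_le F p ht
  rw [mem_centralPairs_mk htS, mul_one]
  exact inv_mem (hc ⟨_, htS⟩ ht)

/-- A homomorphism into a `p`-group, central on the hyperfocal subgroup, agrees there with a
homomorphism of `S` into the given central subgroup. -/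
theorem exists_central_hom (hS : IsPGroup p S) (hF : F.IsSaturated p) (hA : IsPGroup p A) (θ : S →* A)
    (Z : Subgroup A) (hZc : Z ≤ Subgroup.center A)
    (hc : ∀ t : S, (t : Ω) ∈ F.hyperfocalSubgroup p → θ t ∈ Z) :
    ∃ v : S →* Z, ∀ t : S, (t : Ω) ∈ F.hyperfocalSubgroup p → (v t : A) = θ t := by
  have htop : IsPGroup p (⊤ : Subgroup A) := hA.to_subgroup ⊤
  have hpS := FusionProduct.isPGroup_prod hS htop
  have hG := FusionProduct.prod_saturated hS htop hF (inner_saturated htop)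
  haveI : Finite ↥(S.prod (⊤ : Subgroup A)) := Finite.of_equiv _ (Subgroup.prodEquiv S ⊤).symm.toEquiv
  obtain ⟨E, hE, hEi⟩ := exists_pIndex hpS hG (centralPairs_le θ Z hZc) (hyperfocal_prod_le hA θ Z hZc hc)
  haveI : Finite ↥((centralPairs θ Z hZc)) := finite_of_le (centralPairs_le θ Z hZc)
  obtain ⟨B⟩ := exists_biset (hpS.to_le (centralPairs_le θ Z hZc)) hE
  haveI : IsMulCommutative Z := ⟨⟨fun a b => Subtype.ext (Subgroup.mem_center_iff.mp (hZc b.2) a)⟩⟩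
  set V := B.transfer (centralDiff θ Z hZc) with hV
  have hmem1 : ∀ t : S, (t : Ω) ∈ F.hyperfocalSubgroup p → ((t : Ω), (1 : A)) ∈ (centralPairs θ Z hZc) :=
    fun t ht => (mem_centralPairs_mk t.2).mpr (by rw [mul_one]; exact inv_mem (hc t ht))
  -- the transfer kills the hyperfocal subgroup
  let M : Subgroup Ω :=
    { carrier := {t | ∃ (hs : t ∈ S) (hm : (t, (1 : A)) ∈ (centralPairs θ Z hZc)), V ⟨(t, 1), hm⟩ = 1}
      one_mem' := ⟨S.one_mem, ((centralPairs θ Z hZc)).one_mem, map_one V⟩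
      mul_mem' := by
        rintro a b ⟨ha, ha', hVa⟩ ⟨hb, hb', hVb⟩
        have hab : (a * b, (1 : A)) ∈ (centralPairs θ Z hZc) := by simpa using mul_mem ha' hb'
        refine ⟨S.mul_mem ha hb, hab, ?_⟩
        rw [show (⟨(a * b, 1), hab⟩ : (centralPairs θ Z hZc)) = ⟨_, ha'⟩ * ⟨_, hb'⟩ from Subtype.ext (by simp),
          map_mul, hVa, hVb, one_mul]
      inv_mem' := by
        rintro a ⟨ha, ha', hVa⟩
        have hai : (a⁻¹, (1 : A)) ∈ (centralPairs θ Z hZc) := by simpa using inv_mem ha'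
        refine ⟨S.inv_mem ha, hai, ?_⟩
        rw [show (⟨(a⁻¹, 1), hai⟩ : (centralPairs θ Z hZc)) = ⟨_, ha'⟩⁻¹ from Subtype.ext (by simp),
          map_inv, hVa, inv_one] }
  have hM : F.hyperfocalSubgroup p ≤ M := by
    rw [FusionSystem.hyperfocalSubgroup, Subgroup.closure_le]
    rintro _ ⟨P, α, x, hP, hα, rfl⟩
    let K : Subgroup (F.autGroup P) :=
      { carrier := {α | ∀ x : P, (x : Ω)⁻¹ * ((α : MulAut P) x : P) ∈ M}
        one_mem' := fun x => by simp [Subgroup.one_mem]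
        mul_mem' := fun {a b} ha hb x => by
          have := mul_mem (hb x) (ha ((b : MulAut P) x))
          simpa [mul_assoc] using this
        inv_mem' := fun {a} ha x => by
          have := inv_mem (ha (((a : MulAut P)⁻¹) x))
          simpa [mul_inv_rev] using this }
    refine (CfsgLib.Transfer.pResidual_le_iff.mpr fun β hβ => ?_ : pResidual p (F.autGroup P) ≤ K) hα x
    intro x
    have hhyp : ∀ (γ : F.autGroup P), γ ∈ pResidual p (F.autGroup P) → ∀ (z : P) (a : A),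
        ((z : Ω), a) ∈ (centralPairs θ Z hZc) → ((((γ : MulAut P) z : P) : Ω), a) ∈ (centralPairs θ Z hZc) := by
      intro γ hγ z a hza
      have ht := mem_hyperfocal hP hγ z
      have hts := hyperfocal_le F p ht
      have hm := mul_mem hza (hmem1 ⟨_, hts⟩ ht)
      simpa using hm
    have hβr := CfsgLib.Transfer.mem_pResidual (p := p) hβ
    set P' : Subgroup (Ω × A) := P.prod ⊤ ⊓ (centralPairs θ Z hZc)
    let e : MulAut P' :=
      { toFun := fun z => ⟨((((β : MulAut P) ⟨z.1.1, z.2.1.1⟩ : P) : Ω), z.1.2),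
          ⟨Subtype.mem _, Subgroup.mem_top _⟩, hhyp β hβr ⟨z.1.1, z.2.1.1⟩ z.1.2 z.2.2⟩
        invFun := fun z => ⟨((((β⁻¹ : F.autGroup P) : MulAut P) ⟨z.1.1, z.2.1.1⟩ : P), z.1.2),
          ⟨Subtype.mem _, Subgroup.mem_top _⟩,
          hhyp β⁻¹ (inv_mem hβr) ⟨z.1.1, z.2.1.1⟩ z.1.2 z.2.2⟩
        left_inv := fun z => Subtype.ext (Prod.ext
          (congrArg Subtype.val (MulAut.inv_apply_self _ (β : MulAut P) ⟨z.1.1, z.2.1.1⟩)) rfl)
        right_inv := fun z => Subtype.ext (Prod.ext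
          (congrArg Subtype.val (MulAut.apply_inv_self _ (β : MulAut P) ⟨z.1.1, z.2.1.1⟩)) rfl)
        map_mul' := fun z w => Subtype.ext (Prod.ext
          (congrArg Subtype.val (map_mul (β : MulAut P) ⟨z.1.1, z.2.1.1⟩ ⟨w.1.1, w.2.1.1⟩)) rfl) }
    have hP'S : P' ≤ (centralPairs θ Z hZc) := inf_le_right
    have heG : e ∈ (FusionProduct.prodSystem F (innerFusionSystem (⊤ : Subgroup A))).autGroup P' := by
      refine (mem_autGroup (hP'S.trans (centralPairs_le θ Z hZc))).mpr ?_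
      obtain ⟨φ, hφ, hφe⟩ := FusionProduct.pair_mem (F₂ := innerFusionSystem (⊤ : Subgroup A))
        ((mem_autGroup hP).mp β.2) (subtype_mem (F := innerFusionSystem (⊤ : Subgroup A)) le_rfl)
        (P := P') inf_le_left
      exact restrict_of le_rfl hφ fun z => (hφe z).symm
    have hord : ∀ (n : ℕ) (z : P'), ((e ^ n) z : Ω × A) =
        (((((β : MulAut P) ^ n) ⟨z.1.1, z.2.1.1⟩ : P) : Ω), z.1.2) := by
      intro n
      induction n with
      | zero => intro z; rfl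
      | succ n ih =>
        intro z
        rw [pow_succ, MulAut.mul_apply, ih, pow_succ]
        rfl
    have hem : e ^ orderOf β = 1 := by
      refine MulEquiv.ext fun z => Subtype.ext ?_
      rw [hord, ← Subgroup.coe_pow, pow_orderOf_eq_one]
      rfl
    have heE := mem_autGroup_of_residual hEi hP'S (a := ⟨e, heG⟩) (CfsgLib.Transfer.mem_pResidual
      (Nat.Coprime.coprime_dvd_left (orderOf_dvd_of_pow_eq_one (Subtype.ext (by simpa using hem))) hβ))
    have ht := mem_hyperfocal hP hβr x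
    have hts := hyperfocal_le F p ht
    refine ⟨hts, hmem1 ⟨_, hts⟩ ht, ?_⟩
    have hz : ((x : Ω), θ ⟨x, hP x.2⟩) ∈ P' := ⟨⟨x.2, Subgroup.mem_top _⟩,
      (mem_centralPairs_mk (hP x.2)).mpr (by rw [inv_mul_cancel]; exact Subgroup.one_mem _)⟩
    have hst := B.transfer_stable (centralDiff θ Z hZc) ((mem_autGroup hP'S).mp heE) ⟨_, hz⟩
    have h1 := inv_mul_eq_one.mpr hst.symm
    rw [← map_inv, ← map_mul] at h1
    refine Eq.trans (congrArg V (Subtype.ext ?_)) h1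
    refine Prod.ext rfl ?_
    show (1 : A) = (θ ⟨x, _⟩)⁻¹ * θ ⟨x, _⟩
    rw [inv_mul_cancel]
  -- the transfer on `s ↦ (s, θ s)`
  let ι : S →* (centralPairs θ Z hZc) :=
    { toFun := fun s => ⟨((s : Ω), θ s), (mem_centralPairs_mk s.2).mpr (by
        rw [inv_mul_cancel]; exact Subgroup.one_mem _)⟩
      map_one' := Subtype.ext (Prod.ext rfl (map_one θ))
      map_mul' := fun a b => Subtype.ext (Prod.ext rfl (map_mul θ a b)) }
  have hcopr : ¬ p ∣ Nat.card B.Orb := B.not_dvd_card_orb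
  have hZ : IsPGroup p Z := hA.to_subgroup _
  let e₀ : Z ≃* Z :=
    { hZ.powEquiv' hcopr with map_mul' := fun a b => mul_pow a b _ }
  refine ⟨e₀.symm.toMonoidHom.comp (V.comp ι), fun t ht => ?_⟩
  obtain ⟨hs, hm, hVt⟩ := hM ht
  have hz1 : ((1 : Ω), θ t) ∈ (centralPairs θ Z hZc) := (mem_centralPairs_mk S.one_mem).mpr (by
    show (θ 1)⁻¹ * θ t ∈ _
    rw [map_one, inv_one, one_mul]; exact hc t ht)
  have hpow : V ⟨_, hz1⟩ = centralDiff θ Z hZc ⟨_, hz1⟩ ^ Nat.card B.Orb := by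
    refine B.transfer_eq_pow_on (centralDiff θ Z hZc)
      (((MonoidHom.fst Ω A).comp ((centralPairs θ Z hZc)).subtype).ker) (fun P φ hφ x hx => ?_) rfl
    obtain ⟨-, φ₁, hφ₁, φ₂, ⟨-, g, -, hg⟩, hφe⟩ := hEi.1 P hφ
    have h1 := hφe x ⟨x, x.2, rfl⟩ ⟨x, x.2, rfl⟩
    have hx1 : (x : Ω × A).1 = 1 := by
      rcases hx with hx | hx
      · exact hx
      · change (φ x).1 = 1 at hx
        rw [h1] at hx
        exact congrArg Subtype.val ((map_eq_one_iff φ₁ (F.injective_of_mem hφ₁)).mp hx)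
    have hφx1 : (φ x).1 = 1 := by
      rw [h1]
      exact (congrArg φ₁ (Subtype.ext hx1 : _ = (1 : P.map (MonoidHom.fst Ω A)))).trans (map_one φ₁)
    obtain ⟨hxS, hxc⟩ := (Fusion.le_S hφ) x.2
    have hxc' : (x : Ω × A).2 ∈ Z := by
      rw [show (⟨(x : Ω × A).1, hxS⟩ : S) = 1 from Subtype.ext hx1, map_one, inv_one, one_mul] at hxc
      exact hxc
    refine Subtype.ext ?_
    show (θ ⟨(φ x).1, _⟩)⁻¹ * (φ x).2 = (θ ⟨(x : Ω × A).1, _⟩)⁻¹ * (x : Ω × A).2
    rw [show (⟨(φ x).1, (apply_mem_S hφ x).1⟩ : S) = 1 from Subtype.ext hφx1,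
      show (⟨(x : Ω × A).1, hxS⟩ : S) = 1 from Subtype.ext hx1, h1]
    congr 1
    show φ₂ _ = _
    rw [hg, Subgroup.mem_center_iff.mp (hZc hxc') g]
    group
  have hι : ι t = ⟨_, hm⟩ * ⟨_, hz1⟩ := Subtype.ext (Prod.ext (mul_one _).symm (one_mul _).symm)
  show ((e₀.symm (V (ι t)) : Z) : A) = θ t
  rw [hι, map_mul, hVt, one_mul, hpow]
  have h2 : e₀.symm (centralDiff θ Z hZc ⟨_, hz1⟩ ^ Nat.card B.Orb) = centralDiff θ Z hZc ⟨_, hz1⟩ :=
    e₀.symm_apply_apply _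
  rw [h2]
  show (θ ⟨(1 : Ω), _⟩)⁻¹ * θ t = θ t
  rw [show (⟨(1 : Ω), hz1.1⟩ : S) = 1 from rfl, map_one, inv_one, one_mul]

end CfsgLib.FusionNormal
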