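import Cfsg.Agent.Lib.Fusion.Transfer

/-!
# The transfer on elements fixed by every map
-/

set_option autoImplicit false

namespace CfsgLib.Fusion.StableBiset

open Cfsg Cfsg.FusionSystem CfsgLib.Fusion
open MulAction

variable {Ω : Type*} [Group Ω] {S : Subgroup Ω} {F : FusionSystem S} {p : ℕ} (B : StableBiset F p)
variable {A : Type*} [CommGroup A]

/-- On a subgroup `C` on whose conjugates `h` is invariant, the transfer is the `|X/S|`-th power. -/
theorem transfer_eq_pow_on [Finite S] (h : S →* A) (C : Subgroup S)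
    (hh : ∀ (P : Subgroup Ω) (φ : P →* Ω) (hφ : φ ∈ F.Hom P) (x : P),
      ((⟨x, le_S hφ x.2⟩ : S) ∈ C ∨ (⟨φ x, apply_mem_S hφ x⟩ : S) ∈ C) →
      h ⟨φ x, apply_mem_S hφ x⟩ = h ⟨x, le_S hφ x.2⟩) {a : S} (ha : a ∈ C) :
    B.transfer h a = h a ^ Nat.card B.Orb := by
  classical
  let _ := Fintype.ofFinite B.Orb
  let W : Subgroup (↥S × ↥S) := C.prod ⊤
  let d : ↥S × ↥S →* A :=
    { toFun := fun g => h g.1 * (h g.2)⁻¹
      map_one' := by simp
      map_mul' := fun g g' => by simp [mul_inv_rev, mul_comm, mul_assoc, mul_left_comm] }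
  let base : B.X → B.X := fun x => (Quotient.mk (MulAction.orbitRel W B.X) x).out
  have hbase : ∀ x, ∃ g : W, g • base x = x := by
    intro x
    have : base x ∈ orbit W x := Quotient.mk_out (s := MulAction.orbitRel W B.X) x
    obtain ⟨g, hg⟩ := this
    exact ⟨g⁻¹, by rw [← hg]; simp⟩
  choose gg hgg using hbase
  have hstab : ∀ (x : B.X) (g : W), g • x = x → d g = 1 := by
    intro x g hg
    obtain ⟨P, ψ, hψ, φ, hφ, he⟩ := B.isTw_stab x
    obtain ⟨y, hy₁, hy₂⟩ := he.le (show (g : ↥S × ↥S) ∈ stabilizer (↥S × ↥S) x from hg)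
    have e₁ : (g : ↥S × ↥S).1 = ⟨ψ y, apply_mem_S hψ y⟩ := Subtype.ext hy₁
    have e₂ : (g : ↥S × ↥S).2 = ⟨φ y, apply_mem_S hφ y⟩ := Subtype.ext hy₂
    show h (g : ↥S × ↥S).1 * (h (g : ↥S × ↥S).2)⁻¹ = 1
    have hC : (⟨ψ y, apply_mem_S hψ y⟩ : S) ∈ C := e₁ ▸ g.2.1
    obtain ⟨χ, hχ, hχe⟩ := F.inv_mem hψ
    obtain ⟨ρ, hρ, hρe⟩ := exists_comp hχ hφ (fun z => by
      obtain ⟨_, w, rfl⟩ := z
      rw [hχe]; exact w.2)
    have h1 := hh _ ρ hρ ⟨ψ y, ⟨y, rfl⟩⟩ (Or.inl hC)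
    rw [mul_inv_eq_one, e₁, e₂, ← h1]
    exact congrArg h (Subtype.ext ((hρe _).trans (apply_eq_of_coe_eq (φ := φ) (hχe y))))
  have hg : ∀ (g : W) (x : B.X), d (gg (g • x)) = d g * d (gg x) := by
    intro g x
    have hb : base (g • x) = base x :=
      congrArg Quotient.out (Quotient.sound (s := MulAction.orbitRel W B.X) ⟨g, rfl⟩)
    have h1 : ((gg (g • x))⁻¹ * (g * gg x)) • base x = base x := by
      rw [mul_smul, mul_smul, hgg, inv_smul_eq_iff, ← hb, hgg]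
    have h2 := hstab _ _ h1
    simp only [Subgroup.coe_mul, Subgroup.coe_inv, map_mul, map_inv, inv_mul_eq_one] at h2
    exact h2
  have hc : ∀ o, h (B.coeff a o) = h a * d (gg (B.pt o)) * (d (gg (B.pt (B.perm a o))))⁻¹ := by
    intro o
    let g : W := ⟨(a, B.coeff a o), ha, Subgroup.mem_top _⟩
    have h1 : g • B.pt o = B.pt (B.perm a o) := B.coeff_spec a o
    rw [← h1, hg]
    show _ = _ * _ * (h a * (h (B.coeff a o))⁻¹ * _)⁻¹
    simp [mul_inv_rev, mul_comm, mul_left_comm]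
  rw [transfer_apply]
  simp only [hc, Finset.prod_mul_distrib, Finset.prod_inv_distrib]
  rw [show ∏ o, d (gg (B.pt (B.perm a o))) = ∏ o, d (gg (B.pt o)) from
    Equiv.prod_comp (B.permEquiv a) fun o => d (gg (B.pt o))]
  rw [mul_assoc, mul_inv_cancel, mul_one, Finset.prod_const, Finset.card_univ, Nat.card_eq_fintype_card]

end CfsgLib.Fusion.StableBiset
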